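import Cfsg.Agent.Omega.NO1.Comp.Tens

/-!
# THEOREM COMP (#17539), part (II)(a): the field of an irreducible action (helper789)

* `exists_field` : `S` a set of additive endomorphisms, irreducible on the finite group `V` : the additive endomorphisms
  that commute with `S` are the scalars of a finite field `K`; an additive automorphism that normalises `S` is
  `K`-semilinear.
* `exists_field_grp` : the same for a subgroup `E` of a group that acts on `V`.
* `two_of` : for `E = L C`, `L` and `C` commuting, the hypothesis `Two` of the tensor decomposition.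
-/

set_option autoImplicit false

namespace Cfsg.Agent.Omega.NO1.Comp

open Module TensorProduct

universe u

section Set

variable {V : Type u} [AddCommGroup V]

/-- the subring generated by `S` leaves an `S`-invariant subgroup invariant -/
theorem closure_inv {S : Set (AddMonoid.End V)} {W : AddSubgroup V} (h : ∀ s ∈ S, ∀ w ∈ W, s w ∈ W) :
    ∀ r ∈ Subring.closure S, ∀ w ∈ W, r w ∈ W := by
  intro r hr
  induction hr using Subring.closure_induction with
  | mem x hx => exact h x hx
  | zero => intro w _; exact W.zero_mem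
  | one => intro w hw; exact hw
  | add x y _ _ hx hy => intro w hw; exact W.add_mem (hx w hw) (hy w hw)
  | neg x _ hx => intro w hw; exact W.neg_mem (hx w hw)
  | mul x y _ _ hx hy => intro w hw; exact hx _ (hy w hw)

/-- what commutes with `S` commutes with the subring -/
theorem closure_comm {S : Set (AddMonoid.End V)} {f : V →+ V} (h : ∀ s ∈ S, ∀ v, f (s v) = s (f v)) :
    ∀ r ∈ Subring.closure S, ∀ v, f (r v) = r (f v) := by
  intro r hr
  induction hr using Subring.closure_induction with
  | mem x hx => exact h x hx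
  | zero => intro w; exact map_zero f
  | one => intro w; rfl
  | add x y _ _ hx hy =>
    intro w
    show f (x w + y w) = x (f w) + y (f w)
    rw [map_add, hx, hy]
  | neg x _ hx =>
    intro w
    show f (-(x w)) = -(x (f w))
    rw [map_neg, hx]
  | mul x y _ _ hx hy =>
    intro w
    show f (x (y w)) = x (y (f w))
    rw [hx, hy]

/-- **the field of an irreducible action** -/
theorem exists_field [Finite V] [Nontrivial V] (S : Set (AddMonoid.End V))
    (irr : ∀ W : AddSubgroup V, (∀ s ∈ S, ∀ w ∈ W, s w ∈ W) → W = ⊥ ∨ W = ⊤) :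
    ∃ (K : Type u) (_ : Field K) (_ : Finite K) (_ : Module K V),
      (∀ s ∈ S, ∀ (k : K) (v : V), s (k • v) = k • s v) ∧
      (∀ f : V →+ V, (∀ s ∈ S, ∀ v, f (s v) = s (f v)) → ∃ k : K, ∀ v, f v = k • v) ∧
      (∀ g : V ≃+ V, (∀ s ∈ S, ∃ s' ∈ Subring.closure S, ∀ v, s (g v) = g (s' v)) →
        (∀ s ∈ S, ∃ s' ∈ Subring.closure S, ∀ v, s (g.symm v) = g.symm (s' v)) →
        ∃ σ : K ≃+* K, ∀ (k : K) (v : V), g (k • v) = σ k • g v) := by
  classical
  let R := Subring.closure S
  have hsim : IsSimpleModule R V := by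
    rw [isSimpleModule_iff]
    refine { exists_pair_ne := ⟨⊥, ⊤, bot_ne_top⟩, eq_bot_or_eq_top := fun U => ?_ }
    rcases irr U.toAddSubgroup (fun s hs w hw => U.smul_mem (⟨s, Subring.subset_closure hs⟩ : R) hw)
      with h1 | h1
    · left
      ext w
      rw [← Submodule.mem_toAddSubgroup, h1]; rfl
    · right
      ext w
      rw [← Submodule.mem_toAddSubgroup, h1]
      exact ⟨fun _ => trivial, fun _ => trivial⟩
  have hfin : Finite (Module.End R V) := Finite.of_injective (fun f : Module.End R V => (f : V → V))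
    DFunLike.coe_injective
  have hcomm : ∀ f : V →+ V, (∀ s ∈ S, ∀ v, f (s v) = s (f v)) →
      ∃ k : Module.End R V, ∀ v, f v = k v := by
    intro f hf
    exact ⟨{ toFun := f, map_add' := map_add f, map_smul' := fun r v => closure_comm hf r r.2 v }, fun v => rfl⟩
  have hmem : ∀ s ∈ S, ∀ (k : Module.End R V) (v : V), s (k v) = k (s v) := by
    intro s hs k v
    exact (map_smul k (⟨s, Subring.subset_closure hs⟩ : R) v).symm
  have hconj : ∀ g : V ≃+ V, (∀ s ∈ S, ∃ s' ∈ Subring.closure S, ∀ v, s (g v) = g (s' v)) →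
      ∀ k : Module.End R V, ∃ k' : Module.End R V, ∀ v, k' v = g (k (g.symm v)) := by
    intro g hg k
    obtain ⟨k', hk'⟩ := hcomm ((g : V →+ V).comp ((k : V →+ V).comp (g.symm : V →+ V))) (by
      intro s hs v
      obtain ⟨s', hs', h1⟩ := hg s hs
      show g (k (g.symm (s v))) = s (g (k (g.symm v)))
      rw [h1]
      have h2 : s v = g (s' (g.symm v)) := by
        have h3 := h1 (g.symm v)
        rwa [g.apply_symm_apply] at h3
      rw [h2, g.symm_apply_apply]
      exact congrArg g (map_smul k (⟨s', hs'⟩ : R) (g.symm v)))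
    exact ⟨k', fun v => (hk' v).symm⟩
  have hiso : ∀ g : V ≃+ V, (∀ s ∈ S, ∃ s' ∈ Subring.closure S, ∀ v, s (g v) = g (s' v)) →
        (∀ s ∈ S, ∃ s' ∈ Subring.closure S, ∀ v, s (g.symm v) = g.symm (s' v)) →
        ∃ σ : Module.End R V ≃+* Module.End R V, ∀ (k : Module.End R V) (v : V), g (k v) = σ k (g v) := by
    intro g hg hg'
    choose a ha using hconj g hg
    choose b hb using hconj g.symm hg'
    refine ⟨{ toFun := a, invFun := b, left_inv := ?_, right_inv := ?_, map_mul' := ?_, map_add' := ?_ }, ?_⟩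
    · intro k
      ext v
      rw [hb, AddEquiv.symm_symm, ha, g.symm_apply_apply, g.symm_apply_apply]
    · intro k
      ext v
      rw [ha, hb, AddEquiv.symm_symm, g.apply_symm_apply, g.apply_symm_apply]
    · intro k l
      ext v
      rw [ha, Module.End.mul_apply, Module.End.mul_apply, ha, ha, g.symm_apply_apply]
    · intro k l
      ext v
      rw [ha, LinearMap.add_apply, LinearMap.add_apply, ha, ha, map_add]
    · intro k v
      show g (k v) = a k (g v)
      rw [ha, g.symm_apply_apply]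
  let _ : Field (Module.End R V) := littleWedderburn (Module.End R V)
  refine ⟨Module.End R V, inferInstance, hfin, Module.End.applyModule, hmem, ?_, ?_⟩
  · exact hcomm
  · exact hiso

end Set

section Grp

variable {X V : Type u} [Group X] [AddCommGroup V] [DistribMulAction X V]

/-- the additive endomorphisms of a set of group elements -/
def addSet (E : Set X) (V : Type u) [AddCommGroup V] [DistribMulAction X V] : Set (AddMonoid.End V) :=
  {f | ∃ y ∈ E, ∀ v, f v = y • v}

/-- the `K`-linear endomorphisms of a set of group elements -/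
def linSet (K : Type u) (V : Type u) [Field K] [AddCommGroup V] [DistribMulAction X V] [Module K V]
    (E : Set X) : Set (Module.End K V) :=
  {f | ∃ y ∈ E, ∀ v, f v = y • v}

/-- **the field of an irreducible group action** -/
theorem exists_field_grp [Finite V] [Nontrivial V] (E : Subgroup X)
    (irr : ∀ W : AddSubgroup V, (∀ y ∈ E, ∀ w ∈ W, y • w ∈ W) → W = ⊥ ∨ W = ⊤) :
    ∃ (K : Type u) (_ : Field K) (_ : Finite K) (_ : Module K V),
      (∀ y ∈ E, ∀ (k : K) (v : V), y • (k • v) = k • (y • v)) ∧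
      (∀ f : V →+ V, (∀ y ∈ E, ∀ v, f (y • v) = y • f v) → ∃ k : K, ∀ v, f v = k • v) ∧
      (∀ x ∈ Subgroup.normalizer (E : Set X), ∃ σ : K ≃+* K, ∀ (k : K) (v : V), x • (k • v) = σ k • (x • v)) := by
  have hm : ∀ y ∈ E, (DistribMulAction.toAddMonoidEnd X V y) ∈ addSet (E : Set X) V :=
    fun y hy => ⟨y, hy, fun v => rfl⟩
  obtain ⟨K, i1, i2, i3, h1, h2, h3⟩ := exists_field (addSet (E : Set X) V) (fun W hW =>
    irr W fun y hy w hw => hW _ (hm y hy) w hw)
  refine ⟨K, i1, i2, i3, fun y hy k v => h1 _ (hm y hy) k v, ?_, ?_⟩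
  · intro f hf
    apply h2 f
    rintro s ⟨y, hy, hs⟩ v
    rw [hs, hs]
    exact hf y hy v
  · intro x hx
    have key : ∀ x ∈ Subgroup.normalizer (E : Set X), ∀ s ∈ addSet (E : Set X) V,
        ∃ s' ∈ Subring.closure (addSet (E : Set X) V), ∀ v : V, s (x • v) = x • s' v := by
      rintro x hx s ⟨y, hy, hs⟩
      refine ⟨_, Subring.subset_closure (hm (x⁻¹ * y * x) ?_), fun v => ?_⟩
      · have h4 := (Subgroup.mem_normalizer_iff.1 ((Subgroup.normalizer (E : Set X)).inv_mem hx) y).1 hy
        rwa [inv_inv] at h4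
      · rw [hs]
        show y • x • v = x • ((x⁻¹ * y * x) • v)
        rw [smul_smul, smul_smul]
        congr 1
        group
    exact h3 (DistribMulAction.toAddEquiv V x) (key x hx) (key x⁻¹ ((Subgroup.normalizer (E : Set X)).inv_mem hx))

variable {K : Type u} [Field K] [Module K V]

/-- the stabiliser of an additive subgroup -/
def stabSub (W : AddSubgroup V) : Subgroup X where
  carrier := {y | (∀ w ∈ W, y • w ∈ W) ∧ ∀ w ∈ W, y⁻¹ • w ∈ W}
  one_mem' := ⟨fun w hw => by rwa [one_smul], fun w hw => by rwa [inv_one, one_smul]⟩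
  mul_mem' := by
    rintro a b ⟨h1, h2⟩ ⟨h3, h4⟩
    refine ⟨fun w hw => ?_, fun w hw => ?_⟩
    · rw [mul_smul]; exact h1 _ (h3 w hw)
    · rw [mul_inv_rev, mul_smul]; exact h4 _ (h2 w hw)
  inv_mem' := by
    rintro a ⟨h1, h2⟩
    exact ⟨h2, fun w hw => by rw [inv_inv]; exact h1 w hw⟩

/-- the elements that commute with an additive map -/
def commSub (f : V →+ V) : Subgroup X where
  carrier := {y | ∀ v, f (y • v) = y • f v}
  one_mem' := fun v => by rw [one_smul, one_smul]
  mul_mem' := by
    intro a b ha hb v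
    rw [mul_smul, mul_smul, ha, hb]
  inv_mem' := by
    intro a ha v
    have h1 := ha (a⁻¹ • v)
    rw [smul_inv_smul] at h1
    rw [h1, inv_smul_smul]

/-- **two commuting subgroups** -/
theorem two_of {L C : Subgroup X} (comm : ∀ l ∈ L, ∀ c ∈ C, l * c = c * l)
    (lin : ∀ y ∈ L ⊔ C, ∀ (k : K) (v : V), y • (k • v) = k • (y • v))
    (irr : ∀ W : AddSubgroup V, (∀ y ∈ L ⊔ C, ∀ w ∈ W, y • w ∈ W) → W = ⊥ ∨ W = ⊤)
    (sch : ∀ f : V →+ V, (∀ y ∈ L ⊔ C, ∀ v, f (y • v) = y • f v) → ∃ k : K, ∀ v, f v = k • v) :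
    Two (linSet K V (L : Set X)) (linSet K V (C : Set X)) := by
  have hL : ∀ y ∈ L, y ∈ L ⊔ C := fun y hy => (le_sup_left : L ≤ L ⊔ C) hy
  have hC : ∀ y ∈ C, y ∈ L ⊔ C := fun y hy => (le_sup_right : C ≤ L ⊔ C) hy
  let toE : ∀ y ∈ L ⊔ C, Module.End K V := fun y hy =>
    { toFun := fun v => y • v
      map_add' := fun u v => smul_add y u v
      map_smul' := fun k v => lin y hy k v }
  refine ⟨?_, ?_, ?_⟩
  · rintro f ⟨l, hl, hf⟩ g ⟨c, hc, hg⟩
    ext v
    rw [Module.End.mul_apply, Module.End.mul_apply, hf, hg, hg, hf, smul_smul, smul_smul, comm l hl c hc]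
  · intro U hUL hUC
    have hLs : L ≤ stabSub U.toAddSubgroup := fun y hy =>
      ⟨fun w hw => hUL (toE y (hL y hy)) ⟨y, hy, fun v => rfl⟩ w hw,
        fun w hw => hUL (toE y⁻¹ (hL _ (L.inv_mem hy))) ⟨y⁻¹, L.inv_mem hy, fun v => rfl⟩ w hw⟩
    have hCs : C ≤ stabSub U.toAddSubgroup := fun y hy =>
      ⟨fun w hw => hUC (toE y (hC y hy)) ⟨y, hy, fun v => rfl⟩ w hw,
        fun w hw => hUC (toE y⁻¹ (hC _ (C.inv_mem hy))) ⟨y⁻¹, C.inv_mem hy, fun v => rfl⟩ w hw⟩
    have key : ∀ y ∈ L ⊔ C, ∀ w ∈ U.toAddSubgroup, y • w ∈ U.toAddSubgroup :=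
      fun y hy => (sup_le hLs hCs hy).1
    rcases irr U.toAddSubgroup key with h1 | h1
    · left
      ext w
      rw [← Submodule.mem_toAddSubgroup, h1]; rfl
    · right
      ext w
      rw [← Submodule.mem_toAddSubgroup, h1]
      exact ⟨fun _ => trivial, fun _ => trivial⟩
  · intro f h1 h2
    have hLs : L ≤ commSub (f : V →+ V) := fun y hy v =>
      LinearMap.congr_fun (h1 (toE y (hL y hy)) ⟨y, hy, fun v => rfl⟩) v
    have hCs : C ≤ commSub (f : V →+ V) := fun y hy v =>
      LinearMap.congr_fun (h2 (toE y (hC y hy)) ⟨y, hy, fun v => rfl⟩) v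
    exact sch (f : V →+ V) fun y hy => sup_le hLs hCs hy

end Grp

end Cfsg.Agent.Omega.NO1.Comp
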