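import Cfsg.Agent.Omega.NO1.Comp.Lin
import Cfsg.Agent.Omega.NO1.TwoBr
import Cfsg.Agent.Omega.NO1.WRF.OfHyp
import Cfsg.Agent.Omega.NOne.Flat.Pfaff

/-!
# THEOREM COMP (bb OMEGA #17539): FLAT for a representation `Rep`

`R : Rep S P V Y M T Mx` (`M` is `V` additively, `Y` the group induced by `P`).

* `R.ag B : AddSubgroup M`, `R.im X : Subgroup Y` for `B, X ≤ G`; `R.faithfulSMul`;
* `R.flatA` : `FlatM V E F W`, `W ≤ P` imply `FlatA (R.im W) (R.ag E) (R.ag F)`;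
* `R.four`, `R.pf`, `R.rk` : the cardinalities of `KFlat`;
* `hyp_pf`, `hyp_nine`, `hyp_index_V1` : (PF), (9), `|V₁ : V₁ ∩ E| = |V_P : V_P ∩ E|` from 970's `Hyp V F`;
* `flatA_of_hyp` : everything for `V₀ ≤ V`, `V₀ ≰ E_F`.
-/

set_option autoImplicit false
set_option linter.unusedSectionVars false

namespace Cfsg.Agent.Omega.NO1

open Subgroup Cfsg Cfsg.Agent.ZN Cfsg.Agent.Omega.MinPar Cfsg.Agent.Omega.Frame
open Cfsg.Agent.Omega.NO1.WRF (FlatM)
open Cfsg.Agent.Omega.NO1.Comp (FlatA)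

universe u

namespace Rep

variable {G Y M : Type u} [Group G] {S P V : Subgroup G} [Group Y] [AddCommGroup M]
  [DistribMulAction Y M] {T : Sylow 2 Y} {Mx : Subgroup Y} (R : Rep S P V Y M T Mx)

theorem el_neg (m : M) : R.el (-m) = (R.el m)⁻¹ := by
  have h := R.add (-m) m
  rw [neg_add_cancel, R.el_zero] at h
  exact (inv_eq_of_mul_eq_one_left h.symm).symm

theorem el_comm (m n : M) : R.el m * R.el n = R.el n * R.el m := by rw [← R.add, add_comm, R.add]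

/-- the subgroup of the module -/
def ag (B : Subgroup G) : AddSubgroup M where
  carrier := {m | R.el m ∈ B}
  zero_mem' := by
    change R.el 0 ∈ B
    rw [R.el_zero]
    exact B.one_mem
  add_mem' := fun {a b} ha hb => by
    change R.el (a + b) ∈ B
    rw [R.add]
    exact B.mul_mem ha hb
  neg_mem' := fun {a} ha => by
    change R.el (-a) ∈ B
    rw [R.el_neg]
    exact B.inv_mem ha

theorem mem_ag {B : Subgroup G} {m : M} : m ∈ R.ag B ↔ R.el m ∈ B := Iff.rfl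

theorem im_isPGroup {X : Subgroup G} (hX : IsPGroup 2 X) : IsPGroup 2 (R.im X) := by
  rintro ⟨_, p, hp, rfl⟩
  obtain ⟨k, hk⟩ := hX ⟨p, hp⟩
  refine ⟨k, Subtype.ext ?_⟩
  have h1 : p ^ 2 ^ k = 1 := Subtype.ext (show (p : G) ^ 2 ^ k = 1 from congrArg Subtype.val hk)
  change R.ac p ^ 2 ^ k = 1
  rw [← map_pow, h1, map_one]

theorem im_le_T {X : Subgroup G} (hX : X ≤ S) : R.im X ≤ T := by
  rintro _ ⟨p, hp, rfl⟩
  exact (R.mem_T _).2 ⟨p, hX hp, rfl⟩

include R in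
theorem faithfulSMul : FaithfulSMul Y M where
  eq_of_smul_eq_smul := by
    intro a b h
    have h1 : b⁻¹ * a = 1 := R.faith _ fun m => by rw [mul_smul, h m, inv_smul_smul]
    exact (inv_mul_eq_one.1 h1).symm

include R in
theorem finite [Finite G] : Finite M := Finite.of_injective R.el R.inj

include R in
theorem finiteY [Finite G] : Finite Y := Finite.of_surjective R.ac R.acs

/-- `FlatM` to `FlatA` -/
theorem flatA {E F W : Subgroup G} (h : FlatM V E F W) (hWP : W ≤ P) :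
    FlatA (R.im W) (R.ag E) (R.ag F) where
  two := R.two
  F_iff v := by
    rw [mem_ag]
    constructor
    · rintro hv _ ⟨p, hp, rfl⟩
      refine R.inj ?_
      rw [R.smul]
      exact h.F_cent hv hp
    · intro hv
      refine h.mem_F (R.mem v) fun s hs => ?_
      have h1 := congrArg R.el (hv _ ⟨⟨s, hWP hs⟩, hs, rfl⟩)
      rw [R.smul] at h1
      exact h1
  VE := by
    rintro _ ⟨p, hp, rfl⟩ v
    rw [mem_ag, add_comm, R.add, R.smul]
    have h1 := h.VE p hp _ (R.mem v)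
    rwa [R.el_inv] at h1
  EF := by
    rintro _ ⟨p, hp, rfl⟩ v hv
    rw [mem_ag, add_comm, R.add, R.smul]
    have h1 := h.EF p hp _ hv
    rwa [R.el_inv] at h1
  reg w hw e he := by
    obtain ⟨s, hs, f, hf, h1⟩ := h.reg (R.el w) (R.mem w) hw (R.el e) he
    obtain ⟨f', rfl⟩ := R.surj f (h.F_le hf)
    refine ⟨R.ac ⟨s, hWP hs⟩, ⟨⟨s, hWP hs⟩, hs, rfl⟩, ?_⟩
    have h2 : R.el e = R.el (w + R.ac ⟨s, hWP hs⟩ • w + f') := by
      rw [R.add, R.add, R.smul, h1, R.el_inv]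
    have h3 := R.inj h2
    have h4 : R.ac ⟨s, hWP hs⟩ • w + w + e = f' := by
      rw [h3, add_comm (R.ac ⟨s, hWP hs⟩ • w) w, ← add_assoc, R.two, zero_add]
    rw [h4]
    exact hf
  ab := by
    rintro _ ⟨p, hp, rfl⟩ _ ⟨q, hq, rfl⟩ v
    refine R.inj ?_
    rw [R.smul, R.smul, R.smul, R.smul]
    exact h.ab p hp q hq _ (R.mem v)
  inv := by
    rintro _ ⟨p, hp, rfl⟩ v
    refine R.inj ?_
    rw [R.smul, R.smul]
    exact h.inv p hp _ (R.mem v)
  ne := by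
    intro hle
    apply h.ne
    intro e he
    obtain ⟨m, rfl⟩ := R.surj e (h.le he)
    exact hle (show m ∈ R.ag E from he)
  ne' := by
    obtain ⟨w, hw, hwE⟩ := SetLike.not_le_iff_exists.1 h.ne'
    obtain ⟨m, rfl⟩ := R.surj w hw
    exact ⟨m, hwE⟩

theorem card_ag {B : Subgroup G} (hB : B ≤ V) : Nat.card (R.ag B) = Nat.card B := by
  refine Nat.card_congr (Equiv.ofBijective (fun m : R.ag B => (⟨R.el m, m.2⟩ : B)) ⟨?_, ?_⟩)
  · intro a b hab
    exact Subtype.ext (R.inj (congrArg Subtype.val hab))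
  · rintro ⟨x, hx⟩
    obtain ⟨m, rfl⟩ := R.surj x (hB hx)
    exact ⟨⟨m, hx⟩, rfl⟩

end Rep

section card

variable {G : Type u} [Group G] [Finite G] {A B : Subgroup G}

theorem card_eq_mul (h : A ≤ B) : Nat.card B = Nat.card A * A.relIndex B := by
  have h1 := relIndex_mul_relIndex ⊥ A B bot_le h
  rw [relIndex_bot_left, relIndex_bot_left] at h1
  exact h1.symm

end card

namespace Rep

variable {G Y M : Type u} [Group G] [Finite G] {S P V : Subgroup G} [Group Y] [AddCommGroup M]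
  [DistribMulAction Y M] {T : Sylow 2 Y} {Mx : Subgroup Y} (R : Rep S P V Y M T Mx) {E F W : Subgroup G}

theorem four (hE : E ≤ V) (h4 : 4 ≤ E.relIndex V) : 4 * Nat.card (R.ag E) ≤ Nat.card M := by
  rw [R.card_ag hE, R.card_M, card_eq_mul hE, mul_comm]
  exact Nat.mul_le_mul_left _ h4

theorem pf (hE : E ≤ V) (hF : F ≤ E) (h : E.relIndex V ^ 2 ≤ F.relIndex E) :
    Nat.card M ^ 2 * Nat.card (R.ag F) ≤ Nat.card (R.ag E) ^ 3 := by
  rw [R.card_ag hE, R.card_ag (hF.trans hE), R.card_M, card_eq_mul hE]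
  have h1 := card_eq_mul hF
  calc (Nat.card E * E.relIndex V) ^ 2 * Nat.card F = Nat.card E ^ 2 * (Nat.card F * E.relIndex V ^ 2) := by ring
    _ ≤ Nat.card E ^ 2 * (Nat.card F * F.relIndex E) := Nat.mul_le_mul_left _ (Nat.mul_le_mul_left _ h)
    _ = Nat.card E ^ 3 := by rw [← h1]; ring

theorem rk (hE : E ≤ V) (hF : F ≤ E)
    (h : ∀ s ∈ W, (centralizer {s}).relIndex V ≤ F.relIndex E) :
    ∀ u ∈ R.im W, Nat.card {v : M | ∃ w, v = u • w - w} * Nat.card (R.ag F) ≤ Nat.card (R.ag E) := by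
  have := R.finite
  rintro _ ⟨p, hp, rfl⟩
  -- the commutator map
  let D : M →+ M :=
    { toFun := fun w => R.ac p • w - w
      map_zero' := by rw [smul_zero, sub_zero]
      map_add' := fun a b => by rw [smul_add]; abel }
  have h1 : Nat.card {v : M | ∃ w, v = R.ac p • w - w} = Nat.card D.range := by
    refine Nat.card_congr (Equiv.setCongr ?_)
    ext v
    constructor
    · rintro ⟨w, rfl⟩
      exact ⟨w, rfl⟩
    · rintro ⟨w, rfl⟩
      exact ⟨w, rfl⟩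
  have h2 : Nat.card M = Nat.card D.ker * Nat.card D.range := by
    rw [← AddSubgroup.card_mul_index D.ker, AddSubgroup.index_ker]
  have h3 : Nat.card D.ker = Nat.card (V ⊓ centralizer {(p : G)} : Subgroup G) := by
    rw [← R.card_ag inf_le_left]
    refine Nat.card_congr (Equiv.setCongr ?_)
    ext v
    change D v = 0 ↔ R.el v ∈ V ⊓ centralizer {(p : G)}
    constructor
    · intro h4
      have h5 : R.ac p • v = v := sub_eq_zero.1 h4
      have h6 := congrArg R.el h5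
      rw [R.smul, mul_inv_eq_iff_eq_mul] at h6
      exact ⟨R.mem v, mem_centralizer_singleton_iff.2 h6.symm⟩
    · rintro ⟨-, h4⟩
      replace h4 := mem_centralizer_singleton_iff.1 h4
      refine sub_eq_zero.2 (R.inj ?_)
      rw [R.smul, ← h4, mul_inv_cancel_right]
  have h4 := card_eq_mul (A := V ⊓ centralizer {(p : G)}) (B := V) inf_le_left
  rw [inf_relIndex_left, ← R.card_M, h2, ← h3] at h4
  have h5 : 0 < Nat.card D.ker := Nat.card_pos
  have h6 := Nat.eq_of_mul_eq_mul_left h5 h4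
  rw [h1, h6, R.card_ag hE, R.card_ag (hF.trans hE), card_eq_mul hF, mul_comm]
  exact Nat.mul_le_mul_left _ (h p hp)

end Rep

namespace WRF.Irr

open Cfsg.Agent.Omega.NOne.Flat (Hyp WW)

variable {G : Type u} [Group G] [Finite G] {S : Sylow 2 G} {P V F V₀ : Subgroup G} (H : Hyp V F)
include H

theorem hyp_relIndex (h0V : V₀ ≤ V) (hn : WW V F ≤ normalizer (V₀ : Set G)) (hnot : ¬ V₀ ≤ NOne.Flat.EE V F) :
    (V₀ ⊓ F).relIndex (V₀ ⊓ NOne.Flat.EE V F) = F.relIndex (NOne.Flat.EE V F) := by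
  have h3 : (V₀ ⊓ NOne.Flat.EE V F) ⊔ F = NOne.Flat.EE V F :=
    le_antisymm (sup_le inf_le_right H.F_lt_E.le) (hyp_EE_le H h0V hn hnot)
  have h4 : V₀ ⊓ NOne.Flat.EE V F ≤ normalizer (F : Set G) :=
    ((inf_le_left.trans h0V).trans (H.comm.trans (centralizer_le H.F_le_V))).trans (centralizer_le_normalizer _)
  have h5 := relIndex_sup_of_norm h4
  rw [h3] at h5
  rw [h5, ← inf_relIndex_right F, ← inf_relIndex_right (V₀ ⊓ F)]
  congr 1
  refine le_antisymm (le_inf (inf_le_left.trans inf_le_right) inf_le_right)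
    (le_inf (le_inf (inf_le_right.trans inf_le_left) inf_le_left) inf_le_right)

theorem hyp_index_le (h0V : V₀ ≤ V) : (V₀ ⊓ NOne.Flat.EE V F).relIndex V₀ ≤ (NOne.Flat.EE V F).relIndex V := by
  rw [inf_relIndex_left]
  exact relIndex_le_of_le_right h0V Subgroup.index_ne_zero_of_finite

/-- **(PF)** for `V₀` -/
theorem hyp_pf (h0V : V₀ ≤ V) (hn : WW V F ≤ normalizer (V₀ : Set G)) (hnot : ¬ V₀ ≤ NOne.Flat.EE V F) :
    (V₀ ⊓ NOne.Flat.EE V F).relIndex V₀ ^ 2 ≤ (V₀ ⊓ F).relIndex (V₀ ⊓ NOne.Flat.EE V F) := by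
  rw [hyp_relIndex H h0V hn hnot]
  exact (Nat.pow_le_pow_left (hyp_index_le H h0V) 2).trans H.sq_le

/-- **(9)** for `V₀` -/
theorem hyp_nine (h0V : V₀ ≤ V) (hn : WW V F ≤ normalizer (V₀ : Set G)) (hnot : ¬ V₀ ≤ NOne.Flat.EE V F)
    {s : G} (hs : s ∈ WW V F) :
    (centralizer {s}).relIndex V₀ ≤ (V₀ ⊓ F).relIndex (V₀ ⊓ NOne.Flat.EE V F) := by
  by_cases hsN : s ∈ NOne.Flat.NN V F
  · have h1 : V₀ ⊓ NOne.Flat.EE V F ≤ centralizer {s} := by
      intro e he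
      rw [mem_centralizer_singleton_iff]
      exact mem_centralizer_iff.1 (mem_inf.1 hsN).2 e he.2
    exact (relIndex_le_of_le_left h1 Subgroup.index_ne_zero_of_finite).trans (hyp_lt H h0V hn hnot).le
  · rw [hyp_relIndex H h0V hn hnot]
    exact (relIndex_le_of_le_right h0V Subgroup.index_ne_zero_of_finite).trans (H.relIndex_cent_le hs hsN)

/-- `|V₁ : V₁ ∩ E| = |V_P : V_P ∩ E|` -/
theorem hyp_index_V1 (h : Cfg S P) (h0V : zl (S : Subgroup G) P ≤ V) (hWS : WW V F ≤ S)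
    (hnot : ¬ zl (S : Subgroup G) P ≤ NOne.Flat.EE V F) :
    (V1 S P ⊓ NOne.Flat.EE V F).relIndex (V1 S P) =
      (zl (S : Subgroup G) P ⊓ NOne.Flat.EE V F).relIndex (zl (S : Subgroup G) P) := by
  have hd := fdat_of_hyp H h h0V hWS hnot
  have h1 : V1 S P ⊔ (zl (S : Subgroup G) P ⊓ NOne.Flat.EE V F) = zl (S : Subgroup G) P := by
    refine le_antisymm (sup_le hd.V1_le inf_le_left) ?_
    conv_lhs => rw [← hd.sup_eq]
    exact sup_le_sup_left (hd.Z_le.trans (inf_le_inf_left _ H.F_lt_E.le)) _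
  have h2 : V1 S P ≤ normalizer ((zl (S : Subgroup G) P ⊓ NOne.Flat.EE V F : Subgroup G) : Set G) :=
    (hd.V1_le.trans (h.V_comm.trans (centralizer_le inf_le_left))).trans (centralizer_le_normalizer _)
  have h3 := relIndex_sup_of_norm h2
  rw [h1] at h3
  have e : V1 S P ⊓ (zl (S : Subgroup G) P ⊓ NOne.Flat.EE V F) = V1 S P ⊓ NOne.Flat.EE V F := by
    rw [← inf_assoc, inf_eq_left.2 hd.V1_le]
  rw [h3, ← inf_relIndex_left (V1 S P) (zl (S : Subgroup G) P ⊓ NOne.Flat.EE V F), e]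

theorem hyp_not_V1 (h : Cfg S P) (h0V : zl (S : Subgroup G) P ≤ V) (hWS : WW V F ≤ S)
    (hnot : ¬ zl (S : Subgroup G) P ≤ NOne.Flat.EE V F) : ¬ V1 S P ≤ NOne.Flat.EE V F := by
  intro hle
  apply hnot
  have hd := fdat_of_hyp H h h0V hWS hnot
  rw [← hd.sup_eq]
  exact sup_le hle ((hd.Z_le.trans inf_le_right).trans H.F_lt_E.le)

variable {Y M : Type u} [Group Y] [AddCommGroup M] [DistribMulAction Y M] {T : Sylow 2 Y} {Mx : Subgroup Y}

/-- FLAT for a representation of `V₀` -/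
theorem rep_flat (R : Rep (S : Subgroup G) P V₀ Y M T Mx) (hWP : WW V F ≤ P) (h0V : V₀ ≤ V)
    (hn : WW V F ≤ normalizer (V₀ : Set G)) (hnot : ¬ V₀ ≤ NOne.Flat.EE V F)
    (h4 : 4 ≤ (V₀ ⊓ NOne.Flat.EE V F).relIndex V₀) :
    FlatA (R.im (WW V F)) (R.ag (V₀ ⊓ NOne.Flat.EE V F)) (R.ag (V₀ ⊓ F)) ∧
      4 * Nat.card (R.ag (V₀ ⊓ NOne.Flat.EE V F)) ≤ Nat.card M ∧
      Nat.card M ^ 2 * Nat.card (R.ag (V₀ ⊓ F)) ≤ Nat.card (R.ag (V₀ ⊓ NOne.Flat.EE V F)) ^ 3 ∧
      ∀ u ∈ R.im (WW V F), Nat.card {v : M | ∃ w, v = u • w - w} * Nat.card (R.ag (V₀ ⊓ F)) ≤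
        Nat.card (R.ag (V₀ ⊓ NOne.Flat.EE V F)) :=
  ⟨R.flatA (flat_of_hyp H h0V hn hnot) hWP, R.four inf_le_left h4,
    R.pf inf_le_left (inf_le_inf_left _ H.F_lt_E.le) (hyp_pf H h0V hn hnot),
    R.rk inf_le_left (inf_le_inf_left _ H.F_lt_E.le) fun _ hs => hyp_nine H h0V hn hnot hs⟩

/-- **(1)** : `U` centralises the normal subgroups of odd order -/
theorem rep_odd (R : Rep (S : Subgroup G) P V₀ Y M T Mx) (hWP : WW V F ≤ P) (h0V : V₀ ≤ V)
    (hn : WW V F ≤ normalizer (V₀ : Set G)) (hnot : ¬ V₀ ≤ NOne.Flat.EE V F)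
    (h4 : 4 ≤ (V₀ ⊓ NOne.Flat.EE V F).relIndex V₀) {O : Subgroup Y} (hO : Odd (Nat.card O))
    (hOn : ∀ u ∈ R.im (WW V F), ∀ x ∈ O, u * x * u⁻¹ ∈ O) : R.im (WW V F) ≤ centralizer (O : Set Y) := by
  have := R.finite
  have := R.finiteY
  have := R.faithfulSMul
  obtain ⟨h1, h2, -, -⟩ := rep_flat H R hWP h0V hn hnot h4
  exact Subgroup.le_centralizer_iff.mp (h1.odd_comm (Comp.four_of_card h2) hO hOn)

end WRF.Irr

end Cfsg.Agent.Omega.NO1
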