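import Cfsg.Agent.Omega.NO1.Comp.Irr
import Cfsg.Agent.Omega.NO1.WRF.Plug
import Cfsg.Agent.Omega.NO1.TwoBr

/-!
# N1, THEOREM COMP: the group `Y` induced by `P` on `V₁ = [V_P, O²(P)]` (project OMEGA)

Text: helper390 (bb OMEGA #17539), part (III) of the split #18039. Typed by helper570.

* `exists_rep1` : `FDat S P E F W` ⟹ `Rep S P (V1 S P) Y M T Mx`.
* `minP` : every `Rep` is a `Grp.MinP`.
* `irred`, `prim` : `M` is irreducible for `Y`, and `Y` permutes transitively no decomposition of `M`.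
* `exists_sit` : if the image of `W` centralises `O(Y)` there is a component `K` of even order (`Grp.Sit T Mx K`), and
  `M` is irreducible for `E(Y)`.
-/

set_option autoImplicit false
set_option linter.unusedSectionVars false

namespace Cfsg.Agent.Omega.NO1.Comp.RepOne

open Subgroup Cfsg Cfsg.Agent.ZN Cfsg.Agent.ZN.ChoiceBase Cfsg.Agent.Omega.MinPar Cfsg.Agent.Omega.Frame
open Cfsg.Agent.Omega.NO1 Cfsg.Agent.Omega.NO1.WRF Cfsg.Agent.Omega.NO1.WRF.Irr Cfsg.Agent.Omega.NO1.WRF.Single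
open Cfsg.Agent.Omega.FFThm (OffM)
open Cfsg.Agent.Omega.NO1.Comp.Irr

universe u

section sub

variable {Y M : Type*} [Group Y] [AddCommGroup M] [DistribMulAction Y M]

/-- the action on an invariant subgroup -/
@[reducible] def subAct (A : AddSubgroup M) (hA : ∀ y : Y, ∀ m ∈ A, y • m ∈ A) : DistribMulAction Y A where
  smul y m := ⟨y • (m : M), hA y m m.2⟩
  one_smul m := Subtype.ext (one_smul Y (m : M))
  mul_smul x y m := Subtype.ext (mul_smul x y (m : M))
  smul_zero y := Subtype.ext (smul_zero y)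
  smul_add y a b := Subtype.ext (smul_add y (a : M) (b : M))

end sub

section minp

variable {G : Type u} [Group G] {S P V : Subgroup G} {Y M : Type u} [Group Y] [AddCommGroup M]
  [DistribMulAction Y M] {T : Sylow 2 Y} {Mx : Subgroup Y}

theorem minP (R : Rep S P V Y M T Mx) : Grp.MinP T Mx := ⟨R.core, R.TM, R.Mne, R.max⟩

/-- a `Y`-invariant subgroup of `M` as a `P`-invariant subgroup of `V` -/
def toG (R : Rep S P V Y M T Mx) (A : AddSubgroup M) : Subgroup G where
  carrier := {g | ∃ m ∈ A, R.el m = g}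
  one_mem' := ⟨0, A.zero_mem, R.el_zero⟩
  mul_mem' := by
    rintro _ _ ⟨a, ha, rfl⟩ ⟨b, hb, rfl⟩
    exact ⟨a + b, A.add_mem ha hb, R.add a b⟩
  inv_mem' := by
    rintro _ ⟨a, ha, rfl⟩
    exact ⟨a, ha, (R.el_inv a).symm⟩

theorem mem_toG (R : Rep S P V Y M T Mx) {A : AddSubgroup M} {g : G} : g ∈ toG R A ↔ ∃ m ∈ A, R.el m = g := Iff.rfl

theorem el_mem_toG (R : Rep S P V Y M T Mx) {A : AddSubgroup M} {m : M} : R.el m ∈ toG R A ↔ m ∈ A := by
  constructor
  · rintro ⟨n, hn, e⟩
    rwa [R.inj e] at hn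
  · intro h
    exact ⟨m, h, rfl⟩

theorem toG_le (R : Rep S P V Y M T Mx) (A : AddSubgroup M) : toG R A ≤ V := by
  rintro _ ⟨m, -, rfl⟩
  exact R.mem m

theorem toG_mono (R : Rep S P V Y M T Mx) {A B : AddSubgroup M} (h : A ≤ B) : toG R A ≤ toG R B := by
  rintro _ ⟨m, hm, rfl⟩
  exact ⟨m, h hm, rfl⟩

theorem toG_inj (R : Rep S P V Y M T Mx) {A B : AddSubgroup M} (h : toG R A = toG R B) : A = B := by
  ext m
  rw [← el_mem_toG R, h, el_mem_toG]

theorem toG_top (R : Rep S P V Y M T Mx) : toG R ⊤ = V := by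
  apply le_antisymm (toG_le R _)
  intro v hv
  obtain ⟨m, rfl⟩ := R.surj v hv
  exact ⟨m, AddSubgroup.mem_top m, rfl⟩

theorem toG_bot (R : Rep S P V Y M T Mx) : toG R ⊥ = ⊥ := by
  rw [eq_bot_iff]
  rintro _ ⟨m, hm, rfl⟩
  rw [AddSubgroup.mem_bot.mp hm, R.el_zero]
  exact one_mem _

/-- the preimage of a subgroup of `V` -/
def ofG (R : Rep S P V Y M T Mx) (X : Subgroup G) : AddSubgroup M where
  carrier := {m | R.el m ∈ X}
  zero_mem' := by
    show R.el 0 ∈ X
    rw [R.el_zero]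
    exact one_mem X
  add_mem' := by
    intro a b ha hb
    show R.el (a + b) ∈ X
    rw [R.add]
    exact mul_mem ha hb
  neg_mem' := by
    intro a ha
    show R.el (-a) ∈ X
    rw [neg_eq_of_add_eq_zero_left (R.two a)]
    exact ha

theorem mem_ofG (R : Rep S P V Y M T Mx) {X : Subgroup G} {m : M} : m ∈ ofG R X ↔ R.el m ∈ X := Iff.rfl

theorem toG_le_iff (R : Rep S P V Y M T Mx) {A : AddSubgroup M} {X : Subgroup G} : toG R A ≤ X ↔ A ≤ ofG R X := by
  constructor
  · intro h m hm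
    exact h ⟨m, hm, rfl⟩
  · rintro h _ ⟨m, hm, rfl⟩
    exact h hm

theorem gc (R : Rep S P V Y M T Mx) : GaloisConnection (toG R) (ofG R) := fun _ _ => toG_le_iff R

theorem toG_inf (R : Rep S P V Y M T Mx) {A B : AddSubgroup M} : toG R (A ⊓ B) = toG R A ⊓ toG R B := by
  apply le_antisymm (le_inf (toG_mono R inf_le_left) (toG_mono R inf_le_right))
  rintro _ ⟨⟨a, ha, rfl⟩, hb⟩
  exact ⟨a, ⟨ha, (el_mem_toG R).mp hb⟩, rfl⟩

theorem toG_norm [Finite G] (R : Rep S P V Y M T Mx) {A : AddSubgroup M} (hA : ∀ y : Y, ∀ m ∈ A, y • m ∈ A) :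
    P ≤ normalizer (toG R A : Set G) := by
  intro p hp
  refine mem_normalizer_of_cj_le ?_
  rintro _ ⟨_, ⟨m, hm, rfl⟩, rfl⟩
  refine ⟨R.ac ⟨p, hp⟩ • m, hA _ m hm, ?_⟩
  rw [R.smul]
  rfl

theorem cj_toG (R : Rep S P V Y M T Mx) {A : AddSubgroup M} {p : G} (hp : p ∈ P) :
    cj p (toG R A) = toG R (ya (R.ac ⟨p, hp⟩) A) := by
  ext g
  constructor
  · rintro ⟨_, ⟨m, hm, rfl⟩, rfl⟩
    refine ⟨R.ac ⟨p, hp⟩ • m, ⟨m, hm, rfl⟩, ?_⟩
    rw [R.smul]
    rfl
  · rintro ⟨_, ⟨m, hm, rfl⟩, rfl⟩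
    refine ⟨R.el m, ⟨m, hm, rfl⟩, ?_⟩
    exact (R.smul ⟨p, hp⟩ m).symm

end minp

section fdat

variable {G : Type u} [Group G] [Finite G] {S : Sylow 2 G} {P E F W : Subgroup G}

/-- the `Rep` of `V₁` -/
theorem exists_rep1 (h : FDat S P E F W) :
    ∃ (Y M : Type u) (_ : Group Y) (_ : Finite Y) (_ : AddCommGroup M) (_ : Finite M)
      (_ : DistribMulAction Y M) (T : Sylow 2 Y) (Mx : Subgroup Y),
      Nonempty (Rep (S : Subgroup G) P (V1 S P) Y M T Mx) := by
  classical
  obtain ⟨Y, M, _, _, _, _, _, T, Mx, ⟨R⟩⟩ := h.cfg.exists_rep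
  let A : AddSubgroup M := ofG R (V1 S P)
  have hA : ∀ y : Y, ∀ m ∈ A, y • m ∈ A := by
    intro y m hm
    obtain ⟨p, rfl⟩ := R.acs y
    show R.el (R.ac p • m) ∈ V1 S P
    rw [R.smul]
    exact (mem_normalizer_iff.mp (h.P_norm_V1 p.2) _).mp hm
  let _ : DistribMulAction Y A := subAct A hA
  have hsm : ∀ (y : Y) (m : A), ((y • m : A) : M) = y • (m : M) := fun _ _ => rfl
  refine ⟨Y, A, inferInstance, inferInstance, inferInstance, inferInstance, inferInstance, T, Mx, ⟨?_⟩⟩
  have hfaith : ∀ y : Y, (∀ m : A, y • m = m) → y = 1 := by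
    -- the kernel
    let X : Subgroup Y :=
      { carrier := {y | ∀ m : A, y • m = m}
        one_mem' := fun m => one_smul Y m
        mul_mem' := by
          intro x y hx hy m
          rw [mul_smul, hy, hx]
        inv_mem' := by
          intro x hx m
          rw [inv_smul_eq_iff, hx] }
    have hX : X.Normal := by
      constructor
      intro x hx y m
      rw [mul_smul, mul_smul, hx, smul_inv_smul]
    have hX2 : ¬ 2 ∣ Nat.card X := by
      intro h2
      have h3 := (minP R).fr hX h2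
      have h4 := h.V1_inf_zc
      rw [Ne, Subgroup.eq_bot_iff_forall] at h4
      push Not at h4
      obtain ⟨z, ⟨hz1, hz2⟩, hz0⟩ := h4
      obtain ⟨m, rfl⟩ := R.surj z (h.V1_le hz1)
      have h5 : ∀ y : Y, y • m = m := by
        have h6 : ∀ y ∈ X ⊔ (T : Subgroup Y), y • m = m := by
          intro y hy
          have h7 : X ⊔ (T : Subgroup Y) ≤ MulAction.stabilizer Y m := by
            apply sup_le
            · intro x hx
              have := hx ⟨m, hz1⟩
              exact congrArg Subtype.val this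
            · intro t ht
              obtain ⟨s, hs, rfl⟩ := (R.mem_T t).mp ht
              apply R.inj
              change R.el (R.ac s • m) = R.el m
              rw [R.smul, (ChoiceBase.mem_zc.1 hz2).2.2 s hs, mul_inv_cancel_right]
          exact h7 hy
        intro y
        exact h6 y (by rw [h3]; exact mem_top y)
      apply hz0
      apply h.cv (h.V1_le hz1)
      intro g hg
      have h6 := R.smul ⟨g, hg⟩ m
      rw [h5] at h6
      exact h6.symm
    -- the norm map
    have _ : Fintype X := Fintype.ofFinite X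
    let Nm : M →+ M :=
      { toFun := fun m => ∑ x : X, (x : Y) • m
        map_zero' := by simp
        map_add' := by
          intro a b
          simp only [smul_add]
          exact Finset.sum_add_distrib }
    have hN1 : ∀ x : X, ∀ m : M, Nm ((x : Y) • m) = Nm m := by
      intro x m
      show ∑ y : X, (y : Y) • ((x : Y) • m) = ∑ y : X, (y : Y) • m
      rw [← Equiv.sum_comp (Equiv.mulRight x) (fun y : X => (y : Y) • m)]
      apply Finset.sum_congr rfl
      intro y _
      rw [smul_smul]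
      rfl
    have hN2 : ∀ m : M, (∀ x : X, (x : Y) • m = m) → Nm m = m := by
      intro m hm
      show ∑ x : X, (x : Y) • m = m
      rw [Finset.sum_congr rfl (fun x _ => hm x), Finset.sum_const, Finset.card_univ, ← Nat.card_eq_fintype_card]
      obtain ⟨k, hk⟩ : Odd (Nat.card X) := by
        rw [← Nat.not_even_iff_odd, even_iff_two_dvd]
        exact hX2
      rw [hk, add_nsmul, one_nsmul, mul_nsmul', two_nsmul, R.two, zero_add]
    -- `[V, X]`
    let B : AddSubgroup M := AddSubgroup.closure {m | ∃ (x : X) (v : M), (x : Y) • v - v = m}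
    have hBN : ∀ m ∈ B, Nm m = 0 := by
      intro m hm
      have h3 : B ≤ Nm.ker := by
        rw [AddSubgroup.closure_le]
        rintro _ ⟨x, v, rfl⟩
        show Nm ((x : Y) • v - v) = 0
        rw [map_sub, hN1, sub_self]
      exact h3 hm
    have hBY : ∀ y : Y, ∀ m ∈ B, y • m ∈ B := by
      intro y m hm
      have h3 : B ≤ B.comap (DistribSMul.toAddMonoidHom M y) := by
        rw [AddSubgroup.closure_le]
        rintro _ ⟨x, v, rfl⟩
        show y • ((x : Y) • v - v) ∈ B
        apply AddSubgroup.subset_closure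
        refine ⟨⟨y * x * y⁻¹, hX.conj_mem _ x.2 y⟩, y • v, ?_⟩
        show (y * x * y⁻¹) • (y • v) - y • v = y • ((x : Y) • v - v)
        rw [smul_sub, mul_smul, mul_smul, inv_smul_smul]
      exact h3 hm
    have hB : B = ⊥ := by
      by_contra hne
      have h3 := h.le_of (toG_le R B) (toG_norm R hBY) (by
        intro h4
        apply hne
        apply toG_inj R
        rw [h4, toG_bot])
      obtain ⟨z, hz⟩ := (Subgroup.ne_bot_iff_exists_ne_one).mp h.V1_ne
      obtain ⟨m, hm, e⟩ := h3 z.2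
      have h4 : m ∈ A := by
        show R.el m ∈ V1 S P
        rw [e]
        exact z.2
      have h5 : Nm m = m := hN2 m fun x => congrArg Subtype.val (x.2 ⟨m, h4⟩)
      rw [hBN m hm] at h5
      apply hz
      apply Subtype.ext
      rw [← e, ← h5, R.el_zero]
      rfl
    intro y hy
    apply R.faith
    intro m
    have h3 : y • m - m ∈ B := AddSubgroup.subset_closure ⟨⟨y, hy⟩, m, rfl⟩
    rw [hB, AddSubgroup.mem_bot, sub_eq_zero] at h3
    exact h3
  exact
    { el := fun m => R.el m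
      mem := fun m => m.2
      add := fun m n => R.add m n
      inj := fun a b hab => Subtype.ext (R.inj hab)
      surj := fun v hv => by
        obtain ⟨m, hm⟩ := R.surj v (h.V1_le hv)
        exact ⟨⟨m, by show R.el m ∈ V1 S P; rw [hm]; exact hv⟩, hm⟩
      ac := R.ac
      acs := R.acs
      smul := fun p m => R.smul p m
      two := fun m => Subtype.ext (R.two m)
      faith := hfaith
      core := R.core
      mem_T := R.mem_T
      TM := R.TM
      Mne := R.Mne
      max := R.max }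

variable {Y M : Type u} [Group Y] [AddCommGroup M] [DistribMulAction Y M] {T : Sylow 2 Y} {Mx : Subgroup Y}

theorem _root_.Cfsg.Agent.Omega.NO1.WRF.Irr.FDat.W_not_le1 (h : FDat S P E F W) :
    ¬ W ≤ centralizer (V1 S P : Set G) := by
  intro hc
  apply h.flat1.ne
  refine inf_le_right.trans ?_
  rw [h.flat1.F_eq]
  exact le_inf le_rfl (Subgroup.le_centralizer_iff.mp hc)

/-- `V₁` is irreducible -/
theorem irred (h : FDat S P E F W) (R : Rep (S : Subgroup G) P (V1 S P) Y M T Mx) : Irred Y M := by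
  intro A hA
  rcases h.irr (toG_le R A) (toG_norm R hA) with h1 | h1
  · left
    apply toG_inj R
    rw [h1, toG_bot]
  · right
    apply toG_inj R
    rw [h1, toG_top]

/-- WRF -/
theorem prim [Finite M] (h : FDat S P E F W) (R : Rep (S : Subgroup G) P (V1 S P) Y M T Mx) {FF : Subgroup G}
    (hoff : ∀ A : Subgroup G, A ≤ P → ¬ OffM (zl (S : Subgroup G) P) A)
    (hFF : F ≤ FF) (hFV : zl (S : Subgroup G) P ≤ centralizer (FF : Set G))
    (hFc : FF ≤ centralizer (FF : Set G)) (hF2 : IsPGroup 2 FF)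
    (hbad : ¬ zl (S : Subgroup G) P ≤ o2 (centralizer (FF : Set G))) : Prim Y M := by
  intro 𝒮 h0 hperm htr hind hsup A hA
  by_contra hne
  have hnt : Nontrivial 𝒮 := by
    by_contra hcon
    rw [not_nontrivial_iff_subsingleton] at hcon
    apply hne
    rw [← hsup]
    apply le_antisymm (le_sSup hA)
    apply sSup_le
    intro B hB
    exact (congrArg Subtype.val (hcon.elim ⟨B, hB⟩ ⟨A, hA⟩)).le
  have hfin : Finite 𝒮 := inferInstance
  refine h.wrf1 (Vf := fun B : 𝒮 => toG R B) hoff hFF hFV hFc hF2 hbad ?_ ?_ ?_ ?_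
  · rw [sSupIndep_iff] at hind
    intro i
    have h1 := hind i
    rw [disjoint_iff] at h1 ⊢
    have h2 : (⨆ j : 𝒮, ⨆ _ : j ≠ i, toG R (j : AddSubgroup M)) = toG R (⨆ j : 𝒮, ⨆ _ : j ≠ i, (j : AddSubgroup M)) := by
      rw [(gc R).l_iSup]
      congr 1
      ext1 j
      rw [(gc R).l_iSup]
    rw [h2, ← toG_inf]
    have h3 : ((i : AddSubgroup M) ⊓ ⨆ j : 𝒮, ⨆ _ : j ≠ i, (j : AddSubgroup M)) = ⊥ := h1
    rw [h3, toG_bot]
  · rw [← (gc R).l_iSup, ← sSup_eq_iSup', hsup, toG_top]
  · intro p hp i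
    exact ⟨⟨_, hperm (R.ac ⟨p, hp⟩) i i.2⟩, cj_toG R hp⟩
  · intro i j
    obtain ⟨y, hy⟩ := htr i i.2 j j.2
    obtain ⟨p, rfl⟩ := R.acs y
    refine ⟨p, p.2, ?_⟩
    rw [cj_toG R p.2]
    exact congrArg (toG R) hy

/-- **(III)**: if the image `U` of `W` centralises `O(Y)`, there is a component of even order not centralised by `U`,
and `V₁` is irreducible for `E(Y)` -/
theorem exists_sit [Finite Y] [Finite M] (h : FDat S P E F W) (R : Rep (S : Subgroup G) P (V1 S P) Y M T Mx)
    {FF : Subgroup G} (hoff : ∀ A : Subgroup G, A ≤ P → ¬ OffM (zl (S : Subgroup G) P) A)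
    (hFF : F ≤ FF) (hFV : zl (S : Subgroup G) P ≤ centralizer (FF : Set G))
    (hFc : FF ≤ centralizer (FF : Set G)) (hF2 : IsPGroup 2 FF)
    (hbad : ¬ zl (S : Subgroup G) P ≤ o2 (centralizer (FF : Set G)))
    (hO : R.im W ≤ centralizer (pPrimeCore 2 Y : Set Y)) :
    ∃ K : Subgroup Y, Grp.Sit T Mx K ∧ ¬ R.im W ≤ centralizer (K : Set Y) ∧
      ∀ X : AddSubgroup M, (∀ x ∈ layer Y, ∀ m ∈ X, x • m ∈ X) → X = ⊥ ∨ X = ⊤ := by
  have hU2 : IsPGroup 2 (R.im W) := (h.W2.comap_of_injective P.subtype P.subtype_injective).map _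
  have hU1 : R.im W ≠ ⊥ := by
    intro h0
    apply h.W_not_le1
    intro w hw
    have h1 : R.ac ⟨w, h.WP hw⟩ ∈ R.im W := R.mem_im.mpr ⟨w, h.WP hw, hw, rfl⟩
    rw [h0, mem_bot] at h1
    exact R.ac_eq_one.mp h1
  obtain ⟨K, hK, hK2, hUK⟩ := (minP R).exists_comp hU2 hU1 hO
  have hs : Grp.Sit T Mx K := ⟨minP R, hK, hK2⟩
  exact ⟨K, hs, hUK, hs.irr_layer R.two (irred h R) (prim h R hoff hFF hFV hFc hF2 hbad)⟩

end fdat

end Cfsg.Agent.Omega.NO1.Comp.RepOne
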