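import Cfsg.Agent.Omega.NO1.Comp.PlusQ
import Cfsg.Agent.Omega.NO1.Comp.RepOne
import Cfsg.Agent.Omega.NO1.Comp.RepFlat
import Cfsg.Agent.MinSimple.EmptyE.Lift

/-!
# `V₁ = V_P` (project OMEGA, N1, THEOREM COMP #17539, (7); helper168)
-/

set_option autoImplicit false
set_option linter.unusedSectionVars false

namespace Cfsg.Agent.Omega.NO1.Comp.Seven

open Subgroup Cfsg Cfsg.Agent.ZN Cfsg.Agent.Omega.MinPar Cfsg.Agent.Omega.Frame
open Cfsg.Agent.Omega.NO1 Cfsg.Agent.Omega.NO1.WRF.Irr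
open scoped commutatorElement
open Cfsg.Agent.MinSimple.VModule (oddGen mem_oddGen oddGen_def oddGen_le le_normalizer_oddGen)

universe u

section md

variable {Y M : Type*} [Group Y] [AddCommGroup M] [DistribMulAction Y M]

/-- coprime action -/
theorem exists_fix (two : ∀ m : M, m + m = 0) {h : Y} (odd : Odd (orderOf h)) {M₁ : AddSubgroup M}
    (hM : ∀ m, h • m - m ∈ M₁) (inv : ∀ m ∈ M₁, h • m ∈ M₁) (m : M) : ∃ d, h • d = d ∧ d - m ∈ M₁ := by
  refine ⟨∑ i ∈ Finset.range (orderOf h), h ^ i • m, ?_, ?_⟩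
  · rw [Finset.smul_sum]
    simp only [smul_smul, ← pow_succ']
    have h1 := Finset.sum_range_succ (fun i => h ^ i • m) (orderOf h)
    have h2 := Finset.sum_range_succ' (fun i => h ^ i • m) (orderOf h)
    rw [h2] at h1
    rw [pow_orderOf_eq_one, pow_zero] at h1
    exact add_right_cancel h1
  · have h3 : ∀ i, h ^ i • m - m ∈ M₁ := by
      intro i
      induction i with
      | zero => simp
      | succ i ih =>
        have h4 : h ^ (i + 1) • m - m = h • (h ^ i • m - m) + (h • m - m) := by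
          rw [pow_succ', mul_smul, smul_sub]; abel
        rw [h4]
        exact M₁.add_mem (inv _ ih) (hM m)
    have h5 : ∀ n, ∑ i ∈ Finset.range n, h ^ i • m - n • m ∈ M₁ := by
      intro n
      induction n with
      | zero => simp
      | succ n ih =>
        rw [Finset.sum_range_succ, succ_nsmul]
        have h6 : ∑ i ∈ Finset.range n, h ^ i • m + h ^ n • m - (n • m + m) =
          (∑ i ∈ Finset.range n, h ^ i • m - n • m) + (h ^ n • m - m) := by abel
        rw [h6]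
        exact M₁.add_mem ih (h3 n)
    have h7 : orderOf h • m = m := by
      obtain ⟨k, hk⟩ := odd
      rw [hk, add_nsmul, one_nsmul, mul_comm, mul_nsmul, two_nsmul, two, zero_add]
    have h8 := h5 (orderOf h)
    rwa [h7] at h8

/-- **(7)** -/
theorem seven (two : ∀ m : M, m + m = 0) (faith : ∀ y : Y, (∀ m : M, y • m = m) → y = 1)
    (core : ∀ N : Subgroup Y, N.Normal → IsPGroup 2 N → N = ⊥) (O : Subgroup Y) (hO : O.Normal)
    (M₁ : AddSubgroup M) (inv : ∀ y : Y, ∀ m ∈ M₁, y • m ∈ M₁) (hM : ∀ y ∈ O, ∀ m, y • m - m ∈ M₁)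
    (hcen : ∀ m : M, (∀ y ∈ O, y • m = m) → m = 0) (h₁ h₂ : Y) (hh₁ : h₁ ∈ O) (hh₂ : h₂ ∈ O)
    (odd₁ : Odd (orderOf h₁)) (fp₁ : ∀ m ∈ M₁, h₁ • m = m → m = 0) (fp₂ : ∀ m ∈ M₁, h₂ • m = m → m = 0)
    (hc : ∀ m ∈ M₁, h₁ • h₂ • m = h₂ • h₁ • m)
    (conj : ∀ y : Y, (∀ m ∈ M₁, (y * h₁ * y⁻¹) • h₁ • m = h₁ • (y * h₁ * y⁻¹) • m) ∨
      (∀ m ∈ M₁, (y * h₁ * y⁻¹) • h₂ • m = h₂ • (y * h₁ * y⁻¹) • m)) : M₁ = ⊤ := by
  -- elements of `O` trivial on `M₁` are trivial
  have hN : ∀ y ∈ O, (∀ m ∈ M₁, y • m = m) → y = 1 := by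
    let N : Subgroup Y :=
      { carrier := {y | (∀ m ∈ M₁, y • m = m) ∧ ∀ m : M, y • m - m ∈ M₁}
        one_mem' := ⟨fun m _ => one_smul Y m, fun m => by rw [one_smul, sub_self]; exact M₁.zero_mem⟩
        mul_mem' := by
          rintro x y ⟨hx, hx'⟩ ⟨hy, hy'⟩
          refine ⟨fun m hm => by rw [mul_smul, hy m hm, hx m hm], fun m => ?_⟩
          have h1 : (x * y) • m - m = x • (y • m - m) + (x • m - m) := by
            rw [mul_smul, smul_sub]; abel
          rw [h1]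
          exact M₁.add_mem (inv x _ (hy' m)) (hx' m)
        inv_mem' := by
          rintro x ⟨hx, hx'⟩
          refine ⟨fun m hm => by rw [inv_smul_eq_iff, hx m hm], fun m => ?_⟩
          have h1 : x⁻¹ • m - m = - (x⁻¹ • (x • m - m)) := by
            rw [smul_sub, inv_smul_smul]; abel
          rw [h1]
          exact M₁.neg_mem (inv _ _ (hx' m)) }
    have h1 : N.Normal := by
      refine ⟨fun n hn g => ⟨fun m hm => ?_, fun m => ?_⟩⟩
      · rw [mul_smul, mul_smul, hn.1 _ (inv g⁻¹ m hm), smul_inv_smul]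
      · have h2 : (g * n * g⁻¹) • m - m = g • (n • g⁻¹ • m - g⁻¹ • m) := by
          rw [smul_sub, smul_inv_smul, mul_smul, mul_smul]
        rw [h2]
        exact inv g _ (hn.2 _)
    have h2 : IsPGroup 2 N := by
      intro y
      refine ⟨1, ?_⟩
      apply Subtype.ext
      apply faith
      intro m
      change ((y : Y) ^ 2 ^ 1) • m = m
      rw [pow_one, pow_two, mul_smul]
      have h3 : (y : Y) • m = m + ((y : Y) • m - m) := by abel
      rw [h3, smul_add, y.2.1 _ (y.2.2 m)]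
      have h4 : (y : Y) • m + ((y : Y) • m - m) = m + (((y : Y) • m - m) + ((y : Y) • m - m)) := by abel
      rw [h4, two, add_zero]
    have h3 := core N h1 h2
    intro y hy hy1
    have h4 : y ∈ N := ⟨hy1, hM y hy⟩
    rw [h3] at h4
    exact mem_bot.1 h4
  have hcomm : ∀ x ∈ O, ∀ y ∈ O, (∀ m ∈ M₁, x • y • m = y • x • m) → x * y = y * x := by
    intro x hx y hy hxy
    have h1 : (y * x)⁻¹ * (x * y) = 1 := by
      apply hN _ (O.mul_mem (O.inv_mem (O.mul_mem hy hx)) (O.mul_mem hx hy))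
      intro m hm
      rw [mul_smul, inv_smul_eq_iff, mul_smul, mul_smul, hxy m hm]
    rw [inv_mul_eq_one] at h1
    exact h1.symm
  -- an element of `O` commuting with `h` centralises `C_M(h)`
  have hfix : ∀ h ∈ O, (∀ m ∈ M₁, h • m = m → m = 0) → ∀ r ∈ O, r * h = h * r →
      ∀ d : M, h • d = d → r • d = d := by
    intro h _ fp r hr hrh d hd
    have h1 : r • d - d = 0 := by
      apply fp _ (hM r hr d)
      rw [smul_sub, ← mul_smul, ← hrh, mul_smul, hd]
    exact sub_eq_zero.1 h1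
  have h12 : h₁ * h₂ = h₂ * h₁ := hcomm h₁ hh₁ h₂ hh₂ hc
  have hd12 : ∀ d : M, h₁ • d = d → h₂ • d = d := hfix h₁ hh₁ fp₁ h₂ hh₂ h12.symm
  have hinv : ∀ y : Y, ∀ d : M, h₁ • d = d → h₁ • y • d = y • d := by
    intro y d hd
    have hx : y⁻¹ * h₁ * y ∈ O := by
      have := hO.conj_mem h₁ hh₁ y⁻¹
      rwa [inv_inv] at this
    have hxd : (y⁻¹ * h₁ * y) • d = d := by
      have h3 := conj y⁻¹
      rw [inv_inv] at h3
      rcases h3 with h3 | h3
      · exact hfix h₁ hh₁ fp₁ _ hx (hcomm _ hx _ hh₁ h3) d hd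
      · exact hfix h₂ hh₂ fp₂ _ hx (hcomm _ hx _ hh₂ h3) d (hd12 d hd)
    have h4 : y • (y⁻¹ * h₁ * y) • d = y • d := by rw [hxd]
    rwa [← mul_smul, show y * (y⁻¹ * h₁ * y) = h₁ * y by group, mul_smul] at h4
  have hzero : ∀ d : M, h₁ • d = d → d = 0 := by
    intro d hd
    apply hcen
    intro r hr
    have h1 : r • d - d = 0 := by
      apply fp₁ _ (hM r hr d)
      rw [smul_sub, hinv r d hd, hd]
    exact sub_eq_zero.1 h1
  rw [eq_top_iff]
  intro m _
  obtain ⟨d, hd, hdm⟩ := exists_fix two odd₁ (hM h₁ hh₁) (inv h₁) m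
  rw [hzero d hd, zero_sub] at hdm
  exact neg_mem_iff.1 hdm

end md

section grp

variable {G : Type u} [Group G] [Finite G] {S : Sylow 2 G} {P : Subgroup G}

/-- **(7)** : `V₁ = V_P` -/
theorem V1_eq (h : Cfg S P) {Y₁ N : Type u} [Group Y₁] [AddCommGroup N] [DistribMulAction Y₁ N] {T₁ : Sylow 2 Y₁}
    {Mx₁ : Subgroup Y₁} (R₁ : Rep (S : Subgroup G) P (V1 S P) Y₁ N T₁ Mx₁) (h₁ h₂ : Y₁) (odd₁ : Odd (orderOf h₁))
    (odd₂ : Odd (orderOf h₂)) (fp₁ : ∀ m : N, h₁ • m = m → m = 0) (fp₂ : ∀ m : N, h₂ • m = m → m = 0)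
    (hc : h₁ * h₂ = h₂ * h₁)
    (conj : ∀ y : Y₁, (y * h₁ * y⁻¹) * h₁ = h₁ * (y * h₁ * y⁻¹) ∨ (y * h₁ * y⁻¹) * h₂ = h₂ * (y * h₁ * y⁻¹)) :
    V1 S P = zl (S : Subgroup G) P := by
  obtain ⟨Y, M, _, _, _, _, _, T, Mx, ⟨R⟩⟩ := h.exists_rep
  -- lifts
  have lift : ∀ y : Y₁, Odd (orderOf y) → ∃ p : P, Odd (orderOf p) ∧ R₁.ac p = y := by
    intro y hy
    obtain ⟨p, rfl⟩ := R₁.acs y
    obtain ⟨n, h1, h2⟩ := MinSimple.EmptyE.Lift.exists_odd_lift R₁.ac p hy
    exact ⟨p ^ n, h1, h2⟩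
  obtain ⟨p₁, ho₁, rfl⟩ := lift h₁ odd₁
  obtain ⟨p₂, ho₂, rfl⟩ := lift h₂ odd₂
  have hV1 : V1 S P ≤ zl (S : Subgroup G) P := by
    rw [V1, commutator_le]
    intro v hv x hx
    rw [commutatorElement_def, mul_assoc, mul_assoc]
    refine mul_mem hv ?_
    rw [← mul_assoc]
    exact (mem_normalizer_iff.1 (Cfg.P_norm_V S P (oddGen_le P hx)) v⁻¹).1 (inv_mem hv)
  have hcomm : ∀ x ∈ oddGen P, ∀ v ∈ zl (S : Subgroup G) P, x * v * x⁻¹ * v⁻¹ ∈ V1 S P := by
    intro x hx v hv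
    have h1 : ⁅v, x⁆ ∈ V1 S P := commutator_mem_commutator hv hx
    have h2 := inv_mem h1
    rwa [commutatorElement_inv, commutatorElement_def] at h2
  -- the transfer between `R₁` and `R`
  have tr : ∀ m : M, m ∈ R.ag (V1 S P) → ∃ n : N, R₁.el n = R.el m := fun m hm => R₁.surj _ hm
  have hact : ∀ (m : M) (n : N) (p : P), R₁.el n = R.el m → R₁.el (R₁.ac p • n) = R.el (R.ac p • m) := by
    intro m n p e
    rw [R₁.smul, R.smul, e]
  have hcom : ∀ p q : P, R₁.ac p * R₁.ac q = R₁.ac q * R₁.ac p →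
      ∀ m ∈ R.ag (V1 S P), R.ac p • R.ac q • m = R.ac q • R.ac p • m := by
    intro p q hpq m hm
    obtain ⟨n, hn⟩ := tr m hm
    apply R.inj
    rw [← hact _ _ p (hact _ _ q hn), ← hact _ _ q (hact _ _ p hn), ← mul_smul, hpq, mul_smul]
  have fp : ∀ p : P, (∀ n : N, R₁.ac p • n = n → n = 0) → ∀ m ∈ R.ag (V1 S P), R.ac p • m = m → m = 0 := by
    intro p hp m hm h1
    obtain ⟨n, hn⟩ := tr m hm
    have h2 : R₁.ac p • n = n := by
      apply R₁.inj
      rw [hact _ _ p hn, h1, hn]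
    have h3 := hp n h2
    rw [h3, R₁.el_zero, ← R.el_zero] at hn
    exact (R.inj hn).symm
  have hodd : ∀ p : P, Odd (orderOf p) → (p : G) ∈ oddGen P := by
    intro p hp
    refine mem_oddGen p.2 ?_
    rwa [Subgroup.orderOf_coe]
  have key := seven R.two R.faith R.core (R.im (oddGen P)) (by
      have h1 : ((oddGen P).subgroupOf P).Normal := normal_subgroupOf_of_le_normalizer (le_normalizer_oddGen P)
      exact h1.map R.ac R.acs)
    (R.ag (V1 S P)) (by
      intro y m hm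
      obtain ⟨p, rfl⟩ := R.acs y
      rw [Rep.mem_ag, R.smul]
      obtain ⟨n, hn⟩ := tr m hm
      rw [← hn, ← R₁.smul]
      exact R₁.mem _)
    (by
      rintro _ ⟨p, hp, rfl⟩ m
      rw [Rep.mem_ag, sub_eq_add_neg, R.add, R.el_neg, R.smul]
      exact hcomm p hp _ (R.mem m))
    (by
      intro m hm
      have h1 : R.el m ∈ zl (S : Subgroup G) P ⊓ centralizer (oddGen P : Set G) := by
        refine ⟨R.mem m, ?_⟩
        change R.el m ∈ centralizer (oddGen P : Set G)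
        rw [mem_centralizer_iff]
        intro x hx
        have h2 := hm (R.ac ⟨x, oddGen_le P hx⟩) ⟨_, hx, rfl⟩
        have h3 := congrArg R.el h2
        rw [R.smul] at h3
        exact mul_inv_eq_iff_eq_mul.1 h3
      rw [h.one.cen, mem_bot] at h1
      apply R.inj
      rw [h1, R.el_zero])
    (R.ac p₁) (R.ac p₂) ⟨p₁, hodd p₁ ho₁, rfl⟩ ⟨p₂, hodd p₂ ho₂, rfl⟩
    (Odd.of_dvd_nat ho₁ (orderOf_map_dvd R.ac p₁)) (fp p₁ fp₁) (fp p₂ fp₂) (hcom p₁ p₂ hc) (by
      intro y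
      obtain ⟨g, rfl⟩ := R.acs y
      rw [← map_mul, ← map_inv, ← map_mul]
      rcases conj (R₁.ac g) with h1 | h1
      · left
        rw [← map_mul, ← map_inv, ← map_mul] at h1
        exact hcom _ _ h1
      · right
        rw [← map_mul, ← map_inv, ← map_mul] at h1
        exact hcom _ _ h1)
  refine le_antisymm hV1 fun v hv => ?_
  obtain ⟨m, rfl⟩ := R.surj v hv
  have h1 : m ∈ R.ag (V1 S P) := by rw [key]; trivial
  exact h1

end grp

section h

open Matrix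

variable {Y M : Type*} [Group Y] [AddCommGroup M] [DistribMulAction Y M] {K : Type*} [Field K]
  {c : M → Matrix (Fin 2) (Fin 2) K}

theorem MC.zero (C : MC Y c) : c 0 = 0 := by
  have h := C.add 0 0
  rw [add_zero] at h
  exact left_eq_add.1 h

theorem MC.neg (C : MC Y c) (m : M) : c (-m) = - c m := by
  have h := C.add (-m) m
  rw [neg_add_cancel, MC.zero C] at h
  exact eq_neg_of_add_eq_zero_left h.symm

theorem MC.inj (C : MC Y c) {m n : M} (h : c m = c n) : m = n := by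
  have h1 : c (m + -n) = 0 := by rw [C.add, MC.neg C, h, add_neg_cancel]
  have h2 := C.ker _ h1
  exact eq_of_sub_eq_zero (by rwa [sub_eq_add_neg])

theorem exists_lam [Finite K] (h4 : 4 ≤ Nat.card K) : ∃ l : K, l ≠ 0 ∧ l ≠ 1 := by
  classical
  have := Fintype.ofFinite K
  by_contra hcon
  push Not at hcon
  have h1 : Nat.card K ≤ 2 := by
    rw [Nat.card_eq_fintype_card, ← Finset.card_univ]
    calc (Finset.univ : Finset K).card ≤ ({0, 1} : Finset K).card := by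
          apply Finset.card_le_card
          intro x _
          by_cases hx : x = 0
          · simp [hx]
          · simp [hcon x hx]
      _ ≤ 2 := Finset.card_le_two
  omega

/-- the elements `h₁ = diag(λ, λ⁻¹) ⊗ 1`, `h₂ = 1 ⊗ diag(λ, λ⁻¹)` -/
theorem MC.exists_h [Finite K] [CharP K 2] (h4 : 4 ≤ Nat.card K) (C : MC Y c)
    (faith : ∀ y : Y, (∀ m : M, y • m = m) → y = 1) :
    ∃ h₁ h₂ : Y, Odd (orderOf h₁) ∧ Odd (orderOf h₂) ∧ (∀ m : M, h₁ • m = m → m = 0) ∧
      (∀ m : M, h₂ • m = m → m = 0) ∧ h₁ * h₂ = h₂ * h₁ ∧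
      ∀ y : Y, (y * h₁ * y⁻¹) * h₁ = h₁ * (y * h₁ * y⁻¹) ∨ (y * h₁ * y⁻¹) * h₂ = h₂ * (y * h₁ * y⁻¹) := by
  obtain ⟨l, hl0, hl1⟩ := exists_lam (K := K) h4
  have hli1 : l⁻¹ ≠ 1 := fun h => hl1 (inv_eq_one.1 h)
  let D : Matrix.SpecialLinearGroup (Fin 2) K := ⟨!![l, 0; 0, l⁻¹], by rw [det_fin_two_of]; simp [hl0]⟩
  have hD : D.1 = !![l, 0; 0, l⁻¹] := rfl
  obtain ⟨h₁, hh₁⟩ := C.lift D 1
  obtain ⟨h₂, hh₂⟩ := C.lift 1 D
  have e1 : (1 : Matrix.SpecialLinearGroup (Fin 2) K).1 = 1 := rfl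
  have hh₁' : ∀ m, c (h₁ • m) = D.1 * c m := fun m => by
    rw [hh₁, e1, transpose_one, Matrix.mul_one]
  have hh₂' : ∀ m, c (h₂ • m) = c m * D.1ᵀ := fun m => by
    rw [hh₂, e1, Matrix.one_mul]
  have ext1 : ∀ x y : Y, (∀ m, c (x • m) = c (y • m)) → x = y := by
    intro x y hxy
    have h1 : y⁻¹ * x = 1 := by
      apply faith
      intro m
      rw [mul_smul, inv_smul_eq_iff]
      exact MC.inj C (hxy m)
    exact (inv_mul_eq_one.1 h1).symm
  obtain ⟨n, hnodd, hn⟩ : ∃ n : ℕ, Odd n ∧ l ^ n = 1 := by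
    have := Fintype.ofFinite K
    refine ⟨Fintype.card K - 1, ?_, FiniteField.pow_card_sub_one_eq_one l hl0⟩
    have : Fact (Nat.Prime 2) := ⟨Nat.prime_two⟩
    obtain ⟨k, -, hk⟩ := FiniteField.card K 2
    have h1 : Even (Fintype.card K) := by
      rw [hk]
      exact (Nat.even_pow.2 ⟨even_two, k.pos.ne'⟩)
    exact Nat.Even.sub_odd Fintype.card_pos h1 odd_one
  have hDn : ∀ k : ℕ, D.1 ^ k = !![l ^ k, 0; 0, (l⁻¹) ^ k] := by
    intro k
    induction k with
    | zero => rw [pow_zero, pow_zero, pow_zero, one_fin_two]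
    | succ k ih =>
      rw [pow_succ, ih, hD, mul_fin_two]
      simp [pow_succ]
  have hp1 : ∀ (k : ℕ) m, c (h₁ ^ k • m) = D.1 ^ k * c m := by
    intro k
    induction k with
    | zero => intro m; rw [pow_zero, pow_zero, one_smul, Matrix.one_mul]
    | succ k ih => intro m; rw [pow_succ, mul_smul, ih, hh₁', pow_succ, Matrix.mul_assoc]
  have hp2 : ∀ (k : ℕ) m, c (h₂ ^ k • m) = c m * (D.1 ^ k)ᵀ := by
    intro k
    induction k with
    | zero => intro m; rw [pow_zero, pow_zero, one_smul, transpose_one, Matrix.mul_one]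
    | succ k ih => intro m; rw [pow_succ, mul_smul, ih, hh₂', pow_succ', transpose_mul, Matrix.mul_assoc, transpose_pow,
        ← pow_succ', ← pow_succ]
  have hDn1 : D.1 ^ n = 1 := by
    rw [hDn, inv_pow, hn, inv_one, one_fin_two]
  refine ⟨h₁, h₂, ?_, ?_, ?_, ?_, ?_, ?_⟩
  · refine hnodd.of_dvd_nat (orderOf_dvd_of_pow_eq_one ?_)
    apply ext1
    intro m
    rw [hp1, hDn1, Matrix.one_mul, one_smul]
  · refine hnodd.of_dvd_nat (orderOf_dvd_of_pow_eq_one ?_)
    apply ext1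
    intro m
    rw [hp2, hDn1, transpose_one, Matrix.mul_one, one_smul]
  · intro m hm
    apply C.ker
    have h1 : D.1 * c m = c m := by rw [← hh₁', hm]
    have key : ∀ x : K, ∀ k : K, k ≠ 1 → k * x = x → x = 0 := by
      intro x k hk hx
      have h2 : (k - 1) * x = 0 := by rw [sub_mul, hx, one_mul, sub_self]
      exact (mul_eq_zero.1 h2).resolve_left (sub_ne_zero.2 hk)
    ext i j
    have h3 := congrFun (congrFun h1 i) j
    rw [hD, Matrix.mul_apply, Fin.sum_univ_two] at h3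
    fin_cases i
    · simp only [Fin.zero_eta, of_apply, cons_val', cons_val_zero, cons_val_one, zero_mul, add_zero] at h3
      exact key _ l hl1 h3
    · simp only [Fin.mk_one, of_apply, cons_val', cons_val_zero, cons_val_one, zero_mul, zero_add] at h3
      exact key _ l⁻¹ hli1 h3
  · intro m hm
    apply C.ker
    have h1 : c m * D.1ᵀ = c m := by rw [← hh₂', hm]
    have key : ∀ x : K, ∀ k : K, k ≠ 1 → x * k = x → x = 0 := by
      intro x k hk hx
      have h2 : x * (k - 1) = 0 := by rw [mul_sub, hx, mul_one, sub_self]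
      exact (mul_eq_zero.1 h2).resolve_right (sub_ne_zero.2 hk)
    ext i j
    have h3 := congrFun (congrFun h1 i) j
    rw [hD, Matrix.mul_apply, Fin.sum_univ_two] at h3
    fin_cases j
    · simp only [Fin.zero_eta, transpose_apply, of_apply, cons_val', cons_val_zero, cons_val_one, mul_zero, add_zero] at h3
      exact key _ l hl1 h3
    · simp only [Fin.mk_one, transpose_apply, of_apply, cons_val', cons_val_zero, cons_val_one, mul_zero, zero_add] at h3
      exact key _ l⁻¹ hli1 h3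
  · apply ext1
    intro m
    rw [mul_smul, hh₁', hh₂', mul_smul, hh₂', hh₁', Matrix.mul_assoc]
  · intro y
    rcases C.ps y with ⟨σ, X, Q, h1, h2, h3⟩ | ⟨σ, X, Q, h1, h2, h3⟩
    · right
      obtain ⟨D', hD'⟩ := exists_conjM σ X h1 D
      have h5 : ∀ m, c ((y * h₁ * y⁻¹) • m) = D'.1 * c m := by
        intro m
        have h6 := h3 (y⁻¹ • m)
        rw [smul_inv_smul] at h6
        rw [mul_smul, mul_smul, h3, hh₁', h6, map_mul_eq]
        calc X * (D.1.map σ * (c (y⁻¹ • m)).map σ) * Qᵀ = (X * D.1.map σ) * ((c (y⁻¹ • m)).map σ * Qᵀ) := by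
              simp only [Matrix.mul_assoc]
          _ = (D'.1 * X) * ((c (y⁻¹ • m)).map σ * Qᵀ) := by rw [hD']
          _ = _ := by simp only [Matrix.mul_assoc]
      apply ext1
      intro m
      rw [mul_smul (y * h₁ * y⁻¹), mul_smul h₂, h5, hh₂', hh₂', h5, Matrix.mul_assoc]
    · left
      obtain ⟨D', hD'⟩ := exists_conjM σ Q h2 D
      have h5 : ∀ m, c ((y * h₁ * y⁻¹) • m) = c m * D'.1ᵀ := by
        intro m
        have h6 := h3 (y⁻¹ • m)
        rw [smul_inv_smul] at h6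
        have h7 : (Q * D.1.map σ)ᵀ = (D'.1 * Q)ᵀ := by rw [hD']
        rw [transpose_mul, transpose_mul] at h7
        rw [mul_smul, mul_smul, h3, hh₁', h6, map_mul_eq, transpose_mul]
        calc X * (((c (y⁻¹ • m)).map σ)ᵀ * (D.1.map σ)ᵀ) * Qᵀ
            = X * ((c (y⁻¹ • m)).map σ)ᵀ * ((D.1.map σ)ᵀ * Qᵀ) := by simp only [Matrix.mul_assoc]
          _ = X * ((c (y⁻¹ • m)).map σ)ᵀ * (Qᵀ * D'.1ᵀ) := by rw [h7]
          _ = _ := by simp only [Matrix.mul_assoc]
      apply ext1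
      intro m
      rw [mul_smul (y * h₁ * y⁻¹), mul_smul h₁, h5, hh₁', hh₁', h5, Matrix.mul_assoc]

theorem exists_small {K : Type*} [Field K] [Finite K] [CharP K 2] :
    ∃ (K₀ : Type) (_ : Field K₀) (_ : Finite K₀) (_ : CharP K₀ 2), Nat.card K₀ = Nat.card K ∧
      Nonempty (K ≃+* K₀) := by
  have : Fact (Nat.Prime 2) := ⟨Nat.prime_two⟩
  have := Fintype.ofFinite K
  obtain ⟨n, -, hn⟩ := FiniteField.card K 2
  have hn0 : (n : ℕ) ≠ 0 := n.pos.ne'
  have h2 : Nat.card (GaloisField 2 n) = Nat.card K := by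
    rw [GaloisField.card 2 n hn0, Nat.card_eq_fintype_card, hn]
  have := Fintype.ofFinite (GaloisField 2 n)
  refine ⟨GaloisField 2 n, inferInstance, inferInstance, inferInstance, h2, ⟨?_⟩⟩
  exact FiniteField.ringEquivOfCardEq (by rw [← Nat.card_eq_fintype_card, ← Nat.card_eq_fintype_card, h2])

end h

section top

variable {G : Type u} [Group G] [Finite G] {S : Sylow 2 G} {P : Subgroup G}

/-- `V₁ = V_P` and `PlusQ` -/
theorem ty_of_mc (h : Cfg S P) {Y M : Type u} [Group Y] [AddCommGroup M] [DistribMulAction Y M] {T : Sylow 2 Y}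
    {Mx : Subgroup Y} (R : Rep (S : Subgroup G) P (V1 S P) Y M T Mx) {K : Type*} [Field K] [Finite K] [CharP K 2]
    (h4 : 4 ≤ Nat.card K) {c : M → Matrix (Fin 2) (Fin 2) K} (C : MC Y c)
    (hE : 4 ≤ (EE (S : Subgroup G) P).relIndex (zl (S : Subgroup G) P)) : Ty (S : Subgroup G) P := by
  obtain ⟨h₁, h₂, a1, a2, a3, a4, a5, a6⟩ := MC.exists_h h4 C R.faith
  have hV := V1_eq h R h₁ h₂ a1 a2 a3 a4 a5 a6
  obtain ⟨K₀, _, _, _, hK, ⟨τ⟩⟩ := exists_small (K := K)
  have h5 := (C.congr τ).plusQ R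
  rw [hV] at h5
  exact Ty.plusQ K₀ (by rw [hK]; exact h4) hE h5

/-- **THEOREM COMP, the end**: `PlusQ` -/
theorem ty_of_pIn (h : Cfg S P) {Y M : Type u} [Group Y] [AddCommGroup M] [DistribMulAction Y M] {T : Sylow 2 Y}
    {Mx : Subgroup Y} (R : Rep (S : Subgroup G) P (V1 S P) Y M T Mx) {K : Type*} [Field K] [Finite K] [CharP K 2]
    (h4 : 4 ≤ Nat.card K) [Module K M] {W W' : Type*} [AddCommGroup W] [Module K W] [AddCommGroup W'] [Module K W']
    {φ : TensorProduct K W W' ≃ₗ[K] M} (I : PIn Y φ)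
    (hE : 4 ≤ (EE (S : Subgroup G) P).relIndex (zl (S : Subgroup G) P)) : Ty (S : Subgroup G) P := by
  obtain ⟨b, b', C⟩ := I.mc
  exact ty_of_mc h R h4 C hE

end top

end Cfsg.Agent.Omega.NO1.Comp.Seven
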