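import Cfsg.Agent.Omega.NO1.Comp.Six

/-!
# N1, THEOREM COMP, (6c): `dim W = 2` ⟹ `SL(W)` is induced (project OMEGA; typed by helper570)
-/

set_option autoImplicit false
set_option linter.unusedSectionVars false

namespace Cfsg.Agent.Omega.NO1.Comp.Six

open TensorProduct Module

section mats

variable {K W : Type*} [Field K] [AddCommGroup W] [Module K W]

theorem toLin_transvection (b : Basis (Fin 2) K W) {i j : Fin 2} (hij : i ≠ j) (c : K) (a : W) :
    Matrix.toLin b b (Matrix.transvection i j c) a = a + (c • b.coord j) a • b i := by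
  have h4 : Matrix.toLin b b (Matrix.transvection i j c) =
      LinearMap.id + (c • b.coord j).smulRight (b i) := by
    apply b.ext
    intro l
    rw [Matrix.toLin_self, LinearMap.add_apply, LinearMap.id_apply, LinearMap.smulRight_apply,
      LinearMap.smul_apply, Basis.coord_apply, Basis.repr_self]
    fin_cases i <;> fin_cases j <;> fin_cases l <;>
      simp_all [Matrix.transvection, Matrix.single_apply, Fin.sum_univ_two, Matrix.one_apply, add_comm]
  rw [h4]
  rfl

end mats

section two

variable {K W W' M Y : Type*} [Field K] [AddCommGroup W] [Module K W] [AddCommGroup W'] [Module K W']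
  [AddCommGroup M] [Module K M] [Group Y] [DistribMulAction Y M] {φ : W ⊗[K] W' ≃ₗ[K] M}

/-- the matrix `g` is induced on `W` -/
def IndM (φ : W ⊗[K] W' ≃ₗ[K] M) (b : Basis (Fin 2) K W) (g : Matrix (Fin 2) (Fin 2) K) : Prop :=
  ∃ y : Y, ∀ x, y • φ x = φ (TensorProduct.map (Matrix.toLin b b g) LinearMap.id x)

theorem indM_mul {b : Basis (Fin 2) K W} {g₁ g₂ : Matrix (Fin 2) (Fin 2) K} (h₁ : IndM (Y := Y) φ b g₁)
    (h₂ : IndM (Y := Y) φ b g₂) : IndM (Y := Y) φ b (g₁ * g₂) := by
  obtain ⟨y₁, h₁⟩ := h₁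
  obtain ⟨y₂, h₂⟩ := h₂
  refine ⟨y₁ * y₂, fun x => ?_⟩
  rw [mul_smul, h₂, h₁, Matrix.toLin_mul b b b]
  congr 1
  induction x with
  | zero => rw [map_zero, map_zero, map_zero]
  | tmul a d => rfl
  | add u v hu hv => rw [map_add, map_add, map_add, hu, hv]

theorem indM_tv (hall : ∀ (f : Dual K W) (h : W), f h = 0 → ∃ y : Y, Ind φ f h y) (b : Basis (Fin 2) K W)
    {i j : Fin 2} (hij : i ≠ j) (c : K) : IndM (Y := Y) φ b (Matrix.transvection i j c) := by
  obtain ⟨y, hy⟩ := hall (c • b.coord j) (b i) (by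
    rw [LinearMap.smul_apply, Basis.coord_apply, Basis.repr_self, Finsupp.single_apply, if_neg hij, smul_zero])
  refine ⟨y, fun x => ?_⟩
  induction x with
  | zero => rw [map_zero, smul_zero, map_zero, map_zero]
  | tmul a d =>
    rw [hy, TensorProduct.map_tmul, toLin_transvection b hij c a]
    rfl
  | add u v hu hv => rw [map_add, smul_add, hu, hv, map_add, map_add]

theorem indM_sl (hall : ∀ (f : Dual K W) (h : W), f h = 0 → ∃ y : Y, Ind φ f h y) (b : Basis (Fin 2) K W)
    (g : Matrix.SpecialLinearGroup (Fin 2) K) : IndM (Y := Y) φ b g.1 :=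
  LieClassical.SLGen.transvection_induction (fun g => IndM (Y := Y) φ b g.1)
    (fun _ _ hij c => indM_tv hall b hij c) (fun _ _ h₁ h₂ => indM_mul h₁ h₂) g

/-- **(6c)** `dim W = 2`: every linear map of determinant 1 of `W` is induced -/
theorem sl_two (hall : ∀ (f : Dual K W) (h : W), f h = 0 → ∃ y : Y, Ind φ f h y) (hd : finrank K W = 2)
    (A : W →ₗ[K] W) (hA : LinearMap.det A = 1) :
    ∃ y : Y, ∀ x, y • φ x = φ (TensorProduct.map A LinearMap.id x) := by
  have : Module.Finite K W := Module.finite_of_finrank_pos (by omega)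
  let b : Basis (Fin 2) K W := Module.finBasisOfFinrankEq K W hd
  obtain ⟨y, hy⟩ := indM_sl hall b ⟨LinearMap.toMatrix b b A, by rw [LinearMap.det_toMatrix]; exact hA⟩
  refine ⟨y, fun x => ?_⟩
  have h1 : Matrix.toLin b b (LinearMap.toMatrix b b A) = A := Matrix.toLin_toMatrix b b A
  have h2 := hy x
  change y • φ x = φ (TensorProduct.map (Matrix.toLin b b (LinearMap.toMatrix b b A)) LinearMap.id x) at h2
  rw [h1] at h2
  exact h2

/-- the same for `W'` -/
theorem sl_two' (hall : ∀ (f : Dual K W') (h : W'), f h = 0 → ∃ y : Y, Ind' φ f h y) (hd : finrank K W' = 2)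
    (A : W' →ₗ[K] W') (hA : LinearMap.det A = 1) :
    ∃ y : Y, ∀ x, y • φ x = φ (TensorProduct.map LinearMap.id A x) := by
  obtain ⟨y, hy⟩ := sl_two (φ := (TensorProduct.comm K W' W).trans φ) (Y := Y) (fun f h hf => by
    obtain ⟨y, hy⟩ := hall f h hf
    exact ⟨y, fun w w' => hy w' w⟩) hd A hA
  refine ⟨y, fun x => ?_⟩
  have h1 := hy (TensorProduct.comm K W W' x)
  have h2 : ((TensorProduct.comm K W' W).trans φ) (TensorProduct.comm K W W' x) = φ x := by
    show φ ((TensorProduct.comm K W' W) (TensorProduct.comm K W W' x)) = φ x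
    congr 1
    exact (TensorProduct.comm K W W').symm_apply_apply x
  rw [h2] at h1
  rw [h1]
  show φ ((TensorProduct.comm K W' W) _) = _
  congr 1
  clear h1 h2 hy
  induction x with
  | zero => simp only [map_zero]
  | tmul a d => rfl
  | add u v hu hv => simp only [map_add]; rw [hu, hv]

end two

end Cfsg.Agent.Omega.NO1.Comp.Six
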