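import Cfsg.Agent.Omega.NO1.Comp.Pair
import Cfsg.Agent.Omega.NO1.Comp.SixC
import Cfsg.Agent.Omega.NO1.Comp.Seven
import Cfsg.Agent.Omega.NO1.Fr

/-!
# THEOREM COMP (#17539): the end (helper789)

* `POut.pIn` : two components give the input `PIn` of `Seven`;
* `Fr.four_le` : `4 ≤ |V_P : V_P ∩ E_F|` implies `4 ≤ |V_P : V_P ∩ O₂(C_G(Z))|`;
* `OneC` : exactly one component, on the representation of `V₁ = [V_P, O²(P)]`;
* `comp` : `Fr S P M F`, `4 ≤ |V_P : V_P ∩ E_F|` imply `Ty S P` or `OneC`;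
* `FrOne`, `frFour_of_one` : `FrFour` from the case of one component.
-/

set_option autoImplicit false
set_option linter.unusedSectionVars false

namespace Cfsg.Agent.Omega.NO1.Comp

open Module TensorProduct Subgroup Cfsg Cfsg.Agent.ZN Cfsg.Agent.Omega.MinPar Cfsg.Agent.Omega.Frame
open Cfsg.Agent.Lib.ComponentSolvable
open Cfsg.Agent.Omega.NO1 Cfsg.Agent.Omega.NO1.WRF.Irr
open Cfsg.Agent.Omega.FFThm (OffM)
open Cfsg.Agent.Omega.NOne.Flat (Hyp WW)
open Cfsg.Agent.Omega.NO1.Comp.Six (Pur Swp IsPure IsSwap Ind Ind')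

universe u

section pin

variable {Y M : Type u} [Group Y] [Finite Y] [AddCommGroup M] [Finite M] [DistribMulAction Y M] [FaithfulSMul Y M]
variable {K : Type u} [Field K] [Finite K] [CharP K 2] [Module K M]

theorem POut.pIn {T : Sylow 2 Y} {Mx : Subgroup Y} {E : AddSubgroup M} {W W' : Type u} [AddCommGroup W] [Module K W]
    [AddCommGroup W'] [Module K W'] {φ : W ⊗[K] W' ≃ₗ[K] M} (h : POut (Y := Y) T E φ) (hM : Grp.MinP T Mx)
    (hirr : Irr.Irred Y M) : PIn Y φ := by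
  have := h.fin
  have := h.fin'
  obtain ⟨s, hsT, hs⟩ := h.sw
  obtain ⟨f₀, hf0, hf⟩ := h.tv
  have hall : ∀ (f : Dual K W) (w : W), f w = 0 → ∃ y : Y, Ind φ f w y :=
    fun f w hw => Six.all_transv hf0 hf h.irr f w hw
  have hall' : ∀ (f : Dual K W') (w : W'), f w = 0 → ∃ y : Y, Ind' φ f w y :=
    fun f w hw => Six.all_transv' hs hall f w hw
  have hd : finrank K W = 2 := Six.finrank_eq_two hM (fun y hy => by
    apply FaithfulSMul.eq_of_smul_eq_smul (α := M)
    intro m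
    rw [hy m, one_smul]) hirr h.ps hsT hs hall h.d
  have hd' : finrank K W' = 2 := (Six.finrank_swap hs).trans hd
  exact
    { hW := hd
      hW' := hd'
      r₁ := fun A hA => Six.sl_two hall hd A hA
      r₂ := fun A hA => Six.sl_two' hall' hd' A hA
      ps := h.ps
      sw := ⟨s, hs⟩ }

end pin

section fr

variable {G : Type u} [Group G] [Finite G] {S : Sylow 2 G} {P M₀ F : Subgroup G}

theorem _root_.Cfsg.Agent.Omega.NO1.Fr.four_le (h : Fr S P M₀ F)
    (h4 : 4 ≤ (NOne.Flat.EE (zl (S : Subgroup G) M₀) F).relIndex (zl (S : Subgroup G) P)) :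
    4 ≤ (EE (S : Subgroup G) P).relIndex (zl (S : Subgroup G) P) := by
  have hZF : zc (S : Subgroup G) ≤ F := h.fdat.Z_le.trans inf_le_right
  have hFc : (centralizer (F : Set G)) ≤ NoFF.LinesPlug.CC (S : Subgroup G) := centralizer_le hZF
  have h1 : o2 (NoFF.LinesPlug.CC (S : Subgroup G)) ⊓ centralizer (F : Set G) ≤ o2 (centralizer (F : Set G)) := by
    refine le_o2 inf_le_right ((isPGroup_o2 _).to_le inf_le_left) ?_
    refine le_trans (le_inf ?_ le_normalizer) Subgroup.inf_normalizer_le_normalizer_inf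
    exact hFc.trans (le_normalizer_o2 _)
  have h2 : EE (S : Subgroup G) P ≤ NOne.Flat.EE (zl (S : Subgroup G) M₀) F := by
    refine le_inf (inf_le_left.trans h.VP_le) fun x hx => h1 ⟨hx.2, ?_⟩
    exact (h.VP_le.trans (h.hyp.comm.trans (centralizer_le h.hyp.F_le_V))) hx.1
  exact h4.trans (relIndex_le_of_le_left h2 Subgroup.index_ne_zero_of_finite)

/-- **exactly one component**, on the representation `R` of `V₁`; `V` is the big flat module, `F ≤ V` -/
structure OneC {S : Sylow 2 G} {P : Subgroup G} (V F : Subgroup G) {Y M : Type u} [Group Y] [AddCommGroup M]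
    [DistribMulAction Y M] {T : Sylow 2 Y} {Mx : Subgroup Y} (R : Rep (S : Subgroup G) P (V1 S P) Y M T Mx)
    (K₁ : Subgroup Y) (K : Type u) [Field K] [Module K M] : Prop where
  sit : Grp.Sit T Mx K₁
  act : ¬ R.im (WW V F) ≤ centralizer (K₁ : Set Y)
  inp : Inp (R.im (WW V F)) (R.ag (V1 S P ⊓ NOne.Flat.EE V F)) (R.ag (V1 S P ⊓ F))
  fld : Fld (R.im (WW V F)) K M
  irr : Irr.Irred Y M
  one : ∀ L : Subgroup Y, IsComponent L → L = K₁

/-- **THEOREM COMP** -/
theorem comp (h : Fr S P M₀ F)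
    (h4 : 4 ≤ (NOne.Flat.EE (zl (S : Subgroup G) M₀) F).relIndex (zl (S : Subgroup G) P)) :
    Ty (S : Subgroup G) P ∨
      ∃ (Y M : Type u) (_ : Group Y) (_ : Finite Y) (_ : AddCommGroup M) (_ : Finite M) (_ : DistribMulAction Y M)
        (T : Sylow 2 Y) (Mx : Subgroup Y) (R : Rep (S : Subgroup G) P (V1 S P) Y M T Mx) (K₁ : Subgroup Y)
        (K : Type u) (_ : Field K) (_ : Finite K) (_ : CharP K 2) (_ : Module K M),
        OneC (zl (S : Subgroup G) M₀) F R K₁ K := by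
  have hd := h.fdat
  obtain ⟨Y, M, _, _, _, _, _, T, Mx, ⟨R⟩⟩ := RepOne.exists_rep1 hd
  have := R.faithfulSMul
  have H := h.hyp
  have h0V : V1 S P ≤ zl (S : Subgroup G) M₀ := hd.V1_le.trans h.VP_le
  have hWP : WW (zl (S : Subgroup G) M₀) F ≤ P := h.W_le_S.trans h.cfg.S_le
  have hn : WW (zl (S : Subgroup G) M₀) F ≤ normalizer (V1 S P : Set G) := hWP.trans hd.P_norm_V1
  have hnot : ¬ V1 S P ≤ NOne.Flat.EE (zl (S : Subgroup G) M₀) F := hyp_not_V1 H h.cfg h.VP_le h.W_le_S h.not_le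
  have h4' : 4 ≤ (V1 S P ⊓ NOne.Flat.EE (zl (S : Subgroup G) M₀) F).relIndex (V1 S P) := by
    rw [hyp_index_V1 H h.cfg h.VP_le h.W_le_S h.not_le, inf_relIndex_left]
    exact h4
  obtain ⟨f1, f2, f3, f5⟩ := rep_flat H R hWP h0V hn hnot h4'
  have hO : R.im (WW (zl (S : Subgroup G) M₀) F) ≤ centralizer (pPrimeCore 2 Y : Set Y) := by
    refine rep_odd H R hWP h0V hn hnot h4' ?_ ?_
    · have h5 := Lib.Cores.pPrimeCore_coprime (G := Y) 2
      exact (Nat.coprime_two_right).1 h5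
    · intro u _ x hx
      exact (Lib.Cores.pPrimeCore_normal 2).conj_mem x hx u
  have hF2 : IsPGroup 2 F := S.isPGroup'.to_le (H.F_le_E.trans (NOne.Flat.Hyp.E_le_W.trans h.W_le_S))
  obtain ⟨K₁, hS, hact, hirr⟩ := RepOne.exists_sit hd R h.noff inf_le_right
    (h.VP_le.trans (H.comm.trans (centralizer_le H.F_le_V))) (H.F_le_V.trans (H.comm.trans (centralizer_le H.F_le_V)))
    hF2 (hyp_bad H h.VP_le h.not_le) hO
  have hI : Inp (R.im (WW (zl (S : Subgroup G) M₀) F)) (R.ag (V1 S P ⊓ NOne.Flat.EE (zl (S : Subgroup G) M₀) F))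
      (R.ag (V1 S P ⊓ F)) := ⟨f1, f2, f3, f5, hirr⟩
  obtain ⟨K, _, _, _, _, hf⟩ := hI.exists_field
  by_cases h1 : ∀ L : Subgroup Y, IsComponent L → L = K₁
  · right
    exact ⟨Y, M, inferInstance, inferInstance, inferInstance, inferInstance, inferInstance, T, Mx, R, K₁, K,
      inferInstance, inferInstance, inferInstance, inferInstance, hS, hact, hI, hf, RepOne.irred hd R, h1⟩
  · left
    push Not at h1
    obtain ⟨K₂, h2, h12⟩ := h1
    obtain ⟨W, W', _, _, _, _, φ, hp⟩ := hI.pair hf hS h2 (Ne.symm h12)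
    have h5 : 4 ≤ Nat.card K := by
      have h6 := hp.card
      rw [h6] at f2
      exact Nat.le_of_mul_le_mul_right f2 Nat.card_pos
    exact Seven.ty_of_pIn h.cfg R h5 (hp.pIn (RepOne.minP R) (RepOne.irred hd R)) (h.four_le h4)

end fr

/-- **CARD N1-ONE** (#17954): exactly one component -/
def FrOne : Prop :=
  ∀ (G : Type u) [Group G] [Finite G] (S : Sylow 2 G) (P M₀ F : Subgroup G), Fr S P M₀ F →
    ¬ PlusAt (S : Subgroup G) P (NOne.Flat.EE (zl (S : Subgroup G) M₀) F) →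
    4 ≤ (NOne.Flat.EE (zl (S : Subgroup G) M₀) F).relIndex (zl (S : Subgroup G) P) →
    ∀ (Y M : Type u) [Group Y] [Finite Y] [AddCommGroup M] [Finite M] [DistribMulAction Y M]
      (T : Sylow 2 Y) (Mx : Subgroup Y) (R : Rep (S : Subgroup G) P (V1 S P) Y M T Mx) (K₁ : Subgroup Y)
      (K : Type u) [Field K] [Finite K] [CharP K 2] [Module K M],
      OneC (zl (S : Subgroup G) M₀) F R K₁ K → Ty (S : Subgroup G) P

/-- THEOREM COMP: `FrFour` is reduced to one component -/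
theorem frFour_of_one (h1 : FrOne.{u}) : FrFour.{u} := by
  intro G _ _ S P M₀ F h hp h4
  rcases comp h h4 with h2 | ⟨Y, M, _, _, _, _, _, T, Mx, R, K₁, K, _, _, _, _, h2⟩
  · exact h2
  · exact h1 G S P M₀ F h hp h4 Y M T Mx R K₁ K h2

end Cfsg.Agent.Omega.NO1.Comp
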