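import Cfsg.Agent.Omega.NO1.Comp.Fix

/-!
# THEOREM COMP (bb OMEGA #17539), step (5), first half: `V = W ⊗ W'`

`PFlat ρ ρ' act E F`: a `KFlat` on `W ⊗[K] W'`, `act u = ρ u ⊗ ρ' u`, nontrivial on both factors,
both of dimension `≥ 2`.  Then `ε = d + d' - 2`, `[W,U]`, `[W',U]` are hyperplanes, `N = 1`, and for
every pure `x ⊗ ξ ∉ E` the group `U` is regular on `(x + [W,U]) × (ξ + [W',U])`.
-/

set_option linter.unusedSectionVars false
set_option linter.style.haveILetI false

namespace Cfsg.Agent.Omega.NO1.Comp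

open Module TensorProduct

variable {K : Type*} [Field K] {W W' : Type*} [AddCommGroup W] [Module K W] [AddCommGroup W']
  [Module K W'] {U : Type*} [Group U]

/-- the input of step (5) -/
structure PFlat (ρ : U →* Module.End K W) (ρ' : U →* Module.End K W')
    (act : U →* Module.End K (W ⊗[K] W')) (E F : Submodule K (W ⊗[K] W')) : Prop where
  flat : KFlat act E F
  act_eq : ∀ u, act u = TensorProduct.map (ρ u) (ρ' u)
  n : ∃ u, ρ u ≠ 1
  n' : ∃ u, ρ' u ≠ 1
  d : 2 ≤ finrank K W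
  d' : 2 ≤ finrank K W'

variable {ρ : U →* Module.End K W} {ρ' : U →* Module.End K W'}
    {act : U →* Module.End K (W ⊗[K] W')} {E F : Submodule K (W ⊗[K] W')}

namespace PFlat

theorem act_tmul (h : PFlat ρ ρ' act E F) (u : U) (x : W) (ξ : W') :
    act u (x ⊗ₜ ξ) = ρ u x ⊗ₜ ρ' u ξ := by
  rw [h.act_eq]; rfl

theorem rho_sq (h : PFlat ρ ρ' act E F) (u : U) (x : W) : ρ u (ρ u x) = x := by
  rw [← Module.End.mul_apply, ← map_mul, h.flat.sq u, map_one]; rfl

theorem rho_sq' (h : PFlat ρ ρ' act E F) (u : U) (x : W') : ρ' u (ρ' u x) = x := by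
  rw [← Module.End.mul_apply, ← map_mul, h.flat.sq u, map_one]; rfl

theorem eq_one (h : PFlat ρ ρ' act E F) {u : U} (h1 : ρ u = 1) (h2 : ρ' u = 1) : u = 1 := by
  apply h.flat.faith
  rw [h.act_eq, h1, h2]
  exact TensorProduct.map_one

/-- `W` and `W'` exchanged -/
noncomputable def actS (act : U →* Module.End K (W ⊗[K] W')) : U →* Module.End K (W' ⊗[K] W) where
  toFun u := (TensorProduct.comm K W W').toLinearMap ∘ₗ act u ∘ₗ
    (TensorProduct.comm K W W').symm.toLinearMap
  map_one' := by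
    rw [map_one]
    apply LinearMap.ext; intro v
    change (TensorProduct.comm K W W') ((TensorProduct.comm K W W').symm v) = v
    simp
  map_mul' u v := by
    rw [map_mul]
    apply LinearMap.ext; intro x
    change (TensorProduct.comm K W W') (act u (act v ((TensorProduct.comm K W W').symm x))) =
      (TensorProduct.comm K W W') (act u ((TensorProduct.comm K W W').symm
        ((TensorProduct.comm K W W') (act v ((TensorProduct.comm K W W').symm x)))))
    rw [LinearEquiv.symm_apply_apply]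

theorem symm (h : PFlat ρ ρ' act E F) :
    PFlat ρ' ρ (actS act) (E.map (TensorProduct.comm K W W').toLinearMap)
      (F.map (TensorProduct.comm K W W').toLinearMap) := by
  refine ⟨h.flat.congr (TensorProduct.comm K W W') ?_, ?_, h.n', h.n, h.d', h.d⟩
  · intro u v
    change (TensorProduct.comm K W W') (act u ((TensorProduct.comm K W W').symm
      ((TensorProduct.comm K W W') v))) = _
    rw [LinearEquiv.symm_apply_apply]
  · intro u
    apply TensorProduct.ext'
    intro x y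
    change (TensorProduct.comm K W W') (act u ((TensorProduct.comm K W W').symm (x ⊗ₜ y))) = _
    rw [TensorProduct.comm_symm_tmul, h.act_tmul, TensorProduct.comm_tmul]; rfl

/-- some `u` is nontrivial on both factors -/
theorem exists_both (h : PFlat ρ ρ' act E F) : ∃ u, ρ u ≠ 1 ∧ ρ' u ≠ 1 := by
  obtain ⟨u, hu⟩ := h.n
  obtain ⟨v, hv⟩ := h.n'
  by_cases h1 : ρ' u = 1
  · by_cases h2 : ρ v = 1
    · refine ⟨u * v, ?_, ?_⟩
      · rw [map_mul, h2, mul_one]; exact hu
      · rw [map_mul, h1, one_mul]; exact hv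
    · exact ⟨v, h2, hv⟩
  · exact ⟨u, hu, h1⟩

variable [Finite K] [CharP K 2] [Module.Finite K W] [Module.Finite K W']

theorem one_lt_q (K : Type*) [Field K] [Finite K] : 1 < Nat.card K := Finite.one_lt_card

theorem finVV : Finite (W ⊗[K] W') := Module.finite_of_finite K

theorem rk_fin (h : PFlat ρ ρ' act E F) (u : U) :
    finrank K (LinearMap.range (act u - 1)) + finrank K F ≤ finrank K E := by
  have h1 := h.flat.rk u
  rw [Module.natCard_eq_pow_finrank (K := K), Module.natCard_eq_pow_finrank (K := K) (V := F),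
    Module.natCard_eq_pow_finrank (K := K) (V := E), ← pow_add] at h1
  exact (Nat.pow_le_pow_iff_right (one_lt_q K)).1 h1

theorem ge (h : PFlat ρ ρ' act E F) :
    finrank K W + finrank K W' + finrank K F ≤ finrank K E + 2 := by
  obtain ⟨u, h1, h2⟩ := h.exists_both
  have h3 := rank_ge (h.rho_sq u) (h.rho_sq' u) h1 h2
  rw [← h.act_eq] at h3
  have h4 := h.rk_fin u
  omega

theorem nontW (h : PFlat ρ ρ' act E F) : Nontrivial W := by
  have := h.d
  exact Module.nontrivial_of_finrank_pos (R := K) (by omega)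

theorem nontW' (h : PFlat ρ ρ' act E F) : Nontrivial W' := h.symm.nontW

/-- the map `u ↦ (ρ u x - x, ρ' u ξ - ξ)` -/
def gg (ρ : U →* Module.End K W) (ρ' : U →* Module.End K W') (x : W) (ξ : W') (u : U) :
    IW ρ × IW ρ' :=
  (⟨ρ u x - x, mem_IW ρ u x⟩, ⟨ρ' u ξ - ξ, mem_IW ρ' u ξ⟩)

/-- `(a, b) ↦ (x + a) ⊗ (ξ + b) - x ⊗ ξ` -/
noncomputable def ff (ρ : U →* Module.End K W) (ρ' : U →* Module.End K W') (x : W) (ξ : W')
    (p : IW ρ × IW ρ') : W ⊗[K] W' :=
  (x + p.1.1) ⊗ₜ (ξ + p.2.1) - x ⊗ₜ ξ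

theorem ff_gg (h : PFlat ρ ρ' act E F) (x : W) (ξ : W') (u : U) :
    ff ρ ρ' x ξ (gg ρ ρ' x ξ u) = act u (x ⊗ₜ ξ) - x ⊗ₜ ξ := by
  rw [h.act_tmul]
  simp only [ff, gg]
  rw [add_sub_cancel, add_sub_cancel]

/-- balance: all the inequalities are equalities -/
theorem balance (h : PFlat ρ ρ' act E F) :
    finrank K (IW ρ) + 1 = finrank K W ∧ finrank K (IW ρ') + 1 = finrank K W' ∧
      finrank K W + finrank K W' + finrank K F = finrank K E + 2 := by
  classical
  haveI := h.nontW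
  haveI := h.nontW'
  haveI : Finite (W ⊗[K] W') := finVV
  haveI : Finite W := Module.finite_of_finite K
  haveI : Finite W' := Module.finite_of_finite K
  obtain ⟨x, ξ, hw⟩ := exists_pure h.flat.ne_top
  have h1 := h.flat.card_E_le hw (gg ρ ρ' x ξ) (ff ρ ρ' x ξ) (h.ff_gg x ξ)
  rw [Nat.card_prod, Module.natCard_eq_pow_finrank (K := K) (V := E),
    Module.natCard_eq_pow_finrank (K := K) (V := F),
    Module.natCard_eq_pow_finrank (K := K) (V := IW ρ),
    Module.natCard_eq_pow_finrank (K := K) (V := IW ρ'), ← pow_add, ← pow_add] at h1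
  have h2 := (Nat.pow_le_pow_iff_right (one_lt_q K)).1 h1
  have h3 := IW_lt h.flat.isPGroup ρ
  have h4 := IW_lt h.flat.isPGroup ρ'
  have h5 := h.ge
  omega

theorem card_le (h : PFlat ρ ρ' act E F) :
    Nat.card (IW ρ × IW ρ') * Nat.card F ≤ Nat.card E := by
  rw [Nat.card_prod, Module.natCard_eq_pow_finrank (K := K) (V := E),
    Module.natCard_eq_pow_finrank (K := K) (V := F),
    Module.natCard_eq_pow_finrank (K := K) (V := IW ρ),
    Module.natCard_eq_pow_finrank (K := K) (V := IW ρ'), ← pow_add, ← pow_add]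
  refine (Nat.pow_le_pow_iff_right (one_lt_q K)).2 ?_
  have := h.balance
  omega

/-- regularity -/
theorem reg (h : PFlat ρ ρ' act E F) {x : W} {ξ : W'} (hw : x ⊗ₜ[K] ξ ∉ E) {a : W} {b : W'}
    (ha : a ∈ IW ρ) (hb : b ∈ IW ρ') : ∃ u, ρ u x = x + a ∧ ρ' u ξ = ξ + b := by
  haveI : Finite (W ⊗[K] W') := finVV
  haveI : Finite W := Module.finite_of_finite K
  haveI : Finite W' := Module.finite_of_finite K
  obtain ⟨h1, -⟩ := h.flat.theta_bij hw (gg ρ ρ' x ξ) (ff ρ ρ' x ξ) (h.ff_gg x ξ) h.card_le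
  obtain ⟨u, hu⟩ := h1 (⟨a, ha⟩, ⟨b, hb⟩)
  have e1 : ρ u x - x = a := congrArg (fun p => p.1.1) hu
  have e2 : ρ' u ξ - ξ = b := congrArg (fun p => p.2.1) hu
  exact ⟨u, by rw [← e1]; abel, by rw [← e2]; abel⟩

theorem fix_of_mem (h : PFlat ρ ρ' act E F) {x : W} {ξ : W'} (hw : x ⊗ₜ[K] ξ ∉ E) {u : U}
    (hu : act u (x ⊗ₜ ξ) - x ⊗ₜ ξ ∈ F) : act u (x ⊗ₜ ξ) = x ⊗ₜ ξ := by
  haveI : Finite (W ⊗[K] W') := finVV
  haveI : Finite W := Module.finite_of_finite K
  haveI : Finite W' := Module.finite_of_finite K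
  exact (h.flat.theta_bij hw (gg ρ ρ' x ξ) (ff ρ ρ' x ξ) (h.ff_gg x ξ) h.card_le).2 u hu

/-- `N = 1` -/
theorem nn_one (h : PFlat ρ ρ' act E F) {u : U} (hu : KFlat.Nn act E u) : u = 1 := by
  haveI : Finite (W ⊗[K] W') := finVV
  apply h.flat.faith
  have h1 : LinearMap.ker (act u - 1) = ⊤ := by
    refine pure_span h.flat.ne_top fun x ξ hw => ?_
    rw [LinearMap.mem_ker]
    exact sub_eq_zero.2 (h.fix_of_mem hw ((h.flat.nn_iff hw u).1 hu))
  rw [LinearMap.ker_eq_top] at h1
  exact sub_eq_zero.1 h1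

theorem fix_one (h : PFlat ρ ρ' act E F) {x : W} {ξ : W'} (hw : x ⊗ₜ[K] ξ ∉ E) {u : U}
    (h1 : ρ u x = x) (h2 : ρ' u ξ = ξ) : u = 1 := by
  apply h.nn_one
  rw [h.flat.nn_iff hw, h.act_tmul, h1, h2, sub_self]
  exact F.zero_mem

/-- `x ∉ [W,U]` -/
theorem not_mem_IW (h : PFlat ρ ρ' act E F) {x : W} {ξ : W'} (hw : x ⊗ₜ[K] ξ ∉ E) :
    x ∉ IW ρ := by
  intro hx
  obtain ⟨u, h1, -⟩ := h.reg hw ((IW ρ).neg_mem hx) (IW ρ').zero_mem
  rw [add_neg_cancel] at h1
  have h2 : x = 0 := by rw [← h.rho_sq u x, h1, map_zero]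
  rw [h2, zero_tmul] at hw
  exact hw E.zero_mem

theorem card_U (h : PFlat ρ ρ' act E F) [Finite U] :
    Nat.card U = Nat.card K ^ (finrank K W + finrank K W' - 2) := by
  haveI : Finite (W ⊗[K] W') := finVV
  haveI : Finite W := Module.finite_of_finite K
  haveI : Finite W' := Module.finite_of_finite K
  obtain ⟨x, ξ, hw⟩ := exists_pure h.flat.ne_top
  have hb : Function.Bijective (gg ρ ρ' x ξ) := by
    constructor
    · intro u v huv
      have e1 : ρ u x - x = ρ v x - x := congrArg (fun p => p.1.1) huv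
      have e2 : ρ' u ξ - ξ = ρ' v ξ - ξ := congrArg (fun p => p.2.1) huv
      have e3 := sub_left_injective e1
      have e4 := sub_left_injective e2
      have h5 : v * u = 1 := by
        refine h.fix_one hw ?_ ?_
        · rw [map_mul, Module.End.mul_apply, e3, h.rho_sq]
        · rw [map_mul, Module.End.mul_apply, e4, h.rho_sq']
      have h6 := h.flat.sq v
      exact mul_left_cancel (h5.trans h6.symm)
    · rintro ⟨a, b⟩
      obtain ⟨u, h1, h2⟩ := h.reg hw a.2 b.2
      refine ⟨u, Prod.ext (Subtype.ext ?_) (Subtype.ext ?_)⟩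
      · change ρ u x - x = a; rw [h1]; abel
      · change ρ' u ξ - ξ = b; rw [h2]; abel
  rw [Nat.card_congr (Equiv.ofBijective _ hb), Nat.card_prod,
    Module.natCard_eq_pow_finrank (K := K) (V := IW ρ),
    Module.natCard_eq_pow_finrank (K := K) (V := IW ρ'), ← pow_add]
  have := h.balance
  have := h.d
  have := h.d'
  congr 1
  omega

end PFlat

end Cfsg.Agent.Omega.NO1.Comp
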