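import Cfsg.Agent.Omega.EH3.Clif.Comp
import Cfsg.Agent.Lib.BenderMaximal
import Cfsg.Agent.S1265

/-!
# N1, THEOREM COMP: the components of `Y` (project OMEGA)

Text: helper390 (bb OMEGA #17539, (1)), part (III) of the split #18039. Typed by helper570.

`MinP T Mx` : `T` a Sylow 2-subgroup of `Y`, `Mx` the unique maximal subgroup over `T`, `O₂(Y) = 1`.

* `MinP.fr` : (FR) a normal subgroup `X` of even order has `X ⊔ T = ⊤`.
* `MinP.exists_comp` : a 2-subgroup `U ≠ 1` centralising `O(Y)` moves an element of a component of even order.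
* `Sit T Mx K` : `MinP` and `K` is a component of even order.
* `Sit.layer_sup` : `layer Y ⊔ T = ⊤`;
* `Sit.trans` : every component is `K^t`, `t ∈ T`;
* `Sit.cent_odd` : `C_Y(E(Y))` has odd order;
* `Sit.cent_inf` : a normal subgroup of even order contains `E(Y)`.
-/

set_option autoImplicit false
set_option linter.unusedSectionVars false

namespace Cfsg.Agent.Omega.NO1.Comp.Grp

open Subgroup Cfsg Cfsg.Agent.Lib.ComponentSolvable
open Cfsg.Agent.Omega.EH3.Clif.Comp
open Cfsg.Agent.S1270 (component_comm_of_normalizes component_comm_of_ne component_conj component_le_or_comm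
  subnormal_le_pPrimeCore)
open scoped commutatorElement

variable {Y : Type*} [Group Y] {T : Sylow 2 Y} {Mx : Subgroup Y}

/-- `T` a Sylow 2-subgroup of `Y`, `Mx` the unique maximal subgroup over `T`, `O₂(Y) = 1`. -/
structure MinP (T : Sylow 2 Y) (Mx : Subgroup Y) : Prop where
  core : ∀ N : Subgroup Y, N.Normal → IsPGroup 2 N → N = ⊥
  TM : (T : Subgroup Y) ≤ Mx
  Mne : Mx ≠ ⊤
  max : ∀ K : Subgroup Y, (T : Subgroup Y) ≤ K → K ≠ ⊤ → K ≤ Mx

/-- Frattini -/
theorem frattini_inf [Finite Y] (P : Sylow 2 Y) (N : Subgroup Y) [N.Normal] :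
    normalizer (((P : Subgroup Y) ⊓ N : Subgroup Y) : Set Y) ⊔ N = ⊤ := by
  have : Fact (Nat.Prime 2) := ⟨Nat.prime_two⟩
  have hd : ¬ 2 ∣ (P : Subgroup Y).relIndex N := by
    have h1 := relIndex_mul_relIndex ((P : Subgroup Y) ⊓ N) N ((P : Subgroup Y) ⊔ N) inf_le_right le_sup_right
    have h2 := relIndex_mul_relIndex ((P : Subgroup Y) ⊓ N) P ((P : Subgroup Y) ⊔ N) inf_le_left le_sup_left
    rw [inf_relIndex_left, ← relIndex_sup_right (H := (P : Subgroup Y)) (K := N), ← h1,
      inf_relIndex_right, mul_comm] at h2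
    have h3 : (N.relIndex ((P : Subgroup Y) ⊔ N)) ≠ 0 := index_ne_zero_of_finite
    have h4 := Nat.eq_of_mul_eq_mul_right (Nat.pos_of_ne_zero h3) h2
    rw [← h4]
    intro h5
    exact P.not_dvd_index (h5.trans (relIndex_dvd_index_of_le le_sup_left))
  let Q : Sylow 2 N := (P.2.comap_subtype (K := N)).toSylow hd
  have hQ : (Q : Subgroup N) = (P : Subgroup Y).subgroupOf N := rfl
  have h1 := Q.normalizer_sup_eq_top
  rw [hQ, subgroupOf_map_subtype] at h1
  exact h1

theorem conj_isPGroup {P : Sylow 2 Y} {N : Subgroup Y} (h : (P : Subgroup Y) ⊓ N = ⊥) (hN : N.Normal) [Finite Y] :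
    ¬ 2 ∣ Nat.card N := by
  have : Fact (Nat.Prime 2) := ⟨Nat.prime_two⟩
  intro h2
  obtain ⟨x, hx⟩ := exists_prime_orderOf_dvd_card' 2 h2
  have h3 : IsPGroup 2 (zpowers (x : Y)) := by
    have h4 : IsPGroup 2 (zpowers x) := IsPGroup.of_card (n := 1) (by rw [Nat.card_zpowers, hx, pow_one])
    have h5 := h4.map N.subtype
    rwa [MonoidHom.map_zpowers] at h5
  obtain ⟨Q, hQ⟩ := h3.exists_le_sylow
  obtain ⟨g, hg⟩ := MulAction.exists_smul_eq Y Q P
  have h6 : (x : Y) ∈ Q := hQ (mem_zpowers _)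
  have h7 : g * x * g⁻¹ ∈ P := by
    rw [← hg]
    exact Subgroup.smul_mem_pointwise_smul (x : Y) (MulAut.conj g) (Q : Subgroup Y) h6
  have h8 : g * x * g⁻¹ ∈ (P : Subgroup Y) ⊓ N := ⟨h7, hN.conj_mem _ x.2 g⟩
  rw [h, mem_bot, mul_inv_eq_one, mul_eq_left] at h8
  have h9 : x = 1 := Subtype.ext h8
  rw [h9, orderOf_one] at hx
  exact absurd hx (by norm_num)

/-- (FR) -/
theorem MinP.fr [Finite Y] (h : MinP T Mx) {X : Subgroup Y} (hX : X.Normal) (h2 : 2 ∣ Nat.card X) :
    X ⊔ (T : Subgroup Y) = ⊤ := by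
  by_contra hcon
  have h1 : X ⊔ (T : Subgroup Y) ≤ Mx := h.max _ le_sup_right hcon
  have h3 : (T : Subgroup Y) ≤ normalizer (((T : Subgroup Y) ⊓ X : Subgroup Y) : Set Y) := by
    intro t ht
    rw [mem_normalizer_iff]
    intro y
    constructor
    · rintro ⟨h4, h5⟩
      exact ⟨(T : Subgroup Y).mul_mem ((T : Subgroup Y).mul_mem ht h4) ((T : Subgroup Y).inv_mem ht),
        hX.conj_mem _ h5 t⟩
    · rintro ⟨h4, h5⟩
      have e : y = t⁻¹ * (t * y * t⁻¹) * t⁻¹⁻¹ := by group
      rw [e]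
      exact ⟨(T : Subgroup Y).mul_mem ((T : Subgroup Y).mul_mem ((T : Subgroup Y).inv_mem ht) h4)
        ((T : Subgroup Y).inv_mem ((T : Subgroup Y).inv_mem ht)), hX.conj_mem _ h5 t⁻¹⟩
  have h4 : normalizer (((T : Subgroup Y) ⊓ X : Subgroup Y) : Set Y) ≠ ⊤ := by
    intro h5
    have h6 : ((T : Subgroup Y) ⊓ X).Normal := normalizer_eq_top_iff.mp h5
    have h7 := h.core _ h6 (T.2.to_le inf_le_left)
    exact conj_isPGroup h7 hX h2
  have h5 := h.max _ h3 h4
  apply h.Mne
  rw [eq_top_iff, ← frattini_inf T X]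
  exact sup_le h5 (le_sup_left.trans h1)

/-- the odd part -/
theorem MinP.fitting_le [Finite Y] (h : MinP T Mx) : fittingSubgroup Y ≤ pPrimeCore 2 Y := by
  have : Fact (Nat.Prime 2) := ⟨Nat.prime_two⟩
  have h1 : pCore 2 Y = ⊥ := by
    exact h.core _ (Lib.Cores.pCore_normal 2) (Lib.Cores.pCore_isPGroup 2)
  apply le_sSup
  refine ⟨Lib.Cores.fittingSubgroup_normal, ?_⟩
  rw [Nat.coprime_comm, Nat.Prime.coprime_iff_not_dvd Nat.prime_two]
  intro h2
  obtain ⟨x, hx⟩ := exists_prime_orderOf_dvd_card' 2 h2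
  have h3 : IsPGroup 2 (zpowers (x : Y)) := by
    have h4 : IsPGroup 2 (zpowers x) := IsPGroup.of_card (n := 1) (by rw [Nat.card_zpowers, hx, pow_one])
    have h5 := h4.map (fittingSubgroup Y).subtype
    rwa [MonoidHom.map_zpowers] at h5
  have h4 := Lib.BenderMaximal.le_pCore_of_le_fittingSubgroup (p := 2) (K := zpowers (x : Y))
    h3 (zpowers_le.mpr x.2)
  rw [h1, le_bot_iff, zpowers_eq_bot] at h4
  have h9 : x = 1 := Subtype.ext h4
  rw [h9, orderOf_one] at hx
  exact absurd hx (by norm_num)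

/-- a 2-subgroup `≠ 1` centralising `O(Y)` moves an element of a component of even order -/
theorem MinP.exists_comp [Finite Y] (h : MinP T Mx) {U : Subgroup Y} (hU2 : IsPGroup 2 U) (hU1 : U ≠ ⊥)
    (hO : U ≤ centralizer (pPrimeCore 2 Y : Set Y)) :
    ∃ K : Subgroup Y, IsComponent K ∧ 2 ∣ Nat.card K ∧ ¬ U ≤ centralizer (K : Set Y) := by
  have : Fact (Nat.Prime 2) := ⟨Nat.prime_two⟩
  by_contra hcon
  push Not at hcon
  have h1 : U ≤ centralizer (generalizedFittingSubgroup Y : Set Y) := by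
    rw [le_centralizer_iff]
    refine sup_le (sSup_le ?_) ?_
    · intro K hK
      rw [le_centralizer_iff]
      by_cases h2 : 2 ∣ Nat.card K
      · exact hcon K hK h2
      · have h3 : K ≤ pPrimeCore 2 Y := by
          apply subnormal_le_pPrimeCore hK.1
          rw [Nat.coprime_comm, Nat.Prime.coprime_iff_not_dvd Nat.prime_two]
          exact h2
        exact hO.trans (centralizer_le h3)
    · rw [le_centralizer_iff]
      exact hO.trans (centralizer_le h.fitting_le)
  have h2 : centralizer (generalizedFittingSubgroup Y : Set Y) ≤ generalizedFittingSubgroup Y :=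
    Cfsg.Agent.Lib.GenFitting.centralizer_genFitting_le
  have hn : (centralizer (generalizedFittingSubgroup Y : Set Y)).Normal := by
    have : (generalizedFittingSubgroup Y).Normal := Lib.GenFitting.genFitting_normal
    infer_instance
  have h3 : centralizer (generalizedFittingSubgroup Y : Set Y) ≤ fittingSubgroup Y := by
    apply le_sSup
    refine ⟨hn, ?_⟩
    have hc : IsMulCommutative (centralizer (generalizedFittingSubgroup Y : Set Y)) := by
      constructor
      constructor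
      intro a b
      apply Subtype.ext
      exact (mem_centralizer_iff.mp b.2 a (h2 a.2))
    let _ : CommGroup (centralizer (generalizedFittingSubgroup Y : Set Y)) :=
      { (inferInstance : Group (centralizer (generalizedFittingSubgroup Y : Set Y))) with
        mul_comm := fun a b => hc.is_comm.comm a b }
    exact CommGroup.isNilpotent
  have h4 := Lib.BenderMaximal.le_pCore_of_le_fittingSubgroup (p := 2) (K := U) hU2 (h1.trans h3)
  have h5 : pCore 2 Y = ⊥ := h.core _ (Lib.Cores.pCore_normal 2) (Lib.Cores.pCore_isPGroup 2)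
  rw [h5, le_bot_iff] at h4
  exact hU1 h4

/-! ### one class of components -/

/-- a perfect subgroup lies in every normal subgroup `X` with `X ⊔ T = ⊤` -/
theorem le_of_perfect [Finite Y] {X L : Subgroup Y} (hX : X.Normal) (hXT : X ⊔ (T : Subgroup Y) = ⊤)
    (hL : ⁅L, L⁆ = L) : L ≤ X := by
  have : Fact (Nat.Prime 2) := ⟨Nat.prime_two⟩
  have h1 : (T : Subgroup Y).map (QuotientGroup.mk' X) = ⊤ := by
    have h2 : (X ⊔ (T : Subgroup Y)).map (QuotientGroup.mk' X) = ⊤ := by
      rw [hXT, ← MonoidHom.range_eq_map, MonoidHom.range_eq_top]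
      exact QuotientGroup.mk'_surjective X
    rw [Subgroup.map_sup, (map_eq_bot_iff X).mpr (by rw [QuotientGroup.ker_mk']), bot_sup_eq] at h2
    exact h2
  have h2 : IsPGroup 2 (Y ⧸ X) := by
    have h3 := T.2.map (QuotientGroup.mk' X)
    rw [h1] at h3
    exact h3.of_equiv Subgroup.topEquiv
  have hn : Group.IsNilpotent (Y ⧸ X) := h2.isNilpotent
  have hs : Group.IsSolvable (Y ⧸ X) := inferInstance
  obtain ⟨n, hn⟩ := hs.solvable
  have h3 : ∀ m, L.map (QuotientGroup.mk' X) ≤ derivedSeries (Y ⧸ X) m := by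
    intro m
    induction m with
    | zero => exact le_top
    | succ m ih =>
      rw [derivedSeries_succ, ← hL, map_commutator]
      exact commutator_mono ih ih
  have h4 := h3 n
  rw [hn, le_bot_iff, Subgroup.map_eq_bot_iff, QuotientGroup.ker_mk'] at h4
  exact h4

/-- the conjugates of `K` -/
def cj (K : Subgroup Y) : Set (Subgroup Y) := {L | ∃ g : Y, K.map (MulAut.conj g).toMonoidHom = L}

theorem cj_self (K : Subgroup Y) : K ∈ cj K := ⟨1, conj_one K⟩

theorem cj_comp {K : Subgroup Y} (hK : IsComponent K) : ∀ L ∈ cj K, IsComponent L := by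
  rintro L ⟨g, rfl⟩
  exact component_conj hK g

theorem cj_normal (K : Subgroup Y) : (sSup (cj K)).Normal := by
  constructor
  intro x hx g
  have h1 : (sSup (cj K)).map (MulAut.conj g).toMonoidHom ≤ sSup (cj K) := by
    apply conj_sSup_le
    rintro L ⟨a, rfl⟩
    exact ⟨g * a, (conj_conj _ _ _).symm⟩
  exact h1 ⟨x, hx, rfl⟩

/-- `MinP` with a component `K` of even order -/
structure Sit (T : Sylow 2 Y) (Mx K : Subgroup Y) : Prop extends MinP T Mx where
  comp : IsComponent K
  even : 2 ∣ Nat.card K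

/-- components normalise each other -/
theorem layer_le_normalizer {K : Subgroup Y} (hK : IsComponent K) : layer Y ≤ normalizer (K : Set Y) := by
  apply sSup_le
  intro L hL
  by_cases h : L = K
  · rw [h]
    exact le_normalizer
  · exact (commutator_eq_bot_iff_le_centralizer.mp (component_comm_of_ne hL hK h)).trans
      (centralizer_le_normalizer _)

theorem layer_normal : (layer Y).Normal := by
  constructor
  intro x hx g
  have h1 : (sSup {K : Subgroup Y | IsComponent K}).map (MulAut.conj g).toMonoidHom ≤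
      sSup {K : Subgroup Y | IsComponent K} :=
    conj_sSup_le fun K hK => component_conj hK g
  exact h1 ⟨x, hx, rfl⟩

theorem perf_layer : ⁅layer Y, layer Y⁆ = layer Y := perf_sSup fun _ hK => hK

namespace Sit

variable {K : Subgroup Y} [Finite Y] (h : Sit T Mx K)
include h

theorem cj_sup : sSup (cj K) ⊔ (T : Subgroup Y) = ⊤ :=
  h.fr (cj_normal K) (h.even.trans (card_dvd_of_le (le_sSup (cj_self K))))

/-- all components are conjugate -/
theorem mem_cj {L : Subgroup Y} (hL : IsComponent L) : L ∈ cj K := by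
  by_contra hcon
  have h1 : L ≤ sSup (cj K) := le_of_perfect (cj_normal K) h.cj_sup (commutator_self hL)
  have h2 := comm_sSup (s := cj K) (t := {L}) (cj_comp h.comp) (by
    intro M hM
    rw [Set.mem_singleton_iff.mp hM]
    exact hL) (by
    intro M hM hM'
    rw [Set.mem_singleton_iff.mp hM'] at hM
    exact hcon hM)
  rw [sSup_singleton] at h2
  apply ne_bot hL
  rw [← commutator_self hL, commutator_eq_bot_iff_le_centralizer]
  intro x hx
  rw [mem_centralizer_iff]
  intro y hy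
  exact h2 y (h1 hy) x hx

theorem layer_eq : layer Y = sSup (cj K) := by
  apply le_antisymm
  · exact sSup_le fun L hL => le_sSup (h.mem_cj hL)
  · exact sSup_le fun L hL => le_sSup (cj_comp h.comp L hL)

/-- `Y = E(Y)T` -/
theorem layer_sup : layer Y ⊔ (T : Subgroup Y) = ⊤ := by
  rw [h.layer_eq]
  exact h.cj_sup

theorem exists_mul (y : Y) : ∃ t ∈ (T : Subgroup Y), ∃ x ∈ layer Y, t * x = y := by
  have : (layer Y).Normal := layer_normal
  have h1 : y ∈ (T : Subgroup Y) ⊔ layer Y := by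
    rw [sup_comm, h.layer_sup]
    exact mem_top y
  exact mem_sup_of_normal_right.mp h1

/-- `T` is transitive on the components -/
theorem trans {L : Subgroup Y} (hL : IsComponent L) :
    ∃ t ∈ (T : Subgroup Y), K.map (MulAut.conj t).toMonoidHom = L := by
  obtain ⟨g, rfl⟩ := h.mem_cj hL
  obtain ⟨t, ht, x, hx, rfl⟩ := h.exists_mul g
  refine ⟨t, ht, ?_⟩
  rw [← conj_conj, conj_eq_of_mem (layer_le_normalizer h.comp hx)]

theorem even_of {L : Subgroup Y} (hL : IsComponent L) : 2 ∣ Nat.card L := by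
  obtain ⟨g, rfl⟩ := h.mem_cj hL
  rw [card_map_of_injective (MulAut.conj g).injective]
  exact h.even

theorem sit_of {L : Subgroup Y} (hL : IsComponent L) : Sit T Mx L := ⟨h.toMinP, hL, h.even_of hL⟩

/-- a normal subgroup of even order contains `E(Y)` -/
theorem layer_le {X : Subgroup Y} (hX : X.Normal) (h2 : 2 ∣ Nat.card X) : layer Y ≤ X :=
  le_of_perfect hX (h.fr hX h2) perf_layer

theorem comp_le {L : Subgroup Y} (hL : IsComponent L) : L ≤ layer Y := le_sSup hL

/-- `C_Y(E(Y))` has odd order -/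
theorem cent_odd : ¬ 2 ∣ Nat.card (centralizer (layer Y : Set Y)) := by
  intro h2
  have : (layer Y).Normal := layer_normal
  have h1 : layer Y ≤ centralizer (layer Y : Set Y) := h.layer_le inferInstance h2
  apply ne_bot h.comp
  rw [← commutator_self h.comp, commutator_eq_bot_iff_le_centralizer]
  exact (h.comp_le h.comp).trans (h1.trans (centralizer_le (h.comp_le h.comp)))

/-- a 2-element centralising `E(Y)` is trivial -/
theorem eq_one_of_cent {y : Y} (hy : y * y = 1) (hc : ∀ x ∈ layer Y, y * x = x * y) : y = 1 := by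
  have : Fact (Nat.Prime 2) := ⟨Nat.prime_two⟩
  by_contra hne
  apply h.cent_odd
  have h1 : orderOf y = 2 := orderOf_eq_prime (by rw [pow_two, hy]) hne
  have h2 : zpowers y ≤ centralizer (layer Y : Set Y) := by
    rw [zpowers_le, mem_centralizer_iff]
    intro x hx
    exact (hc x hx).symm
  have h3 := card_dvd_of_le h2
  rwa [Nat.card_zpowers, h1] at h3

end Sit

/-! ### moving a component -/

/-- `U` moves a component: `N₁`, `N₂`, `N₃` are products of components, `A` of index 2 in `U` normalises them,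
the elements of `U - A` interchange `N₁` and `N₂` -/
structure Mv (U K N₁ N₂ N₃ A : Subgroup Y) : Prop where
  le : K ≤ N₁
  sup : N₁ ⊔ N₂ ⊔ N₃ = layer Y
  p₁ : ⁅N₁, N₁⁆ = N₁
  p₂ : ⁅N₂, N₂⁆ = N₂
  p₃ : ⁅N₃, N₃⁆ = N₃
  c₁₂ : ∀ x ∈ N₁, ∀ y ∈ N₂, x * y = y * x
  c₁₃ : ∀ x ∈ N₁, ∀ y ∈ N₃, x * y = y * x
  c₂₃ : ∀ x ∈ N₂, ∀ y ∈ N₃, x * y = y * x
  AU : A ≤ U
  idx : A.relIndex U = 2
  A₁ : A ≤ normalizer (N₁ : Set Y)
  A₂ : A ≤ normalizer (N₂ : Set Y)
  U₃ : U ≤ normalizer (N₃ : Set Y)
  sw : ∀ x ∈ U, x ∉ A → N₁.map (MulAut.conj x).toMonoidHom = N₂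
  sw' : ∀ x ∈ U, x ∉ A → N₂.map (MulAut.conj x).toMonoidHom = N₁

theorem exists_mv [Finite Y] {U K : Subgroup Y} (hU : ∀ u ∈ U, u * u = 1) (hK : IsComponent K)
    (hmv : ¬ U ≤ normalizer (K : Set Y)) : ∃ N₁ N₂ N₃ A, Mv U K N₁ N₂ N₃ A := by
  obtain ⟨A, hAU, hBA, hAne, hA2⟩ := exists_index_two hU (B := U ⊓ normalizer (K : Set Y))
    inf_le_left (fun h => hmv (fun u hu => (h.ge hu).2))
  obtain ⟨x, hx, hxA⟩ : ∃ x ∈ U, x ∉ A := by
    by_contra hcon
    push Not at hcon
    exact hAne (le_antisymm hAU hcon)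
  let s : Set (Subgroup Y) := {L | ∃ a ∈ A, K.map (MulAut.conj a).toMonoidHom = L}
  let t : Set (Subgroup Y) := {L | ∃ a ∈ A, K.map (MulAut.conj (a * x)).toMonoidHom = L}
  let r : Set (Subgroup Y) := {L | IsComponent L ∧ L ∉ s ∧ L ∉ t}
  have hs : ∀ L ∈ s, IsComponent L := by
    rintro L ⟨a, -, rfl⟩
    exact component_conj hK _
  have ht : ∀ L ∈ t, IsComponent L := by
    rintro L ⟨a, -, rfl⟩
    exact component_conj hK _
  have hr : ∀ L ∈ r, IsComponent L := fun L hL => hL.1
  have hd : ∀ L ∈ s, L ∉ t := by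
    rintro L ⟨a, ha, rfl⟩ ⟨b, hb, hab⟩
    have h1 : K.map (MulAut.conj (a⁻¹ * (b * x))).toMonoidHom = K := by
      rw [← conj_conj, hab, conj_conj, inv_mul_cancel, conj_one]
    have h2 : a⁻¹ * (b * x) ∈ A :=
      hBA ⟨U.mul_mem (U.inv_mem (hAU ha)) (U.mul_mem (hAU hb) hx), mem_normalizer_of_conj h1⟩
    apply hxA
    have h3 := A.mul_mem (A.inv_mem hb) (A.mul_mem ha h2)
    simpa [mul_assoc] using h3
  have hAs : ∀ a ∈ A, ∀ L ∈ s, L.map (MulAut.conj a).toMonoidHom ∈ s := by
    rintro a ha L ⟨b, hb, rfl⟩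
    exact ⟨a * b, A.mul_mem ha hb, (conj_conj _ _ _).symm⟩
  have hAt : ∀ a ∈ A, ∀ L ∈ t, L.map (MulAut.conj a).toMonoidHom ∈ t := by
    rintro a ha L ⟨b, hb, rfl⟩
    exact ⟨a * b, A.mul_mem ha hb, by rw [conj_conj, mul_assoc]⟩
  have hst : ∀ y ∈ U, y ∉ A → ∀ L ∈ s, L.map (MulAut.conj y).toMonoidHom ∈ t := by
    rintro y hy hyA L ⟨a, ha, rfl⟩
    have hyx : y * x ∈ A := hA2 x hx hxA y hy hyA
    refine ⟨a * (y * x), A.mul_mem ha hyx, ?_⟩
    rw [conj_conj]
    congr 3
    have h1 := comm_of_sq hU hy (hAU ha)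
    rw [mul_assoc, mul_assoc, hU x hx, mul_one, h1]
  have hts : ∀ y ∈ U, y ∉ A → ∀ L ∈ t, L.map (MulAut.conj y).toMonoidHom ∈ s := by
    rintro y hy hyA L ⟨a, ha, rfl⟩
    have hyx : y * x ∈ A := hA2 x hx hxA y hy hyA
    refine ⟨a * (y * x), A.mul_mem ha hyx, ?_⟩
    rw [conj_conj]
    congr 3
    have h1 := comm_of_sq hU hy (hAU ha)
    rw [← mul_assoc, ← mul_assoc, h1]
  have hUi : ∀ y ∈ U, y⁻¹ = y := fun y hy => inv_eq_of_mul_eq_one_left (hU y hy)
  have hUr : ∀ y ∈ U, ∀ L ∈ r, L.map (MulAut.conj y).toMonoidHom ∈ r := by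
    rintro y hy L ⟨hL, hLs, hLt⟩
    have e : (L.map (MulAut.conj y).toMonoidHom).map (MulAut.conj y).toMonoidHom = L := by
      rw [conj_conj, hU y hy, conj_one]
    refine ⟨component_conj hL y, fun hcon => ?_, fun hcon => ?_⟩
    · by_cases hyA : y ∈ A
      · have h1 := hAs y hyA _ hcon
        rw [e] at h1
        exact hLs h1
      · have h1 := hst y hy hyA _ hcon
        rw [e] at h1
        exact hLt h1
    · by_cases hyA : y ∈ A
      · have h1 := hAt y hyA _ hcon
        rw [e] at h1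
        exact hLt h1
      · have h1 := hts y hy hyA _ hcon
        rw [e] at h1
        exact hLs h1
  refine ⟨sSup s, sSup t, sSup r, A, ?_⟩
  exact
    { le := le_sSup ⟨1, A.one_mem, conj_one K⟩
      sup := by
        apply le_antisymm
        · exact sup_le (sup_le (sSup_le fun L hL => le_sSup (hs L hL)) (sSup_le fun L hL => le_sSup (ht L hL)))
            (sSup_le fun L hL => le_sSup (hr L hL))
        · refine sSup_le fun L hL => ?_
          by_cases h1 : L ∈ s
          · exact (le_sSup h1).trans (le_sup_left.trans le_sup_left)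
          by_cases h2 : L ∈ t
          · exact (le_sSup h2).trans (le_sup_right.trans le_sup_left)
          have h3 : L ∈ r := ⟨hL, h1, h2⟩
          exact (le_sSup h3).trans le_sup_right
      p₁ := perf_sSup hs
      p₂ := perf_sSup ht
      p₃ := perf_sSup hr
      c₁₂ := comm_sSup hs ht hd
      c₁₃ := comm_sSup hs hr fun L hL h => h.2.1 hL
      c₂₃ := comm_sSup ht hr fun L hL h => h.2.2 hL
      AU := hAU
      idx := relIndex_two hAU hAne hA2
      A₁ := fun a ha => mem_normalizer_of_conj (conj_sSup_eq (hAs a ha) (hAs a⁻¹ (A.inv_mem ha)))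
      A₂ := fun a ha => mem_normalizer_of_conj (conj_sSup_eq (hAt a ha) (hAt a⁻¹ (A.inv_mem ha)))
      U₃ := fun a ha => mem_normalizer_of_conj (conj_sSup_eq (hUr a ha) (by rw [hUi a ha]; exact hUr a ha))
      sw := fun y hy hyA => conj_sSup_eq (hst y hy hyA) (by rw [hUi y hy]; exact hts y hy hyA)
      sw' := fun y hy hyA => conj_sSup_eq (hts y hy hyA) (by rw [hUi y hy]; exact hst y hy hyA) }

/-- the product of the components different from `K` -/
def ot (K : Subgroup Y) : Subgroup Y := sSup {L : Subgroup Y | IsComponent L ∧ L ≠ K}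

theorem sup_ot {K : Subgroup Y} (hK : IsComponent K) : K ⊔ ot K = layer Y := by
  apply le_antisymm
  · exact sup_le (le_sSup hK) (sSup_le fun L hL => le_sSup hL.1)
  · refine sSup_le fun L hL => ?_
    by_cases h : L = K
    · rw [h]; exact le_sup_left
    · have h3 : L ∈ {L : Subgroup Y | IsComponent L ∧ L ≠ K} := ⟨hL, h⟩
      exact (le_sSup h3).trans le_sup_right

theorem comm_ot {K : Subgroup Y} (hK : IsComponent K) : ∀ x ∈ K, ∀ y ∈ ot K, x * y = y * x := by
  have h1 := comm_sSup (s := {K}) (t := {L : Subgroup Y | IsComponent L ∧ L ≠ K}) (by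
    intro M hM
    rw [Set.mem_singleton_iff.mp hM]
    exact hK) (fun L hL => hL.1) (by
    intro M hM hM'
    exact hM'.2 (Set.mem_singleton_iff.mp hM))
  rw [sSup_singleton] at h1
  exact h1

theorem perf_ot {K : Subgroup Y} : ⁅ot K, ot K⁆ = ot K := perf_sSup fun _ hL => hL.1

/-- `C_Y(L₁)`-part: `(ot K)^g = ot (K^g)` -/
theorem conj_ot {K : Subgroup Y} (g : Y) :
    (ot K).map (MulAut.conj g).toMonoidHom = ot (K.map (MulAut.conj g).toMonoidHom) := by
  apply conj_sSup_eq
  · rintro L ⟨hL, hne⟩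
    refine ⟨component_conj hL g, fun hcon => hne ?_⟩
    have h1 := congrArg (fun X : Subgroup Y => X.map (MulAut.conj g⁻¹).toMonoidHom) hcon
    simp only [conj_conj, inv_mul_cancel, conj_one] at h1
    exact h1
  · rintro L ⟨hL, hne⟩
    refine ⟨component_conj hL g⁻¹, fun hcon => hne ?_⟩
    have h1 := congrArg (fun X : Subgroup Y => X.map (MulAut.conj g).toMonoidHom) hcon
    simp only [conj_conj, mul_inv_cancel, conj_one] at h1
    exact h1

theorem normalizer_le_ot {K : Subgroup Y} : normalizer (K : Set Y) ≤ normalizer (ot K : Set Y) := by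
  intro g hg
  apply mem_normalizer_of_conj
  rw [conj_ot, conj_eq_of_mem hg]

end Cfsg.Agent.Omega.NO1.Comp.Grp
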