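import Cfsg.Agent.Omega.NO1.Comp.Field
import Cfsg.Agent.Schreier.Tools

/-!
# THEOREM COMP (#17539): dimensions of the tensor factors (helper789)

`two_le_finrank` : a perfect group which acts non-trivially and linearly on `W` has `dim W ≥ 2`, and `dim W ≥ 3` for
`|K| = 2`.
-/

set_option autoImplicit false

namespace Cfsg.Agent.Omega.NO1.Comp

open Module TensorProduct

section Perf

variable {N H : Type*} [Group N] [Group H]

/-- a perfect group has only the trivial homomorphism to a solvable group -/
theorem eq_one_of_perf (hN : ⁅(⊤ : Subgroup N), (⊤ : Subgroup N)⁆ = ⊤) (hH : Group.IsSolvable H) (φ : N →* H) (n : N) :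
    φ n = 1 := by
  have h1 : Group.IsSolvable φ.range := inferInstance
  have h2 : ⁅(⊤ : Subgroup φ.range), (⊤ : Subgroup φ.range)⁆ = ⊤ := by
    have h3 := congrArg (Subgroup.map φ.rangeRestrict) hN
    rw [Subgroup.map_commutator] at h3
    have h4 : (⊤ : Subgroup N).map φ.rangeRestrict = ⊤ := by
      rw [← MonoidHom.range_eq_map, MonoidHom.range_eq_top]
      exact φ.rangeRestrict_surjective
    rwa [h4] at h3
  by_contra hne
  have h5 : Nontrivial φ.range := ⟨⟨φ n, n, rfl⟩, 1, fun h => hne (congrArg Subtype.val h)⟩
  have h6 := Group.IsSolvable.commutator_lt_top_of_nontrivial φ.range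
  exact h6.ne h2

end Perf

section Dim

variable {K W : Type*} [Field K] [AddCommGroup W] [Module K W] {N : Type*} [Group N]

/-- the permutation representation -/
def permHom (f : N →* Module.End K W) : N →* Equiv.Perm W where
  toFun n :=
    { toFun := f n
      invFun := f n⁻¹
      left_inv := fun w => by rw [← Module.End.mul_apply, ← map_mul, inv_mul_cancel, map_one]; rfl
      right_inv := fun w => by rw [← Module.End.mul_apply, ← map_mul, mul_inv_cancel, map_one]; rfl }
  map_one' := by
    ext w
    show f 1 w = w
    rw [map_one]; rfl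
  map_mul' a b := by
    ext w
    show f (a * b) w = f a (f b w)
    rw [map_mul]; rfl

theorem two_le_finrank [Finite K] [Module.Finite K W] (hN : ⁅(⊤ : Subgroup N), (⊤ : Subgroup N)⁆ = ⊤)
    (f : N →* Module.End K W) (hf : ∃ n, f n ≠ 1) : 2 ≤ finrank K W ∧ (Nat.card K = 2 → 3 ≤ finrank K W) := by
  obtain ⟨n, hn⟩ := hf
  have key : (∀ m, permHom f m = 1) → False := by
    intro h
    apply hn
    ext w
    have h1 := congrArg (fun e : Equiv.Perm W => e w) (h n)
    exact h1
  constructor
  · by_contra hlt
    have h1 : finrank K W ≤ 1 := by omega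
    obtain ⟨v, hv⟩ := (finrank_le_one_iff (K := K) (V := W)).1 h1
    apply key
    intro m
    have hcomm : ∀ a b : N, permHom f a * permHom f b = permHom f b * permHom f a := by
      intro a b
      ext w
      obtain ⟨c, rfl⟩ := hv w
      obtain ⟨α, hα⟩ := hv (f a v)
      obtain ⟨β, hβ⟩ := hv (f b v)
      show f a (f b (c • v)) = f b (f a (c • v))
      rw [map_smul, map_smul, map_smul, map_smul, ← hα, ← hβ, map_smul, map_smul, ← hα, ← hβ, smul_smul,
        smul_smul, smul_smul, smul_smul]
      congr 1
      ring
    let _ : CommGroup (permHom f).range :=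
      { (inferInstance : Group (permHom f).range) with
        mul_comm := by
          rintro ⟨_, a, rfl⟩ ⟨_, b, rfl⟩
          exact Subtype.ext (hcomm a b) }
    have h2 : Group.IsSolvable (permHom f).range := inferInstance
    have h3 := eq_one_of_perf hN h2 (permHom f).rangeRestrict m
    exact congrArg Subtype.val h3
  · intro h2
    by_contra hlt
    have h1 : Nat.card W ≤ 4 := by
      rw [Module.natCard_eq_pow_finrank (K := K) (V := W), h2]
      calc 2 ^ finrank K W ≤ 2 ^ 2 := Nat.pow_le_pow_right (by norm_num) (by omega)
        _ = 4 := by norm_num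
    have h3 : Finite W := Module.finite_of_finite K
    exact key (eq_one_of_perf hN (Cfsg.Agent.Schreier.Tools.isSolvable_perm_of_card_le_four W h1) (permHom f))

end Dim

end Cfsg.Agent.Omega.NO1.Comp
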