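import Cfsg.Agent.Omega.NO1.Comp.Bal

/-!
# THEOREM COMP (bb OMEGA #17539), step (5), second half
-/

set_option linter.unusedSectionVars false
set_option linter.style.haveILetI false

namespace Cfsg.Agent.Omega.NO1.Comp

open Module TensorProduct

variable {K : Type*} [Field K] {W W' : Type*} [AddCommGroup W] [Module K W] [AddCommGroup W']
  [Module K W'] {U : Type*} [Group U]
variable {ρ : U →* Module.End K W} {ρ' : U →* Module.End K W'}
    {act : U →* Module.End K (W ⊗[K] W')} {E F : Submodule K (W ⊗[K] W')}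

namespace PFlat

variable [Finite K] [CharP K 2] [Module.Finite K W] [Module.Finite K W']

theorem IW_inv (ρ : U →* Module.End K W) (u : U) {x : W} (hx : x ∈ IW ρ) : ρ u x ∈ IW ρ := by
  have := (IW ρ).add_mem (mem_IW ρ u x) hx
  rwa [sub_add_cancel] at this

theorem top_of (h : PFlat ρ ρ' act E F) {x : W} {ξ : W'} (hw : x ⊗ₜ[K] ξ ∉ E) {S : Submodule K W}
    (h1 : IW ρ ≤ S) (h2 : x ∈ S) : S = ⊤ := by
  have h3 : IW ρ < S := lt_of_le_of_ne h1 (fun he => h.not_mem_IW hw (he ▸ h2))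
  have h4 := Submodule.finrank_lt_finrank_of_lt h3
  have h5 := h.balance.1
  refine Submodule.eq_top_of_finrank_eq ?_
  have := Submodule.finrank_le S
  omega

/-- `u` nontrivial on both factors is a transvection on `W` if `d' ≥ 3` -/
theorem rank_one (h : PFlat ρ ρ' act E F) (h3 : 3 ≤ finrank K W') {u : U} (h1 : ρ' u ≠ 1) :
    finrank K (LinearMap.range (ρ u - 1)) ≤ 1 := by
  by_contra hc
  have h2 := rank_ge' (h.rho_sq u) (h.rho_sq' u) (by omega) h1 h3
  rw [← h.act_eq] at h2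
  have h4 := h.rk_fin u
  have h5 := h.balance.2.2
  omega

theorem mem_span_of_rank_one {X : Type*} [AddCommGroup X] [Module K X] [Module.Finite K X]
    {S : Submodule K X} (hS : finrank K S ≤ 1) {a y : X} (ha : a ∈ S) (ha0 : a ≠ 0) (hy : y ∈ S) :
    y ∈ Submodule.span K {a} := by
  have h1 : Submodule.span K {a} ≤ S := by
    rw [Submodule.span_le, Set.singleton_subset_iff]; exact ha
  have h2 : finrank K (Submodule.span K {a}) = 1 := finrank_span_singleton ha0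
  have h3 : Submodule.span K {a} = S :=
    Submodule.eq_of_le_of_finrank_le h1 (by omega)
  rw [h3]; exact hy

theorem exists_indep {X : Type*} [AddCommGroup X] [Module K X] [Module.Finite K X]
    {S : Submodule K X} (hS : 2 ≤ finrank K S) :
    ∃ a ∈ S, a ≠ 0 ∧ ∃ b ∈ S, b ∉ Submodule.span K {a} := by
  have h1 : S ≠ ⊥ := by
    rintro rfl; rw [finrank_bot] at hS; omega
  obtain ⟨a, ha, ha0⟩ := Submodule.exists_mem_ne_zero_of_ne_bot h1
  refine ⟨a, ha, ha0, ?_⟩
  by_contra hc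
  push Not at hc
  have h2 := Submodule.finrank_mono (show S ≤ Submodule.span K {a} from hc)
  rw [finrank_span_singleton ha0] at h2
  omega

/-- **(5)(a)** -/
theorem exists_cuW (h : PFlat ρ ρ' act E F) (h3 : 3 ≤ finrank K W → 3 ≤ finrank K W') :
    ∃ r, r ≠ 1 ∧ ρ r = 1 := by
  haveI : Finite (W ⊗[K] W') := finVV
  haveI : Finite W := Module.finite_of_finite K
  haveI : Finite W' := Module.finite_of_finite K
  obtain ⟨x, ξ, hw⟩ := exists_pure h.flat.ne_top
  have hd := h.d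
  have hd' := h.d'
  obtain ⟨b1, b2, b3⟩ := h.balance
  by_cases hd2 : finrank K W = 2
  · -- `d = 2`
    have h1 : IW ρ' ≠ ⊥ := by
      intro h1; rw [h1, finrank_bot] at b2; omega
    obtain ⟨b, hb, hb0⟩ := Submodule.exists_mem_ne_zero_of_ne_bot h1
    obtain ⟨u, hu1, hu2⟩ := h.reg hw (IW ρ).zero_mem hb
    rw [add_zero] at hu1
    refine ⟨u, ?_, ?_⟩
    · rintro rfl
      rw [map_one, Module.End.one_apply, left_eq_add] at hu2
      exact hb0 hu2
    · have h4 : IW ρ ≠ ⊥ := by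
        intro h1; rw [h1, finrank_bot] at b1; omega
      obtain ⟨c, hc, hc0, hcf⟩ := exists_fixed_mem h.flat.isPGroup ρ (IW ρ)
        (fun u x hx => IW_inv ρ u hx) h4
      have h5 : LinearMap.ker (ρ u - 1) = ⊤ := by
        refine h.top_of hw ?_ ?_
        · intro y hy
          have h6 := mem_span_of_rank_one (show finrank K (IW ρ) ≤ 1 by omega) hc hc0 hy
          obtain ⟨k, rfl⟩ := Submodule.mem_span_singleton.1 h6
          rw [LinearMap.mem_ker]
          refine sub_eq_zero.2 ?_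
          rw [map_smul, hcf u]; rfl
        · rw [LinearMap.mem_ker]
          exact sub_eq_zero.2 hu1
      rw [LinearMap.ker_eq_top] at h5
      exact sub_eq_zero.1 h5
  · -- `d ≥ 3`
    by_contra hcon
    push Not at hcon
    have hd3 : 3 ≤ finrank K W' := h3 (by omega)
    obtain ⟨b, hb, hb0, b', hb', hbb'⟩ := exists_indep (show 2 ≤ finrank K (IW ρ') by omega)
    obtain ⟨a, ha, ha0, a', ha', haa'⟩ := exists_indep (show 2 ≤ finrank K (IW ρ) by omega)
    have hb'0 : b' ≠ 0 := by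
      rintro rfl; exact hbb' (Submodule.zero_mem _)
    have ha'0 : a' ≠ 0 := by
      rintro rfl; exact haa' (Submodule.zero_mem _)
    obtain ⟨u, hu1, hu2⟩ := h.reg hw (IW ρ).zero_mem hb
    obtain ⟨u', hu1', hu2'⟩ := h.reg hw (IW ρ).zero_mem hb'
    rw [add_zero] at hu1 hu1'
    -- the key step
    have key0 : ∀ c ∈ IW ρ, c ≠ 0 → ∀ w d, d ≠ 0 → ρ w x = x → ρ' w ξ = ξ + d → ∀ v, ρ v x = x + c →
        ρ' v ξ = ξ → ∀ y, ρ (w * v) y - y ∈ Submodule.span K {c} := by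
      intro c hc hc0 w d hd0 hw1 hw2 v hv1 hv2 y
      have h1 : ρ' (w * v) ≠ 1 := by
        intro h1
        have := LinearMap.congr_fun h1 ξ
        rw [map_mul, Module.End.mul_apply, hv2, hw2, Module.End.one_apply, add_eq_left] at this
        exact hd0 this
      have h2 := h.rank_one hd3 h1
      have h4 : c ∈ LinearMap.range (ρ (w * v) - 1) := by
        refine ⟨x, ?_⟩
        change ρ (w * v) x - x = c
        rw [h.flat.comm w v, map_mul, Module.End.mul_apply, hw1, hv1]; abel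
      exact mem_span_of_rank_one h2 h4 hc0 ⟨y, rfl⟩
    have key : ∀ c ∈ IW ρ, c ≠ 0 → ∀ y, ρ (u * u') y - y ∈ Submodule.span K {c} := by
      intro c hc hc0 y
      obtain ⟨v, hv1, hv2⟩ := h.reg hw hc (IW ρ').zero_mem
      rw [add_zero] at hv2
      have h1 := key0 c hc hc0 u b hb0 hu1 hu2 v hv1 hv2 (ρ (u' * v) y)
      have h2 := key0 c hc hc0 u' b' hb'0 hu1' hu2' v hv1 hv2 y
      have h4 : u * u' = (u * v) * (u' * v) := by
        rw [h.flat.comm u' v, mul_assoc, ← mul_assoc v v, h.flat.sq v, one_mul]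
      rw [h4, map_mul, Module.End.mul_apply]
      have := Submodule.add_mem _ h1 h2
      rwa [sub_add_sub_cancel] at this
    have h1 : ρ (u * u') = 1 := by
      ext y
      have h4 := key a ha ha0 y
      have h5 := key a' ha' ha'0 y
      obtain ⟨k, hk⟩ := Submodule.mem_span_singleton.1 h4
      obtain ⟨k', hk'⟩ := Submodule.mem_span_singleton.1 h5
      by_cases hk0 : k' = 0
      · rw [hk0, zero_smul] at hk'
        exact sub_eq_zero.1 hk'.symm
      · exfalso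
        apply haa'
        rw [Submodule.mem_span_singleton]
        refine ⟨k'⁻¹ * k, ?_⟩
        rw [← smul_smul, hk, ← hk', smul_smul, inv_mul_cancel₀ hk0, one_smul]
    have h2 : u * u' ≠ 1 := by
      intro h2
      have h4 : u' = u := mul_left_cancel (h2.trans (h.flat.sq u).symm)
      rw [h4, hu2, add_right_inj] at hu2'
      exact hbb' (hu2' ▸ Submodule.mem_span_singleton_self b)
    exact hcon _ h2 h1

/-- tensor tools -/
theorem tmul_mem_range (h : PFlat ρ ρ' act E F) {r : U} (hr : ρ r = 1) (z : W) {b : W'}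
    (hb : b ∈ LinearMap.range (ρ' r - 1)) : z ⊗ₜ[K] b ∈ LinearMap.range (act r - 1) := by
  obtain ⟨ζ, rfl⟩ := hb
  refine ⟨z ⊗ₜ ζ, ?_⟩
  change act r (z ⊗ₜ ζ) - z ⊗ₜ ζ = z ⊗ₜ (ρ' r ζ - ζ)
  rw [h.act_tmul, hr, tmul_sub]; rfl

theorem range_inv (h : PFlat ρ ρ' act E F) (r u : U) {b : W'}
    (hb : b ∈ LinearMap.range (ρ' r - 1)) : ρ' u b ∈ LinearMap.range (ρ' r - 1) := by
  obtain ⟨ζ, rfl⟩ := hb
  refine ⟨ρ' u ζ, ?_⟩
  change ρ' r (ρ' u ζ) - ρ' u ζ = ρ' u (ρ' r ζ - ζ)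
  rw [map_sub, ← Module.End.mul_apply, ← map_mul, h.flat.comm, map_mul, Module.End.mul_apply]

theorem left_eq {x : W} {η η' : W'} (hx : x ≠ 0) (he : x ⊗ₜ[K] η = x ⊗ₜ η') : η = η' := by
  obtain ⟨f, hf, -⟩ := exists_dual_one (K := K) (p := ⊥) (x := x) (by simpa using hx)
  have := congrArg (cL W' f) he
  rwa [cL_tmul, cL_tmul, hf, one_smul, one_smul] at this

theorem right_eq {x x' : W} {η : W'} (hη : η ≠ 0) (he : x ⊗ₜ[K] η = x' ⊗ₜ η) : x = x' := by
  obtain ⟨f, hf, -⟩ := exists_dual_one (K := K) (p := ⊥) (x := η) (by simpa using hη)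
  have := congrArg (cR W f) he
  rwa [cR_tmul, cR_tmul, hf, one_smul, one_smul] at this

theorem mem_span_of_tmul {x x' : W} {η η' : W'} (hη : η ≠ 0) (he : x ⊗ₜ[K] η = x' ⊗ₜ η') :
    x ∈ Submodule.span K {x'} := by
  obtain ⟨f, hf, -⟩ := exists_dual_one (K := K) (p := ⊥) (x := η) (by simpa using hη)
  have := congrArg (cR W f) he
  rw [cR_tmul, cR_tmul, hf, one_smul] at this
  rw [this]
  exact Submodule.smul_mem _ _ (Submodule.mem_span_singleton_self _)

theorem mem_span_of_tmul' {x x' : W} {η η' : W'} (hx : x ≠ 0) (he : x ⊗ₜ[K] η = x' ⊗ₜ η') :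
    η ∈ Submodule.span K {η'} := by
  obtain ⟨f, hf, -⟩ := exists_dual_one (K := K) (p := ⊥) (x := x) (by simpa using hx)
  have := congrArg (cL W' f) he
  rw [cL_tmul, cL_tmul, hf, one_smul] at this
  rw [this]
  exact Submodule.smul_mem _ _ (Submodule.mem_span_singleton_self _)

section B

variable (h : PFlat ρ ρ' act E F) {r : U} (hr1 : r ≠ 1) (hr : ρ r = 1)
include h hr1 hr

theorem not_nn : ¬ KFlat.Nn act E r := fun hn => hr1 (h.nn_one hn)

theorem range_ne : LinearMap.range (ρ' r - 1) ≠ ⊥ := by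
  intro h0
  rw [LinearMap.range_eq_bot] at h0
  exact hr1 (h.eq_one hr (sub_eq_zero.1 h0))

/-- (MR) on `W ⊗ I` -/
theorem mrW {z : W} {η : W'} (hη : η ∈ LinearMap.range (ρ' r - 1))
    (hm : ¬ ∀ s, act s (z ⊗ₜ η) = z ⊗ₜ η) {m : W ⊗[K] W'} (hm' : m ∈ LinearMap.range (act r - 1))
    (hmF : ∀ s, act s m = m) : ∃ s, ρ s z ⊗ₜ ρ' s η - z ⊗ₜ η = m := by
  obtain ⟨s, hs⟩ := h.flat.mr (h.tmul_mem_range hr z hη) (by rwa [h.flat.fixF]) hm'
    ((h.flat.fixF _).2 hmF) (h.not_nn hr1 hr)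
  exact ⟨s, by rw [← h.act_tmul]; exact hs⟩

/-- `U` is trivial on `I = [W', r]` -/
theorem triv_I {η : W'} (hη : η ∈ LinearMap.range (ρ' r - 1)) (u : U) : ρ' u η = η := by
  haveI := h.nontW
  haveI : Finite W := Module.finite_of_finite K
  haveI : Finite W' := Module.finite_of_finite K
  by_contra hne
  -- find u, z, η with both moved
  obtain ⟨u, z, η, hη, hz, hb⟩ : ∃ u z η, η ∈ LinearMap.range (ρ' r - 1) ∧ ρ u z ≠ z ∧
      ρ' u η ≠ η := by
    obtain ⟨v, hv⟩ := h.n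
    obtain ⟨z, hz⟩ : ∃ z, ρ v z ≠ z := by
      by_contra hc; push Not at hc; exact hv (LinearMap.ext hc)
    by_cases h1 : ρ' v η = η
    · by_cases h2 : ρ u z = z
      · refine ⟨u * v, z, η, hη, ?_, ?_⟩
        · rw [h.flat.comm, map_mul, Module.End.mul_apply, h2]; exact hz
        · rw [map_mul, Module.End.mul_apply, h1]; exact hne
      · exact ⟨u, z, η, hη, h2, hne⟩
    · exact ⟨v, z, η, hη, hz, h1⟩
  obtain ⟨y, hy0, hy⟩ := exists_fixed h.flat.isPGroup ρ
  obtain ⟨η₀, hη₀, hη₀0, hη₀f⟩ := exists_fixed_mem h.flat.isPGroup ρ' (LinearMap.range (ρ' r - 1))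
    (fun u x hx => h.range_inv r u hx) (h.range_ne hr1 hr)
  set a := ρ u z - z with ha
  set b := ρ' u η - η with hb'
  have ha0 : a ≠ 0 := sub_ne_zero.2 hz
  have hb0 : b ≠ 0 := sub_ne_zero.2 hb
  have huz : ρ u z = z + a := by rw [ha]; abel
  have huη : ρ' u η = η + b := by rw [hb']; abel
  have hm1 : ¬ ∀ s, act s (y ⊗ₜ[K] η) = y ⊗ₜ η := by
    intro h1
    have h2 := h1 u
    rw [h.act_tmul, hy] at h2
    exact hb (left_eq hy0 h2)
  -- `a ⊗ η₀ ∈ M ∩ F`
  have hMF := h.flat.mr_mem (h.tmul_mem_range hr z hη₀) u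
  rw [h.act_tmul, hη₀f, ← sub_tmul, ← ha] at hMF
  obtain ⟨s, hs⟩ := h.mrW hr1 hr hη hm1 hMF.1 ((h.flat.fixF _).1 hMF.2)
  rw [hy, ← tmul_sub] at hs
  have hay := mem_span_of_tmul hη₀0 hs.symm
  -- `m₃`
  have hM3 := h.flat.mr_mem (h.tmul_mem_range hr z hη) u
  obtain ⟨s', hs'⟩ := h.mrW hr1 hr hη hm1 hM3.1 ((h.flat.fixF _).1 hM3.2)
  rw [hy, ← tmul_sub, h.act_tmul, huz, huη] at hs'
  have hzy : z ∉ Submodule.span K {y} := by
    intro hzy
    obtain ⟨k, rfl⟩ := Submodule.mem_span_singleton.1 hzy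
    apply hz
    rw [map_smul, hy]
  obtain ⟨f, hf1, hf0⟩ := exists_dual_one (K := K) hzy
  have h1 := congrArg (cL W' f) hs'
  rw [map_sub, cL_tmul, cL_tmul, cL_tmul, map_add, hf1, hf0 a hay,
    hf0 y (Submodule.mem_span_singleton_self y)] at h1
  simp only [zero_smul, add_zero, one_smul] at h1
  apply hb0
  rw [← sub_eq_zero.1 h1.symm] at *
  simpa using h1.symm

/-- **(5)(b)** `[W', r]` is one-dimensional -/
theorem trans : finrank K (LinearMap.range (ρ' r - 1)) = 1 := by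
  haveI := h.nontW
  haveI : Finite W := Module.finite_of_finite K
  haveI : Finite W' := Module.finite_of_finite K
  obtain ⟨v, hv⟩ := h.n
  obtain ⟨z, hz⟩ : ∃ z, ρ v z ≠ z := by
    by_contra hc; push Not at hc; exact hv (LinearMap.ext hc)
  obtain ⟨y, hy0, hy⟩ := exists_fixed h.flat.isPGroup ρ
  obtain ⟨η, hη, hη0⟩ := Submodule.exists_mem_ne_zero_of_ne_bot (h.range_ne hr1 hr)
  have hηf := h.triv_I hr1 hr hη
  have hm : ¬ ∀ s, act s (z ⊗ₜ[K] η) = z ⊗ₜ η := by
    intro h1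
    have h2 := h1 v
    rw [h.act_tmul, hηf] at h2
    exact hz (right_eq hη0 h2)
  have h1 : LinearMap.range (ρ' r - 1) ≤ Submodule.span K {η} := by
    intro η' hη'
    obtain ⟨s, hs⟩ := h.mrW hr1 hr hη hm (h.tmul_mem_range hr y hη') (fun s => by
      rw [h.act_tmul, hy, h.triv_I hr1 hr hη'])
    rw [hηf, ← sub_tmul] at hs
    exact mem_span_of_tmul' hy0 hs.symm
  have h2 := Submodule.finrank_mono h1
  rw [finrank_span_singleton hη0] at h2
  have h3 : 0 < finrank K (LinearMap.range (ρ' r - 1)) := by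
    rw [Nat.pos_iff_ne_zero]
    intro h0
    exact h.range_ne hr1 hr (Submodule.finrank_eq_zero.1 h0)
  omega

/-- **(5)(b)** `[z,U] ≤ C_W(U)` -/
theorem comm_mem (z : W) (s : U) : ρ s z - z ∈ CW ρ := by
  haveI : Finite W := Module.finite_of_finite K
  haveI : Finite W' := Module.finite_of_finite K
  obtain ⟨η, hη, hη0⟩ := Submodule.exists_mem_ne_zero_of_ne_bot (h.range_ne hr1 hr)
  have hηf := h.triv_I hr1 hr hη
  have h1 := (h.flat.mr_mem (h.tmul_mem_range hr z hη) s).2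
  rw [h.act_tmul, hηf, ← sub_tmul] at h1
  intro t
  have h2 := (h.flat.fixF _).1 h1 t
  rw [h.act_tmul, hηf] at h2
  exact right_eq hη0 h2

/-- **(5)(b)** `[z,U] = C_W(U)` for `z ∉ C_W(U)` -/
theorem comm_surj {z : W} (hz : z ∉ CW ρ) {y : W} (hy : y ∈ CW ρ) : ∃ s, ρ s z - z = y := by
  haveI : Finite W := Module.finite_of_finite K
  haveI : Finite W' := Module.finite_of_finite K
  obtain ⟨η, hη, hη0⟩ := Submodule.exists_mem_ne_zero_of_ne_bot (h.range_ne hr1 hr)
  have hηf := h.triv_I hr1 hr hη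
  have hm : ¬ ∀ s, act s (z ⊗ₜ[K] η) = z ⊗ₜ η := by
    intro h1
    apply hz
    intro u
    have h2 := h1 u
    rw [h.act_tmul, hηf] at h2
    exact right_eq hη0 h2
  obtain ⟨s, hs⟩ := h.mrW hr1 hr hη hm (h.tmul_mem_range hr y hη) (fun s => by
      rw [h.act_tmul, hy s, hηf])
  rw [hηf, ← sub_tmul] at hs
  exact ⟨s, right_eq hη0 hs⟩

/-- **(5)(b)** `|W/C_W(U)| = |V/E|` -/
theorem card_W : Nat.card W * Nat.card E = Nat.card (W ⊗[K] W') * Nat.card (CW ρ) := by
  haveI : Finite W := Module.finite_of_finite K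
  haveI : Finite W' := Module.finite_of_finite K
  haveI : Finite (W ⊗[K] W') := finVV
  obtain ⟨η, hη, hη0⟩ := Submodule.exists_mem_ne_zero_of_ne_bot (h.range_ne hr1 hr)
  have hηf := h.triv_I hr1 hr hη
  have h1 := h.flat.mr_card (h.not_nn hr1 hr)
  have hinj : Function.Injective ((TensorProduct.mk K W W').flip η) := by
    intro x x' hx
    exact right_eq hη0 hx
  have hM : LinearMap.range (act r - 1) = LinearMap.range ((TensorProduct.mk K W W').flip η) := by
    apply le_antisymm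
    · have h2 : (⊤ : Submodule K (W ⊗[K] W')).map (act r - 1) ≤
          LinearMap.range ((TensorProduct.mk K W W').flip η) := by
        rw [← TensorProduct.span_tmul_eq_top, Submodule.map_span, Submodule.span_le]
        rintro _ ⟨_, ⟨x, ζ, rfl⟩, rfl⟩
        have h3 : ρ' r ζ - ζ ∈ Submodule.span K {η} :=
          mem_span_of_rank_one (h.trans hr1 hr).le hη hη0 ⟨ζ, rfl⟩
        obtain ⟨k, hk⟩ := Submodule.mem_span_singleton.1 h3
        refine ⟨k • x, ?_⟩
        change (k • x) ⊗ₜ[K] η = act r (x ⊗ₜ ζ) - x ⊗ₜ ζ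
        rw [h.act_tmul, hr, Module.End.one_apply, ← tmul_sub, ← hk, tmul_smul, smul_tmul']
      rwa [Submodule.map_top] at h2
    · rintro _ ⟨z, rfl⟩
      exact h.tmul_mem_range hr z hη
  have hMF : LinearMap.range (act r - 1) ⊓ F = (CW ρ).map ((TensorProduct.mk K W W').flip η) := by
    rw [hM]
    ext m
    constructor
    · rintro ⟨⟨z, rfl⟩, hz⟩
      refine ⟨z, ?_, rfl⟩
      intro u
      have h2 := (h.flat.fixF _).1 hz u
      change act u (z ⊗ₜ η) = z ⊗ₜ η at h2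
      rw [h.act_tmul, hηf] at h2
      exact right_eq hη0 h2
    · rintro ⟨z, hz, rfl⟩
      refine ⟨⟨z, rfl⟩, ?_⟩
      change _ ∈ F
      rw [h.flat.fixF]
      intro u
      change act u (z ⊗ₜ η) = z ⊗ₜ η
      rw [h.act_tmul, hηf, hz u]
  have c1 : Nat.card (LinearMap.range (act r - 1)) = Nat.card W := by
    rw [hM]; exact (Nat.card_congr (LinearEquiv.ofInjective _ hinj).toEquiv).symm
  have c2 : Nat.card (LinearMap.range (act r - 1) ⊓ F : Submodule K _) = Nat.card (CW ρ) := by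
    rw [hMF]; exact (Nat.card_congr (Submodule.equivMapOfInjective _ hinj _).toEquiv).symm
  rw [c1, c2] at h1
  exact h1

end B

theorem CW_ne_top (h : PFlat ρ ρ' act E F) : CW ρ ≠ ⊤ := by
  intro h0
  obtain ⟨u, hu⟩ := h.n
  apply hu
  ext x
  have : x ∈ CW ρ := h0 ▸ Submodule.mem_top
  exact this u

/-- `[W,U] = C_W(U)` is a hyperplane -/
theorem CW_eq (h : PFlat ρ ρ' act E F) {r : U} (hr1 : r ≠ 1) (hr : ρ r = 1) : CW ρ = IW ρ := by
  have h1 : IW ρ ≤ CW ρ := IW_le fun u x => h.comm_mem hr1 hr x u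
  have h2 := Submodule.finrank_lt h.CW_ne_top
  have h3 := h.balance.1
  exact (Submodule.eq_of_le_of_finrank_le h1 (by omega)).symm

/-- `|K| = |V/E|` -/
theorem card_V (h : PFlat ρ ρ' act E F) {r : U} (hr1 : r ≠ 1) (hr : ρ r = 1) :
    Nat.card (W ⊗[K] W') = Nat.card K * Nat.card E := by
  have h1 := h.card_W hr1 hr
  rw [h.CW_eq hr1 hr, Module.natCard_eq_pow_finrank (K := K) (V := W),
    Module.natCard_eq_pow_finrank (K := K) (V := IW ρ), ← h.balance.1, pow_succ] at h1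
  have h2 : 0 < Nat.card K ^ finrank K (IW ρ) := pow_pos Nat.card_pos _
  nlinarith [h1, h2, Nat.eq_of_mul_eq_mul_left h2 (show Nat.card K ^ finrank K (IW ρ) *
    (Nat.card K * Nat.card E) = Nat.card K ^ finrank K (IW ρ) * Nat.card (W ⊗[K] W') by
      rw [← mul_assoc, h1, mul_comm])]

/-- if `ξ ∉ [W',U]` then `C_U(ξ) = C_U(W')` -/
theorem fix_all' (h : PFlat ρ ρ' act E F) {r' : U} (hr1 : r' ≠ 1) (hr : ρ' r' = 1) {x : W} {ξ : W'}
    (hw : x ⊗ₜ[K] ξ ∉ E) {u : U} (hu : ρ' u ξ = ξ) : ρ' u = 1 := by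
  have hs := h.symm
  have hw' : ξ ⊗ₜ[K] x ∉ E.map (TensorProduct.comm K W W').toLinearMap := by
    rintro ⟨v, hv, hv'⟩
    have : v = x ⊗ₜ ξ := (TensorProduct.comm K W W').injective hv'
    exact hw (this ▸ hv)
  have h1 : LinearMap.ker (ρ' u - 1) = ⊤ := by
    refine hs.top_of hw' ?_ ?_
    · rw [← hs.CW_eq hr1 hr]
      intro y hy
      rw [LinearMap.mem_ker]
      exact sub_eq_zero.2 (hy u)
    · rw [LinearMap.mem_ker]
      exact sub_eq_zero.2 hu
  rw [LinearMap.ker_eq_top] at h1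
  exact sub_eq_zero.1 h1

/-- **(5)(c)**, the full transvection group: every `a ∈ H = [W,U] = C_W(U)` and every `x ∉ H` has
`u ∈ C_U(W')` with `x^u = x + a`. -/
theorem full (h : PFlat ρ ρ' act E F) {r r' : U} (hr1 : r ≠ 1) (hr : ρ r = 1) (hr1' : r' ≠ 1)
    (hr' : ρ' r' = 1) {x a : W} (hx : x ∉ CW ρ) (ha : a ∈ CW ρ) :
    ∃ u, ρ' u = 1 ∧ ρ u x = x + a := by
  haveI : Finite (W ⊗[K] W') := finVV
  obtain ⟨x₀, ξ₀, hw⟩ := exists_pure h.flat.ne_top
  have hC := h.CW_eq hr1 hr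
  have hx₀ := h.not_mem_IW hw
  -- `x = k x₀ + c`, `c ∈ CW`, `k ≠ 0`
  have h1 : IW ρ ⊔ Submodule.span K {x₀} = ⊤ :=
    h.top_of hw le_sup_left (Submodule.mem_sup_right (Submodule.mem_span_singleton_self _))
  have h2 : x ∈ IW ρ ⊔ Submodule.span K {x₀} := h1 ▸ Submodule.mem_top
  obtain ⟨c, hc, k, hk, rfl⟩ := Submodule.mem_sup.1 h2
  obtain ⟨k, rfl⟩ := Submodule.mem_span_singleton.1 hk
  have hk0 : k ≠ 0 := by
    rintro rfl
    apply hx
    rw [zero_smul, add_zero, hC]; exact hc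
  obtain ⟨u, hu1, hu2⟩ := h.reg hw (hC ▸ (CW ρ).smul_mem k⁻¹ ha) (IW ρ').zero_mem
  rw [add_zero] at hu2
  refine ⟨u, h.fix_all' hr1' hr' hw hu2, ?_⟩
  rw [← hC] at hc
  rw [map_add, hc u, map_smul, hu1, smul_add, smul_smul, mul_inv_cancel₀ hk0, one_smul, add_assoc]

end PFlat

end Cfsg.Agent.Omega.NO1.Comp
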