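import Cfsg.Agent.Omega.NO1.Comp.Rank

/-!
# THEOREM COMP (bb OMEGA #17539): fixed vectors, fixed functionals, `[W,U]`, pure tensors
-/

set_option linter.unusedSectionVars false
set_option linter.style.haveILetI false

namespace Cfsg.Agent.Omega.NO1.Comp

open Module TensorProduct

variable {K : Type*} [Field K] [CharP K 2]

section

variable {W : Type*} [AddCommGroup W] [Module K W] {U : Type*} [Group U]

theorem exists_fixed_mem [Finite W] (hU : IsPGroup 2 U) (σ : U →* Module.End K W)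
    (I : Submodule K W) (hI : ∀ u, ∀ x ∈ I, σ u x ∈ I) (hne : I ≠ ⊥) :
    ∃ x ∈ I, x ≠ 0 ∧ ∀ u, σ u x = x := by
  classical
  letI : MulAction U I :=
    { smul := fun u x => ⟨σ u x.1, hI u x.1 x.2⟩
      one_smul := fun x => Subtype.ext (by
        change σ 1 x.1 = x.1
        rw [map_one]; rfl)
      mul_smul := fun u v x => Subtype.ext (by
        change σ (u * v) x.1 = σ u (σ v x.1)
        rw [map_mul]; rfl) }
  have h2 : 2 ∣ Nat.card I := by
    obtain ⟨x, hx, hx0⟩ := Submodule.exists_mem_ne_zero_of_ne_bot hne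
    have h3 : addOrderOf (⟨x, hx⟩ : I) = 2 := by
      apply addOrderOf_eq_prime
      · rw [two_nsmul]
        exact Subtype.ext (add_self2 (K := K) x)
      · intro h; exact hx0 (congrArg Subtype.val h)
    rw [← h3]; exact addOrderOf_dvd_natCard _
  have h0 : (0 : I) ∈ MulAction.fixedPoints U I := by
    intro u
    exact Subtype.ext (map_zero (σ u))
  haveI : Fact (Nat.Prime 2) := ⟨Nat.prime_two⟩
  obtain ⟨b, hb, hb0⟩ := hU.exists_fixed_point_of_prime_dvd_card_of_fixed_point I h2 h0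
  exact ⟨b.1, b.2, fun h => hb0 (Subtype.ext h.symm), fun u => congrArg Subtype.val (hb u)⟩

theorem exists_fixed [Finite W] [Nontrivial W] (hU : IsPGroup 2 U) (σ : U →* Module.End K W) :
    ∃ x : W, x ≠ 0 ∧ ∀ u, σ u x = x := by
  obtain ⟨x, -, h⟩ := exists_fixed_mem hU σ ⊤ (fun _ _ _ => trivial)
    (by
      intro h
      obtain ⟨x, hx⟩ := exists_ne (0 : W)
      exact hx ((Submodule.mem_bot K).1 (h ▸ Submodule.mem_top)))
  exact ⟨x, h⟩

/-- `[W,U]` -/
def IW (ρ : U →* Module.End K W) : Submodule K W := ⨆ u, LinearMap.range (ρ u - 1)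

/-- `C_W(U)` -/
def CW (ρ : U →* Module.End K W) : Submodule K W where
  carrier := {x | ∀ u, ρ u x = x}
  add_mem' := fun ha hb u => by rw [map_add, ha u, hb u]
  zero_mem' := fun u => map_zero _
  smul_mem' := fun c x hx u => by rw [map_smul, hx u]

theorem mem_CW {ρ : U →* Module.End K W} {x : W} : x ∈ CW ρ ↔ ∀ u, ρ u x = x := Iff.rfl

theorem mem_IW (ρ : U →* Module.End K W) (u : U) (x : W) : ρ u x - x ∈ IW ρ :=
  Submodule.mem_iSup_of_mem u ⟨x, rfl⟩

theorem IW_le {ρ : U →* Module.End K W} {S : Submodule K W} (h : ∀ u x, ρ u x - x ∈ S) :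
    IW ρ ≤ S := by
  refine iSup_le fun u => ?_
  rintro _ ⟨x, rfl⟩
  exact h u x

/-- the dual action -/
noncomputable def dualHom (ρ : U →* Module.End K W) : U →* Module.End K (Dual K W) where
  toFun u := (ρ u⁻¹).dualMap
  map_one' := by
    rw [inv_one, map_one]; ext f x; rfl
  map_mul' u v := by
    rw [mul_inv_rev, map_mul]; ext f x; rfl

theorem exists_fixed_dual [Finite K] [Module.Finite K W] [Nontrivial W] (hU : IsPGroup 2 U)
    (ρ : U →* Module.End K W) : ∃ f : Dual K W, f ≠ 0 ∧ ∀ u x, f (ρ u x) = f x := by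
  haveI : Finite (Dual K W) := Module.finite_of_finite K
  obtain ⟨f, hf, h⟩ := exists_fixed hU (dualHom ρ)
  refine ⟨f, hf, fun u x => ?_⟩
  have := LinearMap.congr_fun (h u⁻¹) x
  simp only [dualHom, MonoidHom.coe_mk, OneHom.coe_mk, inv_inv] at this
  exact this

theorem IW_lt [Finite K] [Module.Finite K W] [Nontrivial W] (hU : IsPGroup 2 U)
    (ρ : U →* Module.End K W) : finrank K (IW ρ) + 1 ≤ finrank K W := by
  obtain ⟨f, hf, h⟩ := exists_fixed_dual hU ρ
  have h1 : IW ρ ≤ LinearMap.ker f := IW_le fun u x => by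
    rw [LinearMap.mem_ker, map_sub, h, sub_self]
  have h2 : LinearMap.ker f ≠ ⊤ := by
    intro h2; exact hf (LinearMap.ker_eq_top.1 h2)
  have h3 := Submodule.finrank_lt h2
  have h4 := Submodule.finrank_mono h1
  omega

end

section pure

variable {W W' : Type*} [AddCommGroup W] [Module K W] [AddCommGroup W'] [Module K W']

theorem eq_top_of_pure {X : Submodule K (W ⊗[K] W')} (h : ∀ x ξ, x ⊗ₜ[K] ξ ∈ X) : X = ⊤ := by
  rw [eq_top_iff, ← TensorProduct.span_tmul_eq_top, Submodule.span_le]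
  rintro _ ⟨m, n, rfl⟩
  exact h m n

theorem exists_pure {E : Submodule K (W ⊗[K] W')} (hE : E ≠ ⊤) : ∃ x ξ, x ⊗ₜ[K] ξ ∉ E := by
  by_contra hc
  push Not at hc
  exact hE (eq_top_of_pure hc)

/-- pure tensors outside a proper subspace span -/
theorem pure_span {E X : Submodule K (W ⊗[K] W')} (hE : E ≠ ⊤)
    (h : ∀ x ξ, x ⊗ₜ[K] ξ ∉ E → x ⊗ₜ[K] ξ ∈ X) : X = ⊤ := by
  have h1 : ∀ x ξ, x ⊗ₜ[K] ξ ∉ E → ∀ η, x ⊗ₜ[K] η ∈ X := by
    intro x ξ hx η
    by_cases hη : x ⊗ₜ[K] η ∈ E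
    · have h2 : x ⊗ₜ[K] (η + ξ) ∉ E := by
        rw [tmul_add]
        intro h3; exact hx ((Submodule.add_mem_iff_right E hη).1 h3)
      have h3 := h _ _ h2
      rw [tmul_add] at h3
      exact (Submodule.add_mem_iff_left X (h x ξ hx)).1 h3
    · exact h _ _ hη
  obtain ⟨x₀, ξ₀, h0⟩ := exists_pure hE
  refine eq_top_of_pure fun y η => ?_
  by_cases hy : ∃ ξ, y ⊗ₜ[K] ξ ∉ E
  · obtain ⟨ξ, hξ⟩ := hy
    exact h1 y ξ hξ η
  · push Not at hy
    have h2 : (y + x₀) ⊗ₜ[K] ξ₀ ∉ E := by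
      rw [add_tmul]
      intro h3; exact h0 ((Submodule.add_mem_iff_right E (hy ξ₀)).1 h3)
    have h3 := h1 _ _ h2 η
    rw [add_tmul] at h3
    exact (Submodule.add_mem_iff_left X (h1 _ _ h0 η)).1 h3

end pure

namespace KFlat

variable {V U : Type*} [AddCommGroup V] [Module K V] [Group U]
  {act : U →* Module.End K V} {E F : Submodule K V}

theorem isPGroup (h : KFlat act E F) : IsPGroup 2 U := by
  intro u
  exact ⟨1, by rw [pow_one, pow_two]; exact h.sq u⟩

variable [Finite V]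

theorem ne_top (h : KFlat act E F) : E ≠ ⊤ := by
  intro he
  have h1 := h.four
  rw [he, Nat.card_congr (Submodule.topEquiv (R := K) (M := V)).toEquiv] at h1
  have : 0 < Nat.card V := Nat.card_pos
  omega

/-- injection of `E` into `α × F` -/
theorem exists_theta (h : KFlat act E F) {w : V} (hw : w ∉ E) {α : Type*} (g : U → α) (φ : α → V)
    (hφ : ∀ u, φ (g u) = act u w - w) :
    ∃ Θ : E → α × F, ∀ e, φ (Θ e).1 + (Θ e).2 = e ∧ ∃ u, g u = (Θ e).1 := by
  choose! s hs using fun (e : E) => h.reg w hw e.1 e.2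
  refine ⟨fun e => (g (s e), ⟨_, hs e⟩), fun e => ⟨?_, s e, rfl⟩⟩
  simp only [hφ]
  abel

theorem card_E_le (h : KFlat act E F) {w : V} (hw : w ∉ E) {α : Type*} [Finite α] (g : U → α)
    (φ : α → V) (hφ : ∀ u, φ (g u) = act u w - w) :
    Nat.card E ≤ Nat.card α * Nat.card F := by
  obtain ⟨Θ, hΘ⟩ := h.exists_theta hw g φ hφ
  rw [← Nat.card_prod]
  refine Nat.card_le_card_of_injective Θ fun e e' he => Subtype.ext ?_
  rw [← (hΘ e).1, ← (hΘ e').1, he]

/-- the equality case -/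
theorem theta_bij (h : KFlat act E F) {w : V} (hw : w ∉ E) {α : Type*} [Finite α] (g : U → α)
    (φ : α → V) (hφ : ∀ u, φ (g u) = act u w - w)
    (hc : Nat.card α * Nat.card F ≤ Nat.card E) :
    (∀ a, ∃ u, g u = a) ∧ ∀ u, act u w - w ∈ F → act u w = w := by
  obtain ⟨Θ, hΘ⟩ := h.exists_theta hw g φ hφ
  have hinj : Function.Injective Θ := fun e e' he => Subtype.ext (by
    rw [← (hΘ e).1, ← (hΘ e').1, he])
  have hbij := hinj.bijective_of_nat_card_le (by rw [Nat.card_prod]; exact hc)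
  refine ⟨fun a => ?_, fun u hu => ?_⟩
  · obtain ⟨e, he⟩ := hbij.2 (a, 0)
    obtain ⟨u, hu⟩ := (hΘ e).2
    exact ⟨u, by rw [hu, he]⟩
  · obtain ⟨e, he⟩ := hbij.2 (g u, 0)
    obtain ⟨e', he'⟩ := hbij.2 (g 1, ⟨_, hu⟩)
    have h1 := (hΘ e).1
    have h2 := (hΘ e').1
    rw [he] at h1
    rw [he'] at h2
    simp only [hφ, ZeroMemClass.coe_zero, add_zero] at h1 h2
    rw [map_one] at h2
    simp only [Module.End.one_apply, sub_self, zero_add] at h2
    have h3 : e = e' := Subtype.ext (by rw [← h1, ← h2])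
    rw [h3, he'] at he
    have h4 := (Prod.ext_iff.1 he).2
    exact sub_eq_zero.1 (congrArg Subtype.val h4)

end KFlat

end Cfsg.Agent.Omega.NO1.Comp
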