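import Cfsg.Agent.Omega.NO1.Comp.Five

/-!
# THEOREM COMP (bb OMEGA #17539), step (4): no swap

`SFlat`: a `KFlat` on `(P ⊗ P) ⊗ X`, `U₁` of index 2 acting as `p ⊗ p ⊗ χ`, `s ∉ U₁` acting as
`swap ⊗ χ s`.  `SFlat.false`: impossible.
-/

set_option linter.unusedSectionVars false
set_option linter.style.haveILetI false

namespace Cfsg.Agent.Omega.NO1.Comp

open Module TensorProduct

variable {K : Type*} [Field K] {P X : Type*} [AddCommGroup P] [Module K P] [AddCommGroup X]
  [Module K X] {U : Type*} [Group U]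

/-- the input of step (4) -/
structure SFlat {U₁ : Subgroup U} (p : U₁ →* Module.End K P) (χ : U →* Module.End K X) (s : U)
    (act : U →* Module.End K ((P ⊗[K] P) ⊗[K] X)) (E F : Submodule K ((P ⊗[K] P) ⊗[K] X)) :
    Prop where
  flat : KFlat act E F
  act_eq : ∀ u : U₁, act u = TensorProduct.map (TensorProduct.map (p u) (p u)) (χ u)
  idx : ∀ u, u ∉ U₁ → s * u ∈ U₁
  act_s : act s = TensorProduct.map (TensorProduct.comm K P P).toLinearMap (χ s)
  d : 2 ≤ finrank K P
  d3 : Nat.card K = 2 → 3 ≤ finrank K P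
  nt : Nontrivial X

variable {U₁ : Subgroup U} {p : U₁ →* Module.End K P} {χ : U →* Module.End K X} {s : U}
  {act : U →* Module.End K ((P ⊗[K] P) ⊗[K] X)} {E F : Submodule K ((P ⊗[K] P) ⊗[K] X)}

namespace SFlat

/-- the action of `U₁` on `P ⊗ P` -/
noncomputable abbrev tau (p : U₁ →* Module.End K P) (u : U₁) : Module.End K (P ⊗[K] P) :=
  TensorProduct.map (p u) (p u)

/-- the swap -/
noncomputable abbrev sw (K P : Type*) [Field K] [AddCommGroup P] [Module K P] :
    Module.End K (P ⊗[K] P) := (TensorProduct.comm K P P).toLinearMap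

theorem sw_tmul (x y : P) : sw K P (x ⊗ₜ y) = y ⊗ₜ x := rfl

theorem tau_tmul (u : U₁) (x y : P) : tau p u (x ⊗ₜ y) = p u x ⊗ₜ p u y := rfl

theorem act_tmul (h : SFlat p χ s act E F) (u : U₁) (t : P ⊗[K] P) (ζ : X) :
    act u (t ⊗ₜ ζ) = tau p u t ⊗ₜ χ u ζ := by
  rw [h.act_eq]; rfl

theorem s_tmul (h : SFlat p χ s act E F) (t : P ⊗[K] P) (ζ : X) :
    act s (t ⊗ₜ ζ) = sw K P t ⊗ₜ χ s ζ := by
  rw [h.act_s]; rfl

theorem p_sq (h : SFlat p χ s act E F) (u : U₁) (x : P) : p u (p u x) = x := by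
  have h1 : u * u = 1 := Subtype.ext (h.flat.sq u)
  rw [← Module.End.mul_apply, ← map_mul, h1, map_one]; rfl

theorem p_comm (h : SFlat p χ s act E F) (u v : U₁) (x : P) : p u (p v x) = p v (p u x) := by
  have h1 : u * v = v * u := Subtype.ext (h.flat.comm u v)
  rw [← Module.End.mul_apply, ← map_mul, h1, map_mul]; rfl

theorem isPGroup₁ (h : SFlat p χ s act E F) : IsPGroup 2 U₁ := by
  intro u
  exact ⟨1, by rw [pow_one, pow_two]; exact Subtype.ext (h.flat.sq u)⟩

variable [Finite K] [CharP K 2] [Module.Finite K P] [Module.Finite K X]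

theorem nontP (h : SFlat p χ s act E F) : Nontrivial P := by
  have := h.d
  exact Module.nontrivial_of_finrank_pos (R := K) (by omega)

theorem finV : Finite ((P ⊗[K] P) ⊗[K] X) := Module.finite_of_finite K

/-- (MR) on `t ⊗ ξ`, `ξ ∈ [X, r]` fixed, `r ∈ U₂` -/
theorem mrt (h : SFlat p χ s act E F) {r : U₁} (hr : p r = 1) (hN : ¬ KFlat.Nn act E (r : U))
    {ξ : X} (hξ : ξ ∈ LinearMap.range (χ r - 1)) (hξ0 : ξ ≠ 0) (hξf : ∀ u, χ u ξ = ξ)
    {t t' : P ⊗[K] P} (ht : ¬ (sw K P t = t ∧ ∀ u, tau p u t = t)) (hs' : sw K P t' = t')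
    (hu' : ∀ u, tau p u t' = t') :
    ∃ u, tau p u t - t = t' ∨ sw K P (tau p u t) - t = t' := by
  have hmem : ∀ t : P ⊗[K] P, t ⊗ₜ ξ ∈ LinearMap.range (act (r : U) - 1) := by
    intro t
    obtain ⟨ζ, rfl⟩ := hξ
    refine ⟨t ⊗ₜ ζ, ?_⟩
    change act r (t ⊗ₜ ζ) - t ⊗ₜ ζ = t ⊗ₜ (χ r ζ - ζ)
    rw [h.act_tmul, tmul_sub]
    have : tau p r = 1 := by
      simp only [tau, hr]; exact TensorProduct.map_one
    rw [this]; rfl
  have hF : ∀ t : P ⊗[K] P, t ⊗ₜ ξ ∈ F ↔ (sw K P t = t ∧ ∀ u, tau p u t = t) := by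
    intro t
    rw [h.flat.fixF]
    constructor
    · intro h1
      refine ⟨?_, fun u => ?_⟩
      · have := h1 s
        rw [h.s_tmul, hξf] at this
        exact PFlat.right_eq hξ0 this
      · have := h1 u
        rw [h.act_tmul, hξf] at this
        exact PFlat.right_eq hξ0 this
    · rintro ⟨h1, h2⟩ u
      by_cases hu : u ∈ U₁
      · have := h.act_tmul ⟨u, hu⟩ t ξ
        rw [hξf, h2] at this
        exact this
      · have h3 := h.idx u hu
        have h4 : u = s * (s * u) := by rw [← mul_assoc, h.flat.sq, one_mul]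
        have h5 := h.act_tmul ⟨s * u, h3⟩ t ξ
        rw [hξf, h2] at h5
        rw [h4, map_mul, Module.End.mul_apply, h5, h.s_tmul, hξf, h1]
  obtain ⟨v, hv⟩ := h.flat.mr (hmem t) (by rw [hF]; exact ht) (hmem t') ((hF t').2 ⟨hs', hu'⟩) hN
  by_cases hu : v ∈ U₁
  · refine ⟨⟨v, hu⟩, Or.inl ?_⟩
    have := h.act_tmul ⟨v, hu⟩ t ξ
    rw [hξf] at this
    change act v (t ⊗ₜ ξ) = _ at this
    rw [this, ← sub_tmul] at hv
    exact PFlat.right_eq hξ0 hv
  · have h3 := h.idx v hu
    refine ⟨⟨s * v, h3⟩, Or.inr ?_⟩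
    have h4 : v = s * (s * v) := by rw [← mul_assoc, h.flat.sq, one_mul]
    have h5 := h.act_tmul ⟨s * v, h3⟩ t ξ
    rw [hξf] at h5
    change act (s * v) (t ⊗ₜ ξ) = _ at h5
    rw [h4, map_mul, Module.End.mul_apply, h5, h.s_tmul, hξf, ← sub_tmul] at hv
    exact PFlat.right_eq hξ0 hv

theorem mrt_mem (h : SFlat p χ s act E F) {r : U₁} (hr : p r = 1)
    {ξ : X} (hξ : ξ ∈ LinearMap.range (χ r - 1)) (hξ0 : ξ ≠ 0) (hξf : ∀ u, χ u ξ = ξ)
    (t : P ⊗[K] P) (u : U₁) :
    sw K P (tau p u t - t) = tau p u t - t ∧ ∀ v, tau p v (tau p u t - t) = tau p u t - t := by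
  have hmem : ∀ t : P ⊗[K] P, t ⊗ₜ ξ ∈ LinearMap.range (act (r : U) - 1) := by
    intro t
    obtain ⟨ζ, rfl⟩ := hξ
    refine ⟨t ⊗ₜ ζ, ?_⟩
    change act r (t ⊗ₜ ζ) - t ⊗ₜ ζ = t ⊗ₜ (χ r ζ - ζ)
    rw [h.act_tmul, tmul_sub]
    have : tau p r = 1 := by
      simp only [tau, hr]; exact TensorProduct.map_one
    rw [this]; rfl
  have h1 := (h.flat.mr_mem (hmem t) u).2
  rw [h.act_tmul, hξf, ← sub_tmul] at h1
  have h2 := (h.flat.fixF _).1 h1
  refine ⟨?_, fun v => ?_⟩
  · have := h2 s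
    rw [h.s_tmul, hξf] at this
    exact PFlat.right_eq hξ0 this
  · have := h2 v
    rw [h.act_tmul, hξf] at this
    exact PFlat.right_eq hξ0 this

/-- **(4)(a)** -/
theorem nn_of (h : SFlat p χ s act E F) {r : U₁} (hr : p r = 1) : KFlat.Nn act E (r : U) := by
  haveI := h.nontP
  haveI : Finite P := Module.finite_of_finite K
  haveI : Finite X := Module.finite_of_finite K
  by_contra hN
  have hX : LinearMap.range (χ r - 1) ≠ ⊥ := by
    intro h0
    rw [LinearMap.range_eq_bot] at h0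
    apply hN
    have h1 : act (r : U) = 1 := by
      rw [h.act_eq, hr, sub_eq_zero.1 h0]
      rw [show TensorProduct.map (1 : Module.End K P) 1 = 1 from TensorProduct.map_one]
      exact TensorProduct.map_one
    intro e _
    rw [h1]; rfl
  obtain ⟨ξ, hξ, hξ0, hξf⟩ := exists_fixed_mem h.flat.isPGroup χ (LinearMap.range (χ r - 1))
    (by
      rintro u _ ⟨ζ, rfl⟩
      refine ⟨χ u ζ, ?_⟩
      change χ r (χ u ζ) - χ u ζ = χ u (χ r ζ - ζ)
      rw [map_sub, ← Module.End.mul_apply, ← map_mul, h.flat.comm, map_mul, Module.End.mul_apply])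
    hX
  by_cases htriv : ∀ u, p u = 1
  · obtain ⟨v, -, hv0, v', -, hvv'⟩ := PFlat.exists_indep (K := K) (S := (⊤ : Submodule K P))
      (by rw [finrank_top]; exact h.d)
    obtain ⟨f, hf1, hf0⟩ := exists_dual_one (K := K) hvv'
    have hfv : f v = 0 := hf0 v (Submodule.mem_span_singleton_self v)
    have htau : ∀ u t, tau p u t = t := by
      intro u t
      have : tau p u = 1 := by simp only [tau, htriv]; exact TensorProduct.map_one
      rw [this]; rfl
    obtain ⟨u, hu | hu⟩ := h.mrt hr hN hξ hξ0 hξf (t := v ⊗ₜ v') (t' := v ⊗ₜ v) (by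
      rintro ⟨h1, -⟩
      rw [sw_tmul] at h1
      have := congrArg (cL P f) h1
      rw [cL_tmul, cL_tmul, hf1, hfv, one_smul, zero_smul] at this
      exact hv0 this) rfl (fun u => htau u _)
    · rw [htau, sub_self] at hu
      exact tmul_ne_zero hv0 hv0 hu.symm
    · rw [htau, sw_tmul] at hu
      have := congrArg (cL P f) hu
      rw [map_sub, cL_tmul, cL_tmul, cL_tmul, hf1, hfv, one_smul, zero_smul, zero_smul,
        sub_zero] at this
      exact hv0 this
  · push Not at htriv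
    obtain ⟨u₀, hu₀⟩ := htriv
    obtain ⟨v, hv⟩ : ∃ v, p u₀ v ≠ v := by
      by_contra hc; push Not at hc; exact hu₀ (LinearMap.ext hc)
    obtain ⟨v₀, hv₀0, hv₀⟩ := exists_fixed h.isPGroup₁ p
    have hvv₀ : v ∉ Submodule.span K {v₀} := by
      intro hc
      obtain ⟨k, rfl⟩ := Submodule.mem_span_singleton.1 hc
      exact hv (by rw [map_smul, hv₀])
    obtain ⟨f, hf1, hf0⟩ := exists_dual_one (K := K) hvv₀
    have hfv₀ : f v₀ = 0 := hf0 v₀ (Submodule.mem_span_singleton_self _)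
    -- `d ∈ K v₀`
    have hd : ∀ u : U₁, p u v - v ∈ Submodule.span K {v₀} := by
      intro u
      by_cases hu0 : p u v - v = 0
      · rw [hu0]; exact Submodule.zero_mem _
      have h1 := (h.mrt_mem hr hξ hξ0 hξf (v ⊗ₜ v₀) u).1
      rw [tau_tmul, hv₀, ← sub_tmul, sw_tmul] at h1
      exact PFlat.mem_span_of_tmul hv₀0 h1.symm
    have hfd : ∀ u : U₁, f (p u v) = 1 := by
      intro u
      have h1 := hf0 _ (hd u)
      rw [map_sub, hf1, sub_eq_zero] at h1
      exact h1
    have hd0 : p u₀ v - v ≠ 0 := sub_ne_zero.2 hv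
    have hfix := h.mrt_mem hr hξ hξ0 hξf (v ⊗ₜ v₀) u₀
    have e1 : tau p u₀ (v ⊗ₜ v₀) - v ⊗ₜ v₀ = (p u₀ v - v) ⊗ₜ v₀ := by
      rw [tau_tmul, hv₀, ← sub_tmul]
    rw [e1] at hfix
    obtain ⟨u, hu⟩ := h.mrt hr hN hξ hξ0 hξf (t := v ⊗ₜ v) (t' := (p u₀ v - v) ⊗ₜ v₀) (by
      rintro ⟨-, h1⟩
      have h2 := h1 u₀
      rw [tau_tmul] at h2
      have h3 := congrArg (cL P f) h2
      rw [cL_tmul, cL_tmul, hfd, hf1, one_smul, one_smul] at h3
      exact hv h3) hfix.1 hfix.2
    have hu' : p u v ⊗ₜ p u v - v ⊗ₜ v = (p u₀ v - v) ⊗ₜ[K] v₀ := by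
      rcases hu with hu | hu
      · exact hu
      · exact hu
    have h3 := congrArg (cL P f) hu'
    rw [map_sub, cL_tmul, cL_tmul, cL_tmul, hfd, hf1, hf0 _ (hd u₀), one_smul, one_smul, zero_smul,
      sub_eq_zero] at h3
    rw [h3, sub_self] at hu'
    exact tmul_ne_zero hd0 hv₀0 hu'.symm

/-! ### (b) -/

/-- `[[v ⊗ v', t], t']` is swap-symmetric -/
theorem symm_comm (h : SFlat p χ s act E F) (t t' : U₁) (a : P ⊗[K] P) :
    sw K P (tau p t' (tau p t a - a) - (tau p t a - a)) =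
      tau p t' (tau p t a - a) - (tau p t a - a) := by
  haveI := h.nt
  haveI : Finite X := Module.finite_of_finite K
  obtain ⟨z, hz0, hz⟩ := exists_fixed h.flat.isPGroup χ
  have h1 := h.flat.EF t' _ (h.flat.VE t (a ⊗ₜ z))
  rw [h.act_tmul, hz, ← sub_tmul, h.act_tmul, hz, ← sub_tmul] at h1
  have h2 := (h.flat.fixF _).1 h1 s
  rw [h.s_tmul, hz] at h2
  exact PFlat.right_eq hz0 h2

/-- for `t` fixing `v`, `y = [v, t₁] ≠ 0`: `[v', t] ∈ ⟨v, y⟩` -/
theorem q1_aux (h : SFlat p χ s act E F) {t t₁ : U₁} {v : P} (hv : p t v = v)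
    (hy : p t₁ v ≠ v) (v' : P) : ∃ a b : K, p t v' - v' = a • v + b • (p t₁ v - v) := by
  set y := p t₁ v - v with hyd
  have hy0 : y ≠ 0 := sub_ne_zero.2 hy
  have hty : p t₁ y = y := by
    rw [hyd, map_sub, h.p_sq, sub_eq_add2 K, sub_eq_add2 K, add_comm]
  have htv : p t₁ v = v + y := by rw [hyd]; abel
  have hvy : v ∉ Submodule.span K {y} := by
    intro hc
    obtain ⟨k, hk⟩ := Submodule.mem_span_singleton.1 hc
    exact hy (by rw [← hk, map_smul, hty])
  have hyv : y ∉ Submodule.span K {v} := by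
    intro hc
    obtain ⟨k, hk⟩ := Submodule.mem_span_singleton.1 hc
    have hk0 : k ≠ 0 := by
      rintro rfl; rw [zero_smul] at hk; exact hy0 hk.symm
    apply hvy
    rw [Submodule.mem_span_singleton]
    exact ⟨k⁻¹, by rw [← hk, smul_smul, inv_mul_cancel₀ hk0, one_smul]⟩
  obtain ⟨f, hf1, hf0⟩ := exists_dual_one (K := K) hvy
  obtain ⟨g, hg1, hg0⟩ := exists_dual_one (K := K) hyv
  have hfy : f y = 0 := hf0 y (Submodule.mem_span_singleton_self y)
  have hgv : g v = 0 := hg0 v (Submodule.mem_span_singleton_self v)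
  set w := p t v' - v' with hw
  set B := p t₁ w - w with hB
  have hBw : p t₁ w = w + B := by rw [hB]; abel
  have hBf : p t₁ B = B := by
    rw [hB, map_sub, h.p_sq, sub_eq_add2 K, sub_eq_add2 K, add_comm]
  have h1 := h.symm_comm t t₁ (v ⊗ₜ v')
  have e1 : tau p t (v ⊗ₜ v') - v ⊗ₜ v' = v ⊗ₜ w := by
    rw [tau_tmul, hv, ← tmul_sub]
  have e2 : tau p t₁ (v ⊗ₜ[K] w) - v ⊗ₜ w = v ⊗ₜ B + y ⊗ₜ (w + B) := by
    rw [tau_tmul, htv, hBw, add_tmul, tmul_add v]; abel
  rw [e1, e2, map_add, sw_tmul, sw_tmul] at h1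
  have h2 := congrArg (cL P f) h1
  have h3 := congrArg (cL P g) h1
  simp only [map_add, cL_tmul, hf1, hfy, one_smul, zero_smul, add_zero] at h2
  simp only [map_add, cL_tmul, hg1, hgv, one_smul, zero_smul, zero_add] at h3
  -- h2 : f B • v + (f w + f B) • y = B
  have h4 : f B = 0 := by
    have h5 := congrArg (p t₁) h2
    rw [hBf, map_add, map_smul, map_smul, hty, htv, smul_add] at h5
    have h6 : f B • y = 0 := by
      have h7 := h5.trans h2.symm
      have : f B • v + f B • y + (f w + f B) • y = f B • v + (f w + f B) • y + f B • y := by abel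
      rw [this, add_eq_left] at h7
      exact h7
    exact (smul_eq_zero.1 h6).resolve_right hy0
  -- `w = (w + B) - B`
  refine ⟨g B, (g w + g B) - (f w + f B), ?_⟩
  rw [h4, zero_smul, zero_add] at h2
  have h5 : w = (g B • v + (g w + g B) • y) - (f w + 0) • y := by rw [h3, h2]; abel
  refine h5.trans ?_
  rw [h4, sub_smul]; abel

/-- **Q1** -/
theorem q1 (h : SFlat p χ s act E F) {t t₁ t₂ : U₁} {v : P} (hv : p t v = v) (ht : p t ≠ 1)
    (h1 : p t₁ v ≠ v) : p t₂ v - v ∈ Submodule.span K {p t₁ v - v} := by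
  by_contra hy
  have hy₁0 : p t₁ v - v ≠ 0 := sub_ne_zero.2 h1
  have h2 : p t₂ v ≠ v := by
    intro h2; apply hy; rw [h2, sub_self]; exact Submodule.zero_mem _
  have hv₁ : p t₁ (p t₁ v - v) = p t₁ v - v := by
    rw [map_sub, h.p_sq, sub_eq_add2 K, sub_eq_add2 K, add_comm]
  have hv₂ : p t₂ (p t₂ v - v) = p t₂ v - v := by
    rw [map_sub, h.p_sq, sub_eq_add2 K, sub_eq_add2 K, add_comm]
  have hvy : v ∉ Submodule.span K {p t₁ v - v} := by
    intro hc
    obtain ⟨k, hk⟩ := Submodule.mem_span_singleton.1 hc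
    exact h1 (by
      have := congrArg (p t₁) hk
      rw [map_smul, hv₁, hk] at this
      exact this.symm)
  have key : ∀ v', ∃ a : K, p t v' - v' = a • v := by
    intro v'
    obtain ⟨a, b, e1⟩ := h.q1_aux hv h1 v'
    obtain ⟨a₂, b₂, e2⟩ := h.q1_aux hv h2 v'
    have hc : p t₂ (p t₁ v - v) - (p t₁ v - v) = p t₁ (p t₂ v - v) - (p t₂ v - v) := by
      rw [map_sub, map_sub, h.p_comm t₁ t₂]; abel
    set y₁ := p t₁ v - v with hy₁
    set y₂ := p t₂ v - v with hy₂
    set c := p t₂ y₁ - y₁ with hc'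
    have hv1 : p t₁ v = v + y₁ := by rw [hy₁]; abel
    have hv2 : p t₂ v = v + y₂ := by rw [hy₂]; abel
    clear_value c y₁ y₂
    have e12 : a • v + b • y₁ = a₂ • v + b₂ • y₂ := e1.symm.trans e2
    have e3 : a • y₁ = a₂ • y₁ + b₂ • c := by
      have h3 := congrArg (fun x => p t₁ x - x) e12
      simp only [map_add, map_smul, hv₁, hv1] at h3
      have h4 : a • (v + y₁) + b • y₁ - (a • v + b • y₁) = a • y₁ := by module
      have h5 : a₂ • (v + y₁) + b₂ • p t₁ y₂ - (a₂ • v + b₂ • y₂) = a₂ • y₁ + b₂ • c := by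
        rw [hc]; module
      rw [h4, h5] at h3; exact h3
    have e4 : a • y₂ + b • c = a₂ • y₂ := by
      have h3 := congrArg (fun x => p t₂ x - x) e12
      simp only [map_add, map_smul, hv₂, hv2] at h3
      have h4 : a • (v + y₂) + b • p t₂ y₁ - (a • v + b • y₁) = a • y₂ + b • c := by
        rw [hc']; module
      have h5 : a₂ • (v + y₂) + b₂ • y₂ - (a₂ • v + b₂ • y₂) = a₂ • y₂ := by module
      rw [h4, h5] at h3; exact h3
    have haa : a = a₂ := by
      by_contra hne
      have hne' : a - a₂ ≠ 0 := sub_ne_zero.2 hne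
      have e5 : (a - a₂) • y₁ = b₂ • c := by rw [sub_smul, e3]; abel
      have e6 : (a - a₂) • y₂ = -(b • c) := by rw [sub_smul, ← e4]; abel
      have hb₂ : b₂ ≠ 0 := by
        rintro rfl
        rw [zero_smul, smul_eq_zero] at e5
        exact e5.elim hne' hy₁0
      apply hy
      rw [Submodule.mem_span_singleton]
      refine ⟨-(b * b₂⁻¹), ?_⟩
      have e7 : c = (b₂⁻¹ * (a - a₂)) • y₁ := by
        rw [← smul_smul, e5, smul_smul, inv_mul_cancel₀ hb₂, one_smul]
      have e8 : y₂ = (a - a₂)⁻¹ • -(b • c) := by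
        rw [← e6, smul_smul, inv_mul_cancel₀ hne', one_smul]
      have e9 : (a - a₂)⁻¹ • -(b • (b₂⁻¹ * (a - a₂)) • y₁) =
          ((a - a₂)⁻¹ * (a - a₂)) • (-(b * b₂⁻¹)) • y₁ := by module
      rw [e8, e7, e9, inv_mul_cancel₀ hne', one_smul]
    subst haa
    have e9 : b • y₁ = b₂ • y₂ := add_left_cancel e12
    have hb₂ : b₂ = 0 := by
      by_contra hb₂
      apply hy
      rw [Submodule.mem_span_singleton]
      exact ⟨b₂⁻¹ * b, by rw [← smul_smul, e9, smul_smul, inv_mul_cancel₀ hb₂, one_smul]⟩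
    rw [hb₂, zero_smul, add_zero] at e2
    exact ⟨a, e2⟩
  obtain ⟨v', hv'⟩ : ∃ v', p t v' ≠ v' := by
    by_contra hc; push Not at hc; exact ht (LinearMap.ext hc)
  obtain ⟨a, ha⟩ := key v'
  obtain ⟨a', ha'⟩ := key (p t₁ v' - v')
  have ha0 : a ≠ 0 := by
    rintro rfl
    rw [zero_smul] at ha
    exact hv' (sub_eq_zero.1 ha)
  have e1 : a • (p t₁ v - v) = a' • v := by
    rw [← ha', smul_sub, ← map_smul, ← ha, map_sub, map_sub, h.p_comm t t₁]; abel
  have ha'0 : a' ≠ 0 := by
    rintro rfl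
    rw [zero_smul, smul_eq_zero] at e1
    exact e1.elim ha0 hy₁0
  apply hvy
  rw [Submodule.mem_span_singleton]
  exact ⟨a'⁻¹ * a, by rw [← smul_smul, e1, smul_smul, inv_mul_cancel₀ ha'0, one_smul]⟩

/-- **(4)(b)** -/
theorem card_range (h : SFlat p χ s act E F) :
    Nat.card (Set.range p) ≤ Nat.card K ^ (finrank K P - 1) := by
  classical
  haveI := h.nontP
  haveI : Finite P := Module.finite_of_finite K
  have hq : 0 < Nat.card K := Nat.card_pos
  have hsq : ∀ (t t' : U₁) (x : P), p t x = p t' x → p (t' * t) x = x := by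
    intro t t' x hx
    rw [map_mul, Module.End.mul_apply, hx, h.p_sq]
  have heq : ∀ (t t' : U₁), p (t' * t) = 1 → p t = p t' := by
    intro t t' h1
    rw [map_mul] at h1
    ext x
    have h2 := congrArg (p t') (LinearMap.congr_fun h1 x)
    rw [Module.End.mul_apply, h.p_sq] at h2
    exact h2
  by_cases hA : ∃ v, ∀ t, p t v = v → p t = 1
  · obtain ⟨v, hv⟩ := hA
    have h1 : Nat.card (Set.range p) ≤ Nat.card (IW p) := by
      refine Nat.card_le_card_of_injective (fun r : Set.range p => (⟨r.1 v - v, by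
        obtain ⟨t, ht⟩ := r.2
        rw [← ht]; exact mem_IW p t v⟩ : IW p)) ?_
      rintro ⟨_, t, rfl⟩ ⟨_, t', rfl⟩ he
      have h2 : p t v = p t' v := sub_left_injective (congrArg Subtype.val he)
      exact Subtype.ext (heq t t' (hv _ (hsq t t' v h2)))
    refine h1.trans ?_
    rw [Module.natCard_eq_pow_finrank (K := K) (V := IW p)]
    refine Nat.pow_le_pow_right hq ?_
    have := IW_lt h.isPGroup₁ p
    omega
  · push Not at hA
    obtain ⟨v₀, hv₀0, hv₀⟩ := exists_fixed h.isPGroup₁ p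
    obtain ⟨H, hH⟩ := Submodule.exists_isCompl (Submodule.span K {v₀})
    have hHd : finrank K H = finrank K P - 1 := by
      have h1 := Submodule.finrank_add_eq_of_isCompl hH
      rw [finrank_span_singleton hv₀0] at h1
      omega
    let c := Module.finBasis K H
    -- a line containing all `[v, U₁]`
    have hL : ∀ v, ∃ y : P, ∀ t, p t v - v ∈ Submodule.span K {y} := by
      intro v
      obtain ⟨t, ht1, ht2⟩ := hA v
      by_cases hc : ∀ t₁, p t₁ v = v
      · exact ⟨0, fun t => by rw [hc, sub_self]; exact Submodule.zero_mem _⟩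
      · push Not at hc
        obtain ⟨t₁, h1⟩ := hc
        exact ⟨p t₁ v - v, fun t₂ => h.q1 ht1 ht2 h1⟩
    choose y hy using hL
    have h1 : Nat.card (Set.range p) ≤
        Nat.card (∀ i : Fin (finrank K H), (Submodule.span K {y (c i : P)} : Submodule K P)) := by
      refine Nat.card_le_card_of_injective (fun (r : Set.range p)
        (i : Fin (finrank K H)) => (⟨r.1 (c i : P) - (c i : P), by
        obtain ⟨t, ht⟩ := r.2
        rw [← ht]; exact hy _ t⟩ : (Submodule.span K {y (c i : P)} : Submodule K P))) ?_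
      rintro ⟨_, t, rfl⟩ ⟨_, t', rfl⟩ he
      have h2 : ∀ i, p t (c i : P) = p t' (c i : P) := fun i =>
        sub_left_injective (congrArg Subtype.val (congrFun he i))
      apply Subtype.ext
      change p t = p t'
      have h3 : LinearMap.eqLocus (p t) (p t') = ⊤ := by
        rw [eq_top_iff, ← hH.sup_eq_top, sup_le_iff]
        constructor
        · rw [Submodule.span_le, Set.singleton_subset_iff]
          change p t v₀ = p t' v₀
          rw [hv₀, hv₀]
        · have h4 : (p t).domRestrict H = (p t').domRestrict H := c.ext fun i => h2 i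
          intro x hx
          exact LinearMap.congr_fun h4 ⟨x, hx⟩
      ext x
      have : x ∈ LinearMap.eqLocus (p t) (p t') := h3 ▸ Submodule.mem_top
      exact this
    refine h1.trans ?_
    rw [Nat.card_pi, ← hHd]
    refine (Finset.prod_le_pow_card _ _ (Nat.card K) fun i _ => ?_).trans ?_
    · rw [Module.natCard_eq_pow_finrank (K := K)]
      have h5 : finrank K (Submodule.span K {y (c i : P)}) ≤ 1 := by
        have := finrank_span_le_card (R := K) ({y (c i : P)} : Set P)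
        simpa using this
      calc Nat.card K ^ finrank K (Submodule.span K {y (c i : P)}) ≤ Nat.card K ^ 1 :=
            Nat.pow_le_pow_right hq h5
        _ = Nat.card K := pow_one _
    · rw [Finset.card_univ, Fintype.card_fin]

/-- `e ≤ 2 |U₁/U₂|` -/
theorem card_E (h : SFlat p χ s act E F) :
    Nat.card E ≤ (Nat.card (Set.range p) * 2) * Nat.card F := by
  classical
  haveI : Finite ((P ⊗[K] P) ⊗[K] X) := finV
  haveI : Finite P := Module.finite_of_finite K
  haveI : Finite (P →ₗ[K] P) := Module.finite_of_finite K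
  haveI : Finite (Set.range p) := Set.finite_coe_iff.2 (Set.toFinite _)
  obtain ⟨w, hw⟩ : ∃ w, w ∉ E := by
    by_contra hc; push Not at hc
    exact h.flat.ne_top (by rw [eq_top_iff]; intro x _; exact hc x)
  let g : U → Set.range p × Bool := fun u =>
    if hu : u ∈ U₁ then (⟨p ⟨u, hu⟩, _, rfl⟩, true)
      else (⟨p ⟨s * u, h.idx u hu⟩, _, rfl⟩, false)
  have hg : ∀ u u', g u = g u' → act u w - act u' w ∈ F := by
    intro u u' he
    have hn : KFlat.Nn act E (u' * u) := by
      by_cases hu : u ∈ U₁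
      · by_cases hu' : u' ∈ U₁
        · simp only [g, hu, hu', dite_true] at he
          have h1 : p ⟨u, hu⟩ = p ⟨u', hu'⟩ := congrArg (fun x => x.1.1) he
          have h2 : p (⟨u', hu'⟩ * ⟨u, hu⟩) = 1 := by
            rw [map_mul, h1]
            ext x; exact h.p_sq _ x
          exact h.nn_of h2
        · simp only [g, hu, hu', dite_true, dite_false] at he
          exact absurd (congrArg (fun x => x.2) he) (by simp)
      · by_cases hu' : u' ∈ U₁
        · simp only [g, hu, hu', dite_true, dite_false] at he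
          exact absurd (congrArg (fun x => x.2) he) (by simp)
        · simp only [g, hu, hu', dite_false] at he
          have h1 : p ⟨s * u, h.idx u hu⟩ = p ⟨s * u', h.idx u' hu'⟩ :=
            congrArg (fun x => x.1.1) he
          have h2 : p (⟨s * u', h.idx u' hu'⟩ * ⟨s * u, h.idx u hu⟩) = 1 := by
            rw [map_mul, h1]
            ext x; exact h.p_sq _ x
          have h3 := h.nn_of h2
          have h4 : ((⟨s * u', h.idx u' hu'⟩ * ⟨s * u, h.idx u hu⟩ : U₁) : U) = u' * u := by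
            change (s * u') * (s * u) = u' * u
            rw [h.flat.comm s u', mul_assoc, ← mul_assoc s s, h.flat.sq, one_mul]
          rw [h4] at h3
          exact h3
    have h1 := (h.flat.nn_iff hw _).1 hn
    have h2 : act u w - act u' w = act (u' * u) w - w := by
      have h3 := (h.flat.fixF _).1 h1 u'
      rw [map_sub, ← Module.End.mul_apply, ← map_mul, ← mul_assoc, h.flat.sq, one_mul] at h3
      exact h3
    rw [h2]; exact h1
  choose! v hv using fun (e : E) => h.flat.reg w hw e.1 e.2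
  have hv' : ∀ e : E, e.1 - (act (Function.invFun g (g (v e))) w - w) ∈ F := by
    intro e
    have h1 : g (Function.invFun g (g (v e))) = g (v e) := Function.invFun_eq ⟨_, rfl⟩
    have h2 := F.sub_mem (hv e) (hg _ _ h1)
    have h3 : e.1 - (act (v e) w - w) - (act (Function.invFun g (g (v e))) w - act (v e) w) =
        e.1 - (act (Function.invFun g (g (v e))) w - w) := by abel
    rwa [h3] at h2
  have h1 : Nat.card E ≤ Nat.card ((Set.range p × Bool) × F) := by
    refine Nat.card_le_card_of_injective (fun e : E => (g (v e), (⟨_, hv' e⟩ : F))) ?_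
    intro e e' he
    simp only [Prod.mk.injEq, Subtype.mk.injEq] at he
    obtain ⟨h2, h3⟩ := he
    rw [h2] at h3
    exact Subtype.ext (sub_left_injective h3)
  rw [Nat.card_prod, Nat.card_prod, Nat.card_eq_fintype_card (α := Bool), Fintype.card_bool] at h1
  exact h1

/-- rank of `swap - 1` -/
theorem rank_s (h : SFlat p χ s act E F) :
    2 * finrank K P ≤ finrank K (LinearMap.range (act s - 1)) + 3 := by
  haveI := h.nt
  haveI : Finite X := Module.finite_of_finite K
  obtain ⟨z, hz0, hz⟩ := exists_fixed h.flat.isPGroup χ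
  obtain ⟨b₁, -, hb₁, b₂, -, hb₂⟩ := PFlat.exists_indep (K := K) (S := (⊤ : Submodule K P))
      (by rw [finrank_top]; exact h.d)
  have hb₁' : b₁ ∉ Submodule.span K {b₂} := by
    intro hc
    obtain ⟨k, hk⟩ := Submodule.mem_span_singleton.1 hc
    have hk0 : k ≠ 0 := by
      rintro rfl; rw [zero_smul] at hk; exact hb₁ hk.symm
    apply hb₂
    rw [Submodule.mem_span_singleton]
    exact ⟨k⁻¹, by rw [← hk, smul_smul, inv_mul_cancel₀ hk0, one_smul]⟩
  obtain ⟨f, hf1, hf0⟩ := exists_dual_one (K := K) hb₁'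
  obtain ⟨g, hg1, hg0⟩ := exists_dual_one (K := K) hb₂
  have hfb : f b₂ = 0 := hf0 b₂ (Submodule.mem_span_singleton_self _)
  have hgb : g b₁ = 0 := hg0 b₁ (Submodule.mem_span_singleton_self _)
  let Φ : P × P →ₗ[K] (P ⊗[K] P) ⊗[K] X := (act s - 1) ∘ₗ
    ((TensorProduct.mk K (P ⊗[K] P) X).flip z) ∘ₗ
    ((TensorProduct.mk K P P b₁).coprod (TensorProduct.mk K P P b₂))
  have hap : ∀ y y', Φ (y, y') =
      (y ⊗ₜ[K] b₁ + y' ⊗ₜ[K] b₂ + (b₁ ⊗ₜ[K] y + b₂ ⊗ₜ[K] y')) ⊗ₜ[K] z := by
    intro y y'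
    change act s ((b₁ ⊗ₜ y + b₂ ⊗ₜ y') ⊗ₜ z) - (b₁ ⊗ₜ y + b₂ ⊗ₜ y') ⊗ₜ z = _
    rw [h.s_tmul, hz, sub_eq_add2 K, ← add_tmul, map_add, sw_tmul, sw_tmul]
  have hker : LinearMap.ker Φ ≤
      Submodule.span K (Set.range ![((b₁ : P), (0 : P)), (b₂, b₁), (0, b₂)]) := by
    rintro ⟨y, y'⟩ h0
    rw [LinearMap.mem_ker, hap] at h0
    have h1 : y ⊗ₜ[K] b₁ + y' ⊗ₜ[K] b₂ + (b₁ ⊗ₜ[K] y + b₂ ⊗ₜ[K] y') = 0 := by
      rw [← zero_tmul (P ⊗[K] P) z] at h0
      exact PFlat.right_eq hz0 h0
    have h2 := congrArg (cL P f) h1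
    have h3 := congrArg (cL P g) h1
    simp only [map_add, cL_tmul, hf1, hfb, hg1, hgb, one_smul, zero_smul, add_zero, zero_add,
      map_zero] at h2 h3
    -- h2 : f y • b₁ + f y' • b₂ + y = 0 ; h3 : g y • b₁ + g y' • b₂ + y' = 0
    rw [← sub_eq_add2 K, sub_eq_zero] at h2 h3
    have h4 : g y = f y' := by
      have := congrArg g h2
      simp only [map_add, map_smul, hgb, hg1, smul_eq_mul, mul_zero, mul_one, zero_add] at this
      exact this.symm
    have h5 : ((y, y') : P × P) = f y • (b₁, 0) + f y' • (b₂, b₁) + g y' • (0, b₂) := by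
      ext
      · simp only [Prod.fst_add, Prod.smul_fst, smul_zero, add_zero]
        exact h2.symm
      · simp only [Prod.snd_add, Prod.smul_snd, smul_zero, zero_add]
        rw [← h4]; exact h3.symm
    rw [h5]
    refine Submodule.add_mem _ (Submodule.add_mem _ ?_ ?_) ?_
    · exact Submodule.smul_mem _ _ (Submodule.subset_span ⟨0, rfl⟩)
    · exact Submodule.smul_mem _ _ (Submodule.subset_span ⟨1, rfl⟩)
    · exact Submodule.smul_mem _ _ (Submodule.subset_span ⟨2, rfl⟩)
  have h1 := LinearMap.finrank_range_add_finrank_ker Φ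
  rw [Module.finrank_prod] at h1
  have h3 := Submodule.finrank_mono hker
  have h4 : finrank K (Submodule.span K (Set.range ![((b₁ : P), (0 : P)), (b₂, b₁), (0, b₂)]))
      ≤ 3 := by
    have h4 := finrank_range_le_card (R := K) ![((b₁ : P), (0 : P)), (b₂, b₁), (0, b₂)]
    rw [Fintype.card_fin] at h4
    exact h4
  have h5 : LinearMap.range Φ ≤ LinearMap.range (act s - 1) := LinearMap.range_comp_le_range _ _
  have h6 := Submodule.finrank_mono h5
  omega

/-- **(4)** -/
theorem false (h : SFlat p χ s act E F) : False := by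
  haveI : Finite ((P ⊗[K] P) ⊗[K] X) := finV
  have hq : 1 < Nat.card K := PFlat.one_lt_q K
  have h1 := h.card_E
  have h2 := h.card_range
  have h3 := h.rank_s
  have h4 := h.flat.rk s
  have h5 := h.flat.four
  have h6 := h.flat.pf
  have hd := h.d
  have hd3 := h.d3
  rw [Module.natCard_eq_pow_finrank (K := K) (V := E),
    Module.natCard_eq_pow_finrank (K := K) (V := F)] at h1
  rw [Module.natCard_eq_pow_finrank (K := K) (V := E),
    Module.natCard_eq_pow_finrank (K := K) (V := F),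
    Module.natCard_eq_pow_finrank (K := K) (V := LinearMap.range (act s - 1)), ← pow_add] at h4
  have h4' := (Nat.pow_le_pow_iff_right hq).1 h4
  rw [Module.natCard_eq_pow_finrank (K := K) (V := E),
    Module.natCard_eq_pow_finrank (K := K) (V := (P ⊗[K] P) ⊗[K] X)] at h5
  rw [Module.natCard_eq_pow_finrank (K := K) (V := E),
    Module.natCard_eq_pow_finrank (K := K) (V := F),
    Module.natCard_eq_pow_finrank (K := K) (V := (P ⊗[K] P) ⊗[K] X), ← pow_mul, ← pow_mul,
    ← pow_add] at h6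
  have h6' := (Nat.pow_le_pow_iff_right hq).1 h6
  set q := Nat.card K with hqd
  set δ := finrank K P with hδ
  set a := finrank K ((P ⊗[K] P) ⊗[K] X) with ha
  set b := finrank K E with hb
  set c := finrank K F with hc
  -- `q ^ b ≤ 2 q ^ (δ - 1 + c)`
  have h7 : q ^ b ≤ 2 * q ^ (δ - 1 + c) := by
    calc q ^ b ≤ Nat.card (Set.range p) * 2 * q ^ c := h1
      _ ≤ q ^ (δ - 1) * 2 * q ^ c := by gcongr
      _ = 2 * q ^ (δ - 1 + c) := by rw [pow_add]; ring
  have hab : b < a := by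
    by_contra hc
    push Not at hc
    have : q ^ a ≤ q ^ b := Nat.pow_le_pow_right (by omega) hc
    have h0 : 0 < q ^ b := pow_pos (by omega) _
    omega
  have h8 : b ≤ δ + c := by
    have : q ^ b ≤ q ^ (δ - 1 + c + 1) := by
      calc q ^ b ≤ 2 * q ^ (δ - 1 + c) := h7
        _ ≤ q * q ^ (δ - 1 + c) := by gcongr; omega
        _ = q ^ (δ - 1 + c + 1) := by rw [pow_succ]; ring
    have := (Nat.pow_le_pow_iff_right hq).1 this
    omega
  by_cases hq2 : q = 2
  · have h9 := hd3 hq2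
    have h10 : b + 2 ≤ a := by
      rw [hq2] at h5
      have : 2 ^ (b + 2) ≤ 2 ^ a := by
        calc 2 ^ (b + 2) = 4 * 2 ^ b := by rw [pow_add]; ring
          _ ≤ _ := h5
      exact (Nat.pow_le_pow_iff_right (by norm_num)).1 this
    omega
  · -- `q ≥ 3`: `b ≤ δ - 1 + c`
    have h9 : b ≤ δ - 1 + c := by
      by_contra hcon
      push Not at hcon
      have h10 : q ^ (δ - 1 + c + 1) ≤ q ^ b := Nat.pow_le_pow_right (by omega) hcon
      rw [pow_succ] at h10
      have h0 : 0 < q ^ (δ - 1 + c) := pow_pos (by omega) _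
      have h11 : q ^ (δ - 1 + c) * q ≤ 2 * q ^ (δ - 1 + c) := h10.trans h7
      have h12 : q ≤ 2 := by
        by_contra h13
        push Not at h13
        nlinarith
      omega
    omega

end SFlat

end Cfsg.Agent.Omega.NO1.Comp
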