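import Cfsg.Agent.Omega.NO1.Comp.Pure

/-!
# Three tensor factors and a swap (project OMEGA, N1, THEOREM COMP #17539, part (II)(c); helper168)

`V = A ⊗ (B ⊗ X)` over a field `K`.

* `pure3` : an additive semilinear bijection which normalises the groups acting on `A` and on `B` (and nothing else) is
  `α ⊗ β ⊗ γ`.
* `swap3` : one that interchanges them is `a ⊗ b ⊗ x ↦ β b ⊗ α a ⊗ γ x`.
* `norm_form` (`K` finite, characteristic 2): an elementary abelian group `U` of linear maps of `V`, `U₁ ≤ U` consisting of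
  pure tensors, `s ∈ U` of swap type: `V ≃ A ⊗ (A ⊗ X)` with `s = swap ⊗ sX` and `u = u₊ ⊗ u₊ ⊗ uX` for `u ∈ U₁`.
-/

set_option autoImplicit false
set_option linter.unusedSectionVars false

namespace Cfsg.Agent.Omega.NO1.Comp.Swap

open TensorProduct Cfsg.Agent.Omega.NO1.Comp.Pure

section three

variable {K : Type*} [Field K] {A B X A' B' X' : Type*} [AddCommGroup A] [Module K A] [AddCommGroup B] [Module K B]
  [AddCommGroup X] [Module K X] [AddCommGroup A'] [Module K A'] [AddCommGroup B'] [Module K B']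
  [AddCommGroup X'] [Module K X'] [FiniteDimensional K B'] [FiniteDimensional K X']
  {I J : Type*}

theorem tmul_right_inj {a : A} (ha : a ≠ 0) {x y : B} (h : a ⊗ₜ[K] x = a ⊗ₜ[K] y) : x = y := by
  obtain ⟨φ, hφ⟩ := exists_dual (K := K) ha
  have := congrArg (con' φ) h
  rwa [con'_tmul, con'_tmul, hφ, one_smul, one_smul] at this

/-- **three factors** -/
theorem pure3 [Nontrivial A] [Nontrivial B] [Nontrivial X] (σ : K ≃+* K)
    (s : A ⊗[K] (B ⊗[K] X) ≃+ A' ⊗[K] (B' ⊗[K] X'))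
    (hs : ∀ (k : K) (x), s (k • x) = σ k • s x)
    (ρ : I → A →ₗ[K] A) (ρ' : I → A' →ₗ[K] A') (τ : J → B →ₗ[K] B) (τ' : J → B' →ₗ[K] B')
    (hi : ∀ i x, s ((ρ i).rTensor (B ⊗[K] X) x) = (ρ' i).rTensor (B' ⊗[K] X') (s x))
    (hj : ∀ j x, s (((τ j).rTensor X).lTensor A x) = ((τ' j).rTensor X').lTensor A' (s x))
    (irr : ∀ N : Submodule K A, (∀ i, ∀ a ∈ N, ρ i a ∈ N) → N = ⊥ ∨ N = ⊤)
    (irr' : ∀ N : Submodule K A', (∀ i, ∀ a ∈ N, ρ' i a ∈ N) → N = ⊥ ∨ N = ⊤)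
    (sc : ∀ f : A' →ₗ[K] A', (∀ i x, f (ρ' i x) = ρ' i (f x)) → ∃ k : K, ∀ x, f x = k • x)
    (irrB : ∀ N : Submodule K B, (∀ i, ∀ a ∈ N, τ i a ∈ N) → N = ⊥ ∨ N = ⊤)
    (irrB' : ∀ N : Submodule K B', (∀ i, ∀ a ∈ N, τ' i a ∈ N) → N = ⊥ ∨ N = ⊤)
    (scB : ∀ f : B' →ₗ[K] B', (∀ i x, f (τ' i x) = τ' i (f x)) → ∃ k : K, ∀ x, f x = k • x) :
    ∃ (α : A ≃+ A') (β : B ≃+ B') (γ : X ≃+ X'), (∀ (k : K) (a), α (k • a) = σ k • α a) ∧
      (∀ (k : K) (b), β (k • b) = σ k • β b) ∧ (∀ (k : K) (b), γ (k • b) = σ k • γ b) ∧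
      ∀ a b x, s (a ⊗ₜ (b ⊗ₜ x)) = α a ⊗ₜ (β b ⊗ₜ γ x) := by
  obtain ⟨α, ψ, hα, hψ, hs1, -⟩ := pure σ s hs ρ ρ' hi irr irr' sc
  obtain ⟨a₀, ha₀⟩ := exists_ne (0 : A)
  have hα₀ : α a₀ ≠ 0 := fun h => ha₀ (α.injective (by rw [h, map_zero]))
  obtain ⟨β, γ, hβ, hγ, hs2, -⟩ := pure σ ψ hψ τ τ' (fun j x => by
    apply tmul_right_inj (K := K) hα₀
    have e1 := hj j (a₀ ⊗ₜ[K] x)
    rw [LinearMap.lTensor_tmul, hs1, hs1, LinearMap.lTensor_tmul] at e1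
    exact e1) irrB irrB' scB
  exact ⟨α, β, γ, hα, hβ, hγ, fun a b x => by rw [hs1, hs2]⟩

/-- **swap** -/
theorem swap3 [Nontrivial A] [Nontrivial B] [Nontrivial X] [FiniteDimensional K A'] (σ : K ≃+* K)
    (s : A ⊗[K] (B ⊗[K] X) ≃+ A' ⊗[K] (B' ⊗[K] X'))
    (hs : ∀ (k : K) (x), s (k • x) = σ k • s x)
    (ρ : I → A →ₗ[K] A) (τ' : I → B' →ₗ[K] B') (τ : J → B →ₗ[K] B) (ρ' : J → A' →ₗ[K] A')
    (hi : ∀ i x, s ((ρ i).rTensor (B ⊗[K] X) x) = ((τ' i).rTensor X').lTensor A' (s x))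
    (hj : ∀ j x, s (((τ j).rTensor X).lTensor A x) = (ρ' j).rTensor (B' ⊗[K] X') (s x))
    (irr : ∀ N : Submodule K A, (∀ i, ∀ a ∈ N, ρ i a ∈ N) → N = ⊥ ∨ N = ⊤)
    (irr' : ∀ N : Submodule K B', (∀ i, ∀ a ∈ N, τ' i a ∈ N) → N = ⊥ ∨ N = ⊤)
    (sc : ∀ f : B' →ₗ[K] B', (∀ i x, f (τ' i x) = τ' i (f x)) → ∃ k : K, ∀ x, f x = k • x)
    (irrB : ∀ N : Submodule K B, (∀ i, ∀ a ∈ N, τ i a ∈ N) → N = ⊥ ∨ N = ⊤)
    (irrB' : ∀ N : Submodule K A', (∀ i, ∀ a ∈ N, ρ' i a ∈ N) → N = ⊥ ∨ N = ⊤)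
    (scB : ∀ f : A' →ₗ[K] A', (∀ i x, f (ρ' i x) = ρ' i (f x)) → ∃ k : K, ∀ x, f x = k • x) :
    ∃ (α : A ≃+ B') (β : B ≃+ A') (γ : X ≃+ X'), (∀ (k : K) (a), α (k • a) = σ k • α a) ∧
      (∀ (k : K) (b), β (k • b) = σ k • β b) ∧ (∀ (k : K) (b), γ (k • b) = σ k • γ b) ∧
      ∀ a b x, s (a ⊗ₜ (b ⊗ₜ x)) = β b ⊗ₜ (α a ⊗ₜ γ x) := by
  let lc : A' ⊗[K] (B' ⊗[K] X') ≃ₗ[K] B' ⊗[K] (A' ⊗[K] X') := TensorProduct.leftComm K A' B' X'
  have l1 : ∀ (f : B' →ₗ[K] B') (x : A' ⊗[K] (B' ⊗[K] X')), lc ((f.rTensor X').lTensor A' x) =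
      f.rTensor (A' ⊗[K] X') (lc x) := by
    intro f x
    induction x with
    | zero => simp
    | tmul a y =>
      induction y with
      | zero => simp
      | tmul b z => simp [lc]
      | add y z hy hz => rw [TensorProduct.tmul_add, map_add, map_add, map_add, map_add, hy, hz]
    | add x y hx hy => rw [map_add, map_add, map_add, map_add, hx, hy]
  have l2 : ∀ (f : A' →ₗ[K] A') (x : A' ⊗[K] (B' ⊗[K] X')), lc (f.rTensor (B' ⊗[K] X') x) =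
      (f.rTensor X').lTensor B' (lc x) := by
    intro f x
    induction x with
    | zero => simp
    | tmul a y =>
      induction y with
      | zero => simp
      | tmul b z => simp [lc]
      | add y z hy hz => rw [TensorProduct.tmul_add, map_add, map_add, map_add, map_add, hy, hz]
    | add x y hx hy => rw [map_add, map_add, map_add, map_add, hx, hy]
  obtain ⟨α, β, γ, h1, h2, h3, h4⟩ := pure3 σ (s.trans lc.toAddEquiv) (fun k x => by
      change lc (s (k • x)) = σ k • lc (s x)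
      rw [hs, map_smul]) ρ τ' τ ρ'
    (fun i x => by
      change lc (s _) = (τ' i).rTensor _ (lc (s x))
      rw [hi, l1])
    (fun j x => by
      change lc (s _) = ((ρ' j).rTensor _).lTensor _ (lc (s x))
      rw [hj, l2]) irr irr' sc irrB irrB' scB
  refine ⟨α, β, γ, h1, h2, h3, fun a b x => ?_⟩
  apply lc.injective
  have := h4 a b x
  change lc (s (a ⊗ₜ (b ⊗ₜ x))) = α a ⊗ₜ (β b ⊗ₜ γ x) at this
  rw [this]
  rfl

end three

section norm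

variable {K : Type*} [Field K] [Finite K] [CharP K 2] {A B X V : Type*} [AddCommGroup A] [Module K A]
  [AddCommGroup B] [Module K B] [AddCommGroup X] [Module K X] [AddCommGroup V] [Module K V]
  [Nontrivial A] [Nontrivial B] [Nontrivial X]

/-- transport of a homomorphism -/
noncomputable def tr {W : Type*} [AddCommGroup W] [Module K W] (ψ : W ≃ₗ[K] V) {U : Type*} [Group U]
    (r : U →* Module.End K V) : U →* Module.End K W where
  toFun u := ψ.symm.toLinearMap ∘ₗ r u ∘ₗ ψ.toLinearMap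
  map_one' := by
    ext w
    simp
  map_mul' u v := by
    ext w
    simp

theorem tr_apply {W : Type*} [AddCommGroup W] [Module K W] (ψ : W ≃ₗ[K] V) {U : Type*} [Group U]
    (r : U →* Module.End K V) (u : U) (w : W) : ψ (tr ψ r u w) = r u (ψ w) := by
  simp [tr]

/-- two factors: an elementary abelian group of pure tensors on `V` -/
theorem exists_hom_V (φ : A ⊗[K] B ≃ₗ[K] V) {U : Type*} [Group U] (r : U →* Module.End K V)
    (h2 : ∀ u : U, u * u = 1)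
    (hp : ∀ u : U, ∃ (α : A →ₗ[K] A) (β : B →ₗ[K] B), ∀ a b, r u (φ (a ⊗ₜ b)) = φ (α a ⊗ₜ β b)) :
    ∃ (rA : U →* Module.End K A) (rB : U →* Module.End K B),
      ∀ u a b, r u (φ (a ⊗ₜ b)) = φ (rA u a ⊗ₜ rB u b) := by
  obtain ⟨rA, rB, h⟩ := exists_hom (tr φ r) h2 (fun u => by
    obtain ⟨α, β, h⟩ := hp u
    exact ⟨α, β, fun a b => φ.injective (by rw [tr_apply, h])⟩)
  exact ⟨rA, rB, fun u a b => by rw [← tr_apply, h]⟩

/-- three factors -/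
theorem exists_hom3 (φ : A ⊗[K] (B ⊗[K] X) ≃ₗ[K] V) {U : Type*} [Group U] (r : U →* Module.End K V)
    (h2 : ∀ u : U, u * u = 1)
    (hp : ∀ u : U, ∃ (α : A →ₗ[K] A) (β : B →ₗ[K] B) (γ : X →ₗ[K] X),
      ∀ a b x, r u (φ (a ⊗ₜ (b ⊗ₜ x))) = φ (α a ⊗ₜ (β b ⊗ₜ γ x))) :
    ∃ (rA : U →* Module.End K A) (rB : U →* Module.End K B) (rX : U →* Module.End K X),
      ∀ u a b x, r u (φ (a ⊗ₜ (b ⊗ₜ x))) = φ (rA u a ⊗ₜ (rB u b ⊗ₜ rX u x)) := by
  obtain ⟨rA, rBX, h⟩ := exists_hom_V φ r h2 (fun u => by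
    obtain ⟨α, β, γ, h⟩ := hp u
    refine ⟨α, TensorProduct.map β γ, fun a y => ?_⟩
    induction y with
    | zero => simp
    | tmul b x => rw [h]; simp
    | add x y hx hy => rw [TensorProduct.tmul_add, map_add, map_add, hx, hy, map_add, TensorProduct.tmul_add, map_add])
  have hinv : ∀ (u : U) (a : A), rA u (rA u a) = a := fun u a => by
    rw [← Module.End.mul_apply, ← map_mul, h2, map_one, Module.End.one_apply]
  have hinv' : ∀ (u : U) (y : B ⊗[K] X), rBX u (rBX u y) = y := fun u y => by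
    rw [← Module.End.mul_apply, ← map_mul, h2, map_one, Module.End.one_apply]
  obtain ⟨b₀, hb₀⟩ := exists_ne (0 : B)
  obtain ⟨x₀, hx₀⟩ := exists_ne (0 : X)
  have : Nontrivial (B ⊗[K] X) := ⟨⟨b₀ ⊗ₜ x₀, 0, tmul_ne_zero hb₀ hx₀⟩⟩
  obtain ⟨rB, rX, h'⟩ := exists_hom rBX h2 (fun u => by
    obtain ⟨α, β, γ, h1⟩ := hp u
    obtain ⟨k, hk0, hk1, hk2⟩ := scal (K := K) (α := rA u) (β := rBX u) (α' := α) (β' := TensorProduct.map β γ)
      (Function.LeftInverse.injective (hinv u)) (Function.LeftInverse.injective (hinv' u)) (fun a y => by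
        apply φ.injective
        rw [← h]
        induction y with
        | zero => simp
        | tmul b x => rw [h1]; simp
        | add x y hx hy =>
          rw [TensorProduct.tmul_add, map_add, map_add, hx, hy, map_add, TensorProduct.tmul_add, map_add])
    refine ⟨k⁻¹ • β, γ, fun b x => ?_⟩
    have h3 := hk2 (b ⊗ₜ x)
    rw [TensorProduct.map_tmul] at h3
    rw [LinearMap.smul_apply, ← TensorProduct.smul_tmul', h3, smul_smul, inv_mul_cancel₀ hk0, one_smul])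
  exact ⟨rA, rB, rX, fun u a b x => by rw [h, h']⟩

/-- **the normal form with a swap** (with the form of `ψ`) -/
theorem norm_form' (φ : A ⊗[K] (B ⊗[K] X) ≃ₗ[K] V) {U : Type*} [Group U] (r : U →* Module.End K V)
    (h2 : ∀ u : U, u * u = 1) (U₁ : Subgroup U) (s : U)
    (hp : ∀ u ∈ U₁, ∃ (α : A →ₗ[K] A) (β : B →ₗ[K] B) (γ : X →ₗ[K] X),
      ∀ a b x, r u (φ (a ⊗ₜ (b ⊗ₜ x))) = φ (α a ⊗ₜ (β b ⊗ₜ γ x)))
    (α : A ≃ₗ[K] B) (β : B →ₗ[K] A) (γ : X →ₗ[K] X)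
    (hsw : ∀ a b x, r s (φ (a ⊗ₜ (b ⊗ₜ x))) = φ (β b ⊗ₜ (α a ⊗ₜ γ x))) :
    ∃ (ψ : A ⊗[K] (A ⊗[K] X) ≃ₗ[K] V) (rA : U₁ →* Module.End K A) (rX : U₁ →* Module.End K X)
      (sX : Module.End K X),
      (∀ (u : U₁) a a' x, r u (ψ (a ⊗ₜ (a' ⊗ₜ x))) = ψ (rA u a ⊗ₜ (rA u a' ⊗ₜ rX u x))) ∧
      (∀ a a' x, r s (ψ (a ⊗ₜ (a' ⊗ₜ x))) = ψ (a' ⊗ₜ (a ⊗ₜ sX x))) ∧ sX * sX = 1 ∧
      (∀ u, sX * rX u = rX u * sX) ∧ ∀ a a' x, ψ (a ⊗ₜ (a' ⊗ₜ x)) = φ (a ⊗ₜ (α a' ⊗ₜ x)) := by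
  obtain ⟨a₀, ha₀⟩ := exists_ne (0 : A)
  obtain ⟨b₀, hb₀⟩ := exists_ne (0 : B)
  obtain ⟨x₀, hx₀⟩ := exists_ne (0 : X)
  have : Nontrivial (B ⊗[K] X) := ⟨⟨b₀ ⊗ₜ x₀, 0, tmul_ne_zero hb₀ hx₀⟩⟩
  have hrr : ∀ v, r s (r s v) = v := fun v => by
    rw [← Module.End.mul_apply, ← map_mul, h2, map_one, Module.End.one_apply]
  -- β ∘ α is a scalar
  obtain ⟨k, hk0, hk1, -⟩ := scal (K := K) (α := LinearMap.id) (β := LinearMap.id) (α' := β ∘ₗ α.toLinearMap)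
    (β' := TensorProduct.map (α.toLinearMap ∘ₗ β) (γ ∘ₗ γ)) Function.injective_id Function.injective_id (fun a y => by
      apply φ.injective
      induction y with
      | zero => simp
      | tmul b x =>
        have := hrr (φ (a ⊗ₜ (b ⊗ₜ x)))
        rw [hsw, hsw] at this
        simpa using this.symm
      | add x y hx hy =>
        simp only [map_add, TensorProduct.tmul_add] at hx hy ⊢
        rw [hx, hy])
  have hβα : ∀ a, β (α a) = k⁻¹ • a := fun a => by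
    have h3 := hk1 a
    simp only [LinearMap.id_coe, id_eq, LinearMap.coe_comp, LinearEquiv.coe_coe, Function.comp_apply] at h3
    rw [show k⁻¹ • a = k⁻¹ • (k • β (α a)) from by rw [← h3], smul_smul, inv_mul_cancel₀ hk0, one_smul]
  let ψ : A ⊗[K] (A ⊗[K] X) ≃ₗ[K] V :=
    (TensorProduct.congr (LinearEquiv.refl K A) (TensorProduct.congr α (LinearEquiv.refl K X))).trans φ
  have hψ : ∀ a a' x, ψ (a ⊗ₜ (a' ⊗ₜ x)) = φ (a ⊗ₜ (α a' ⊗ₜ x)) := fun a a' x => rfl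
  let sX : Module.End K X := k⁻¹ • γ
  have hsX : ∀ a a' x, r s (ψ (a ⊗ₜ (a' ⊗ₜ x))) = ψ (a' ⊗ₜ (a ⊗ₜ sX x)) := fun a a' x => by
    rw [hψ, hsw, hβα, hψ, ← TensorProduct.smul_tmul']
    simp only [sX, LinearMap.smul_apply, TensorProduct.tmul_smul]
  have tinj : ∀ x y : X, ψ (a₀ ⊗ₜ (a₀ ⊗ₜ x)) = ψ (a₀ ⊗ₜ (a₀ ⊗ₜ y)) → x = y := fun x y h =>
    tmul_right_inj ha₀ (tmul_right_inj ha₀ (ψ.injective h))
  have hsX2 : sX * sX = 1 := by
    apply LinearMap.ext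
    intro x
    apply tinj
    rw [Module.End.mul_apply, ← hsX, ← hsX, hrr]
    rfl
  obtain ⟨rA, rA', rX, hr⟩ := exists_hom3 ψ (r.comp U₁.subtype) (fun u => Subtype.ext (h2 u)) (fun u => by
    obtain ⟨α₁, β₁, γ₁, h1⟩ := hp u u.2
    refine ⟨α₁, α.symm.toLinearMap ∘ₗ β₁ ∘ₗ α.toLinearMap, γ₁, fun a b x => ?_⟩
    rw [hψ, hψ]
    change r u _ = _
    rw [h1]
    simp)
  have hr' : ∀ (u : U₁) a a' x, r u (ψ (a ⊗ₜ (a' ⊗ₜ x))) = ψ (rA u a ⊗ₜ (rA' u a' ⊗ₜ rX u x)) := hr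
  have hc : ∀ u : U₁, ∀ v, r s (r u v) = r u (r s v) := fun u v => by
    rw [← Module.End.mul_apply, ← map_mul, ← Module.End.mul_apply, ← map_mul]
    have hcomm : s * u = u * s := by
      have h3 : s⁻¹ = s := inv_eq_of_mul_eq_one_left (h2 s)
      have h4 : (u : U)⁻¹ = u := inv_eq_of_mul_eq_one_left (h2 u)
      have h5 : (s * (u : U))⁻¹ = s * u := inv_eq_of_mul_eq_one_left (h2 (s * u))
      calc s * (u : U) = (s * u)⁻¹ := h5.symm
        _ = u * s := by rw [mul_inv_rev, h3, h4]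
    rw [hcomm]
  have hA2 : ∀ (u : U₁) a, rA u (rA u a) = a := fun u a => by
    rw [← Module.End.mul_apply, ← map_mul, show u * u = 1 from Subtype.ext (h2 u), map_one, Module.End.one_apply]
  have hA2' : ∀ (u : U₁) a, rA' u (rA' u a) = a := fun u a => by
    rw [← Module.End.mul_apply, ← map_mul, show u * u = 1 from Subtype.ext (h2 u), map_one, Module.End.one_apply]
  have hX2 : ∀ (u : U₁) a, rX u (rX u a) = a := fun u a => by
    rw [← Module.End.mul_apply, ← map_mul, show u * u = 1 from Subtype.ext (h2 u), map_one, Module.End.one_apply]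
  have hsX2' : ∀ x, sX (sX x) = x := fun x => by rw [← Module.End.mul_apply, hsX2, Module.End.one_apply]
  have main : ∀ (u : U₁) a a' x, rA' u a' ⊗ₜ[K] (rA u a ⊗ₜ[K] sX (rX u x)) =
      rA u a' ⊗ₜ[K] (rA' u a ⊗ₜ[K] rX u (sX x)) := fun u a a' x => by
    apply ψ.injective
    rw [← hsX, ← hr', hc, hsX, hr']
  have heq : ∀ u, rA' u = rA u := by
    intro u
    have : Nontrivial (A ⊗[K] X) := ⟨⟨a₀ ⊗ₜ x₀, 0, tmul_ne_zero ha₀ hx₀⟩⟩
    obtain ⟨m, hm0, hm1, hm2⟩ := scal (K := K) (α := rA' u) (α' := rA u)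
      (β := TensorProduct.map (rA u) (sX * rX u)) (β' := TensorProduct.map (rA' u) (rX u * sX))
      (Function.LeftInverse.injective (hA2' u)) (by
        apply Function.LeftInverse.injective (g := TensorProduct.map (rA u) (rX u * sX))
        intro y
        rw [← LinearMap.comp_apply, ← TensorProduct.map_comp]
        have e1 : rA u ∘ₗ rA u = LinearMap.id := LinearMap.ext (hA2 u)
        have e2 : (rX u * sX) ∘ₗ (sX * rX u) = LinearMap.id := LinearMap.ext fun x => by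
          simp only [LinearMap.coe_comp, Function.comp_apply, Module.End.mul_apply, LinearMap.id_coe, id_eq]
          rw [hsX2', hX2]
        rw [e1, e2, TensorProduct.map_id]; rfl) (fun a y => by
        induction y with
        | zero => simp
        | tmul b x => simpa using main u b a x
        | add x y hx hy => simp only [map_add, TensorProduct.tmul_add, hx, hy])
    have hm : m * m = 1 := by
      have h5 : (m * m) • a₀ = a₀ := by
        calc (m * m) • a₀ = m • m • rA u (rA u a₀) := by rw [hA2, smul_smul]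
          _ = m • rA u (m • rA u a₀) := by rw [map_smul]
          _ = rA' u (rA' u a₀) := by rw [hm1 (rA' u a₀), hm1 a₀]
          _ = a₀ := hA2' u a₀
      by_contra hne
      have h6 : (m * m - 1) • a₀ = 0 := by rw [sub_smul, h5, one_smul, sub_self]
      rcases smul_eq_zero.1 h6 with h7 | h7
      · exact hne (sub_eq_zero.1 h7)
      · exact ha₀ h7
    have := sq_eq_one hm
    subst this
    exact LinearMap.ext fun a => by rw [hm1, one_smul]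
  refine ⟨ψ, rA, rX, sX, fun u a a' x => by rw [hr', heq], hsX, hsX2, fun u => LinearMap.ext fun x => ?_, hψ⟩
  have h7 := main u a₀ a₀ x
  rw [heq] at h7
  have h8 : rA u a₀ ≠ 0 := fun h => ha₀ (by rw [← hA2 u a₀, h, map_zero])
  exact tmul_right_inj h8 (tmul_right_inj h8 h7)

/-- **the normal form with a swap** -/
theorem norm_form (φ : A ⊗[K] (B ⊗[K] X) ≃ₗ[K] V) {U : Type*} [Group U] (r : U →* Module.End K V)
    (h2 : ∀ u : U, u * u = 1) (U₁ : Subgroup U) (s : U)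
    (hp : ∀ u ∈ U₁, ∃ (α : A →ₗ[K] A) (β : B →ₗ[K] B) (γ : X →ₗ[K] X),
      ∀ a b x, r u (φ (a ⊗ₜ (b ⊗ₜ x))) = φ (α a ⊗ₜ (β b ⊗ₜ γ x)))
    (α : A ≃ₗ[K] B) (β : B →ₗ[K] A) (γ : X →ₗ[K] X)
    (hsw : ∀ a b x, r s (φ (a ⊗ₜ (b ⊗ₜ x))) = φ (β b ⊗ₜ (α a ⊗ₜ γ x))) :
    ∃ (ψ : A ⊗[K] (A ⊗[K] X) ≃ₗ[K] V) (rA : U₁ →* Module.End K A) (rX : U₁ →* Module.End K X)
      (sX : Module.End K X),
      (∀ (u : U₁) a a' x, r u (ψ (a ⊗ₜ (a' ⊗ₜ x))) = ψ (rA u a ⊗ₜ (rA u a' ⊗ₜ rX u x))) ∧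
      (∀ a a' x, r s (ψ (a ⊗ₜ (a' ⊗ₜ x))) = ψ (a' ⊗ₜ (a ⊗ₜ sX x))) ∧ sX * sX = 1 ∧
      ∀ u, sX * rX u = rX u * sX := by
  obtain ⟨ψ, rA, rX, sX, h1, h3, h4, h5, -⟩ := norm_form' φ r h2 U₁ s hp α β γ hsw
  exact ⟨ψ, rA, rX, sX, h1, h3, h4, h5⟩

end norm

end Cfsg.Agent.Omega.NO1.Comp.Swap
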