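import Cfsg.Agent.Omega.NO1.Comp.Tens
import Cfsg.Agent.Omega.NO1.Comp.Swap

/-!
# From the tensor decomposition `Dec` to pure tensors (project OMEGA, N1, THEOREM COMP #17539, part (II); helper168)

* `Dec.exists_pure` : a semilinear bijection of `V` which normalises `L` is a pure tensor.
* `Dec.exists_homs` : an elementary abelian 2-group of linear maps normalising `L` acts through two homomorphisms.
* `Dec3`, `exists_dec3` : three commuting sets.
* `exists_four` : `U` elementary abelian, `U₁ ≤ U` normalises `N₁`, `N₂`, `s ∈ U` interchanges them: the input of (4).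
-/

set_option autoImplicit false
set_option linter.unusedSectionVars false

namespace Cfsg.Agent.Omega.NO1.Comp

open Module TensorProduct

universe u

section two

variable {K V : Type u} [Field K] [AddCommGroup V] [Module K V] {L C : Set (Module.End K V)}
  {W W' : Type u} [AddCommGroup W] [Module K W] [AddCommGroup W'] [Module K W']

theorem Dec.hl' (D : Dec L C W W') {l : Module.End K V} (hl : l ∈ L) (x : W ⊗[K] W') :
    l (D.φ x) = D.φ ((D.ρ l).rTensor W' x) := by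
  induction x with
  | zero => simp
  | tmul a b => rw [D.hl l hl]; rfl
  | add x y hx hy => simp only [map_add, hx, hy]

theorem Dec.hc' (D : Dec L C W W') {l : Module.End K V} (hl : l ∈ C) (x : W ⊗[K] W') :
    l (D.φ x) = D.φ ((D.ρ' l).lTensor W x) := by
  induction x with
  | zero => simp
  | tmul a b => rw [D.hc l hl]; rfl
  | add x y hx hy => simp only [map_add, hx, hy]

/-- **a semilinear bijection normalising `L` is a pure tensor** -/
theorem Dec.exists_pure (D : Dec L C W W') (h : Two L C) (σ : K ≃+* K) (g : V ≃+ V)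
    (hg : ∀ (k : K) (v), g (k • v) = σ k • g v)
    (hn : ∀ l ∈ L, ∃ l' ∈ L, ∀ v, g (l v) = l' (g v))
    (hn' : ∀ l' ∈ L, ∃ l ∈ L, ∀ v, g (l v) = l' (g v)) :
    ∃ (α : W ≃+ W) (β : W' ≃+ W'), (∀ (k : K) (a), α (k • a) = σ k • α a) ∧
      (∀ (k : K) (b), β (k • b) = σ k • β b) ∧
      (∀ w w', g (D.φ (w ⊗ₜ w')) = D.φ (α w ⊗ₜ β w')) ∧
      ∀ l ∈ L, ∀ l' ∈ L, (∀ v, g (l v) = l' (g v)) → ∀ w, α (D.ρ l w) = D.ρ l' (α w) := by
  have := D.finL
  have := D.finR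
  have := D.neL
  have := D.neR
  have : Module.Finite K W' := Module.Finite.of_finite
  let I := {p : Module.End K V × Module.End K V // p.1 ∈ L ∧ p.2 ∈ L ∧ ∀ v, g (p.1 v) = p.2 (g v)}
  let s : W ⊗[K] W' ≃+ W ⊗[K] W' := (D.φ.toAddEquiv.trans g).trans D.φ.symm.toAddEquiv
  have hs : ∀ x, D.φ (s x) = g (D.φ x) := fun x => D.φ.apply_symm_apply _
  obtain ⟨α, β, h1, h2, h3, h4⟩ := Pure.pure (I := I) σ s
    (fun k x => by
      apply D.φ.injective
      rw [hs, LinearEquiv.map_smul, hg, LinearEquiv.map_smul, hs])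
    (fun i => D.ρ i.1.1) (fun i => D.ρ i.1.2)
    (fun i x => by
      apply D.φ.injective
      rw [hs, ← D.hl' i.2.1, i.2.2.2, ← D.hl' i.2.2.1, hs])
    (fun N hN => D.irr h N fun l hl w hw => by
      obtain ⟨l', hl', h5⟩ := hn l hl
      exact hN ⟨(l, l'), hl, hl', h5⟩ w hw)
    (fun N hN => D.irr h N fun l' hl' w hw => by
      obtain ⟨l, hl, h5⟩ := hn' l' hl'
      exact hN ⟨(l, l'), hl, hl', h5⟩ w hw)
    (fun f hf => D.sch h f fun l' hl' => by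
      obtain ⟨l, hl, h5⟩ := hn' l' hl'
      exact LinearMap.ext fun w => hf ⟨(l, l'), hl, hl', h5⟩ w)
  refine ⟨α, β, h1, h2, fun w w' => ?_, fun l hl l' hl' h5 w => h4 ⟨(l, l'), hl, hl', h5⟩ w⟩
  rw [← hs, h3]

/-- an additive bijection which is `K`-linear, as a linear map -/
def lin (α : W ≃+ W') (h : ∀ (k : K) (a), α (k • a) = k • α a) : W ≃ₗ[K] W' :=
  { α with map_smul' := h }

/-- a linear involution as an additive bijection -/
def inv2 (f : Module.End K V) (h : ∀ v, f (f v) = v) : V ≃+ V where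
  toFun := f
  invFun := f
  left_inv := h
  right_inv := h
  map_add' := map_add f

/-- **an elementary abelian 2-group normalising `L` acts through two homomorphisms** -/
theorem Dec.exists_homs [Finite K] [CharP K 2] (D : Dec L C W W') (h : Two L C) {U : Type*} [Group U]
    (r : U →* Module.End K V) (h2 : ∀ u : U, u * u = 1)
    (hn : ∀ u : U, ∀ l ∈ L, ∃ l' ∈ L, ∀ v, r u (l v) = l' (r u v)) :
    ∃ (rA : U →* Module.End K W) (rB : U →* Module.End K W'),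
      ∀ u x, r u (D.φ x) = D.φ (TensorProduct.map (rA u) (rB u) x) := by
  have := D.neL
  have := D.neR
  have hrr : ∀ u v, r u (r u v) = v := fun u v => by
    rw [← Module.End.mul_apply, ← map_mul, h2, map_one, Module.End.one_apply]
  obtain ⟨rA, rB, h3⟩ := Swap.exists_hom_V D.φ r h2 (fun u => by
    obtain ⟨α, β, h4, h5, h6, -⟩ := D.exists_pure h (RingEquiv.refl K) (inv2 (r u) (hrr u))
      (fun k v => map_smul (r u) k v) (hn u) (fun l' hl' => by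
        obtain ⟨l, hl, h7⟩ := hn u l' hl'
        refine ⟨l, hl, fun v => ?_⟩
        change r u (l v) = l' (r u v)
        have h8 := h7 (r u v)
        rw [hrr] at h8
        rw [← h8, hrr])
    exact ⟨(lin α h4).toLinearMap, (lin β h5).toLinearMap, h6⟩)
  refine ⟨rA, rB, fun u x => ?_⟩
  induction x with
  | zero => simp
  | tmul a b => rw [h3]; rfl
  | add x y hx hy => simp only [map_add, hx, hy]

end two

section three

variable {K V : Type u} [Field K] [AddCommGroup V] [Module K V] {N₁ N₂ N₃ : Set (Module.End K V)}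

/-- `V = A ⊗ (B ⊗ X)`, `N₁` acts on `A`, `N₂` on `B`, `N₃` on `X`; `A` and `B` absolutely irreducible. -/
structure Dec3 (N₁ N₂ N₃ : Set (Module.End K V)) (A B X : Type u) [AddCommGroup A] [Module K A]
    [AddCommGroup B] [Module K B] [AddCommGroup X] [Module K X] where
  /-- the isomorphism -/
  φ : A ⊗[K] (B ⊗[K] X) ≃ₗ[K] V
  /-- the action of `N₁` on `A` -/
  ρ₁ : Module.End K V → Module.End K A
  /-- the action of `N₂` on `B` -/
  ρ₂ : Module.End K V → Module.End K B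
  /-- the action of `N₃` on `X` -/
  ρ₃ : Module.End K V → Module.End K X
  h₁ : ∀ l ∈ N₁, ∀ x, l (φ x) = φ ((ρ₁ l).rTensor (B ⊗[K] X) x)
  h₂ : ∀ l ∈ N₂, ∀ x, l (φ x) = φ (((ρ₂ l).rTensor X).lTensor A x)
  h₃ : ∀ l ∈ N₃, ∀ x, l (φ x) = φ (((ρ₃ l).lTensor B).lTensor A x)
  irr₁ : ∀ U : Submodule K A, (∀ l ∈ N₁, ∀ w ∈ U, ρ₁ l w ∈ U) → U = ⊥ ∨ U = ⊤
  irr₂ : ∀ U : Submodule K B, (∀ l ∈ N₂, ∀ w ∈ U, ρ₂ l w ∈ U) → U = ⊥ ∨ U = ⊤
  sch₁ : ∀ f : Module.End K A, (∀ l ∈ N₁, f * ρ₁ l = ρ₁ l * f) → ∃ k : K, ∀ w, f w = k • w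
  sch₂ : ∀ f : Module.End K B, (∀ l ∈ N₂, f * ρ₂ l = ρ₂ l * f) → ∃ k : K, ∀ w, f w = k • w
  finA : Finite A
  finB : Finite B
  finX : Finite X
  neA : Nontrivial A
  neB : Nontrivial B
  neX : Nontrivial X

theorem exists_dec3 [Finite V] [Nontrivial V] (h : Two N₁ (N₂ ∪ N₃)) (hc : ∀ l ∈ N₂, ∀ c ∈ N₃, l * c = c * l) :
    ∃ (A B X : Type u) (_ : AddCommGroup A) (_ : Module K A) (_ : AddCommGroup B) (_ : Module K B)
      (_ : AddCommGroup X) (_ : Module K X), Nonempty (Dec3 N₁ N₂ N₃ A B X) := by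
  obtain ⟨A, M, _, _, _, _, ⟨D⟩⟩ := exists_dec h
  have := D.finL
  have := D.finR
  have := D.neL
  have := D.neR
  obtain ⟨a₀, ha₀⟩ := exists_ne (0 : A)
  have hT : Two (D.ρ' '' N₂) (D.ρ' '' N₃) := by
    refine ⟨?_, ?_, ?_⟩
    · rintro _ ⟨l, hl, rfl⟩ _ ⟨c, hc', rfl⟩
      apply LinearMap.ext
      intro m
      apply D.inj_right ha₀
      rw [Module.End.mul_apply, Module.End.mul_apply, ← D.hc l (Or.inl hl), ← D.hc c (Or.inr hc'),
        ← D.hc c (Or.inr hc'), ← D.hc l (Or.inl hl), ← Module.End.mul_apply, hc l hl c hc', Module.End.mul_apply]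
    · intro U h1 h2
      refine D.symm.irr h.symm U fun l hl w hw => ?_
      rcases hl with hl | hl
      · exact h1 _ ⟨l, hl, rfl⟩ w hw
      · exact h2 _ ⟨l, hl, rfl⟩ w hw
    · intro f h1 h2
      refine D.symm.sch h.symm f fun l hl => ?_
      rcases hl with hl | hl
      · exact h1 _ ⟨l, hl, rfl⟩
      · exact h2 _ ⟨l, hl, rfl⟩
  obtain ⟨B, X, _, _, _, _, ⟨D₂⟩⟩ := exists_dec hT
  have := D₂.finL
  have := D₂.finR
  have := D₂.neL
  have := D₂.neR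
  let φ : A ⊗[K] (B ⊗[K] X) ≃ₗ[K] V := (TensorProduct.congr (LinearEquiv.refl K A) D₂.φ).trans D.φ
  have hφ : ∀ a y, φ (a ⊗ₜ y) = D.φ (a ⊗ₜ D₂.φ y) := fun a y => rfl
  refine ⟨A, B, X, inferInstance, inferInstance, inferInstance, inferInstance, inferInstance, inferInstance, ⟨?_⟩⟩
  exact
    { φ := φ
      ρ₁ := D.ρ
      ρ₂ := fun l => D₂.ρ (D.ρ' l)
      ρ₃ := fun l => D₂.ρ' (D.ρ' l)
      h₁ := fun l hl x => by
        induction x with
        | zero => simp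
        | tmul a y => rw [hφ, D.hl l hl, LinearMap.rTensor_tmul, hφ]
        | add x y hx hy => simp only [map_add, hx, hy]
      h₂ := fun l hl x => by
        induction x with
        | zero => simp
        | tmul a y =>
          rw [hφ, D.hc l (Or.inl hl), LinearMap.lTensor_tmul, hφ, D₂.hl' ⟨l, hl, rfl⟩]
        | add x y hx hy => simp only [map_add, hx, hy]
      h₃ := fun l hl x => by
        induction x with
        | zero => simp
        | tmul a y =>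
          rw [hφ, D.hc l (Or.inr hl), LinearMap.lTensor_tmul, hφ, D₂.hc' ⟨l, hl, rfl⟩]
        | add x y hx hy => simp only [map_add, hx, hy]
      irr₁ := fun U hU => D.irr h U hU
      irr₂ := fun U hU => D₂.irr hT U fun l hl w hw => by
        obtain ⟨l, hl, rfl⟩ := hl
        exact hU l hl w hw
      sch₁ := fun f hf => D.sch h f hf
      sch₂ := fun f hf => D₂.sch hT f fun l hl => by
        obtain ⟨l, hl, rfl⟩ := hl
        exact hf l hl
      finA := D.finL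
      finB := D₂.finL
      finX := D₂.finR
      neA := D.neL
      neB := D₂.neL
      neX := D₂.neR }

variable {A B X : Type u} [AddCommGroup A] [Module K A] [AddCommGroup B] [Module K B] [AddCommGroup X] [Module K X]

/-- `g` normalises `N₁` and `N₂` -/
theorem Dec3.exists_pure (D : Dec3 N₁ N₂ N₃ A B X) (σ : K ≃+* K) (g : V ≃+ V)
    (hg : ∀ (k : K) (v), g (k • v) = σ k • g v)
    (hn : ∀ l ∈ N₁, ∃ l' ∈ N₁, ∀ v, g (l v) = l' (g v))
    (hn' : ∀ l' ∈ N₁, ∃ l ∈ N₁, ∀ v, g (l v) = l' (g v))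
    (hm : ∀ l ∈ N₂, ∃ l' ∈ N₂, ∀ v, g (l v) = l' (g v))
    (hm' : ∀ l' ∈ N₂, ∃ l ∈ N₂, ∀ v, g (l v) = l' (g v)) :
    ∃ (α : A ≃+ A) (β : B ≃+ B) (γ : X ≃+ X), (∀ (k : K) (a), α (k • a) = σ k • α a) ∧
      (∀ (k : K) (b), β (k • b) = σ k • β b) ∧ (∀ (k : K) (b), γ (k • b) = σ k • γ b) ∧
      ∀ a b x, g (D.φ (a ⊗ₜ (b ⊗ₜ x))) = D.φ (α a ⊗ₜ (β b ⊗ₜ γ x)) := by
  have := D.finA
  have := D.finB
  have := D.finX
  have := D.neA
  have := D.neB
  have := D.neX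
  have : Module.Finite K B := Module.Finite.of_finite
  have : Module.Finite K X := Module.Finite.of_finite
  let I := {p : Module.End K V × Module.End K V // p.1 ∈ N₁ ∧ p.2 ∈ N₁ ∧ ∀ v, g (p.1 v) = p.2 (g v)}
  let J := {p : Module.End K V × Module.End K V // p.1 ∈ N₂ ∧ p.2 ∈ N₂ ∧ ∀ v, g (p.1 v) = p.2 (g v)}
  let s : A ⊗[K] (B ⊗[K] X) ≃+ A ⊗[K] (B ⊗[K] X) := (D.φ.toAddEquiv.trans g).trans D.φ.symm.toAddEquiv
  have hs : ∀ x, D.φ (s x) = g (D.φ x) := fun x => D.φ.apply_symm_apply _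
  obtain ⟨α, β, γ, h1, h2, h3, h4⟩ := Swap.pure3 (I := I) (J := J) σ s
    (fun k x => by
      apply D.φ.injective
      rw [hs, LinearEquiv.map_smul, hg, LinearEquiv.map_smul, hs])
    (fun i => D.ρ₁ i.1.1) (fun i => D.ρ₁ i.1.2) (fun i => D.ρ₂ i.1.1) (fun i => D.ρ₂ i.1.2)
    (fun i x => by
      apply D.φ.injective
      rw [hs, ← D.h₁ _ i.2.1, i.2.2.2, ← D.h₁ _ i.2.2.1, hs])
    (fun i x => by
      apply D.φ.injective
      rw [hs, ← D.h₂ _ i.2.1, i.2.2.2, ← D.h₂ _ i.2.2.1, hs])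
    (fun N hN => D.irr₁ N fun l hl w hw => by
      obtain ⟨l', hl', h5⟩ := hn l hl
      exact hN ⟨(l, l'), hl, hl', h5⟩ w hw)
    (fun N hN => D.irr₁ N fun l' hl' w hw => by
      obtain ⟨l, hl, h5⟩ := hn' l' hl'
      exact hN ⟨(l, l'), hl, hl', h5⟩ w hw)
    (fun f hf => D.sch₁ f fun l' hl' => by
      obtain ⟨l, hl, h5⟩ := hn' l' hl'
      exact LinearMap.ext fun w => hf ⟨(l, l'), hl, hl', h5⟩ w)
    (fun N hN => D.irr₂ N fun l hl w hw => by
      obtain ⟨l', hl', h5⟩ := hm l hl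
      exact hN ⟨(l, l'), hl, hl', h5⟩ w hw)
    (fun N hN => D.irr₂ N fun l' hl' w hw => by
      obtain ⟨l, hl, h5⟩ := hm' l' hl'
      exact hN ⟨(l, l'), hl, hl', h5⟩ w hw)
    (fun f hf => D.sch₂ f fun l' hl' => by
      obtain ⟨l, hl, h5⟩ := hm' l' hl'
      exact LinearMap.ext fun w => hf ⟨(l, l'), hl, hl', h5⟩ w)
  exact ⟨α, β, γ, h1, h2, h3, fun a b x => by rw [← hs, h4]⟩

/-- `g` interchanges `N₁` and `N₂` -/
theorem Dec3.exists_swap (D : Dec3 N₁ N₂ N₃ A B X) (σ : K ≃+* K) (g : V ≃+ V)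
    (hg : ∀ (k : K) (v), g (k • v) = σ k • g v)
    (hn : ∀ l ∈ N₁, ∃ l' ∈ N₂, ∀ v, g (l v) = l' (g v))
    (hn' : ∀ l' ∈ N₂, ∃ l ∈ N₁, ∀ v, g (l v) = l' (g v))
    (hm : ∀ l ∈ N₂, ∃ l' ∈ N₁, ∀ v, g (l v) = l' (g v))
    (hm' : ∀ l' ∈ N₁, ∃ l ∈ N₂, ∀ v, g (l v) = l' (g v)) :
    ∃ (α : A ≃+ B) (β : B ≃+ A) (γ : X ≃+ X), (∀ (k : K) (a), α (k • a) = σ k • α a) ∧
      (∀ (k : K) (b), β (k • b) = σ k • β b) ∧ (∀ (k : K) (b), γ (k • b) = σ k • γ b) ∧
      ∀ a b x, g (D.φ (a ⊗ₜ (b ⊗ₜ x))) = D.φ (β b ⊗ₜ (α a ⊗ₜ γ x)) := by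
  have := D.finA
  have := D.finB
  have := D.finX
  have := D.neA
  have := D.neB
  have := D.neX
  have : Module.Finite K A := Module.Finite.of_finite
  have : Module.Finite K B := Module.Finite.of_finite
  have : Module.Finite K X := Module.Finite.of_finite
  let I := {p : Module.End K V × Module.End K V // p.1 ∈ N₁ ∧ p.2 ∈ N₂ ∧ ∀ v, g (p.1 v) = p.2 (g v)}
  let J := {p : Module.End K V × Module.End K V // p.1 ∈ N₂ ∧ p.2 ∈ N₁ ∧ ∀ v, g (p.1 v) = p.2 (g v)}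
  let s : A ⊗[K] (B ⊗[K] X) ≃+ A ⊗[K] (B ⊗[K] X) := (D.φ.toAddEquiv.trans g).trans D.φ.symm.toAddEquiv
  have hs : ∀ x, D.φ (s x) = g (D.φ x) := fun x => D.φ.apply_symm_apply _
  obtain ⟨α, β, γ, h1, h2, h3, h4⟩ := Swap.swap3 (I := I) (J := J) σ s
    (fun k x => by
      apply D.φ.injective
      rw [hs, LinearEquiv.map_smul, hg, LinearEquiv.map_smul, hs])
    (fun i => D.ρ₁ i.1.1) (fun i => D.ρ₂ i.1.2) (fun i => D.ρ₂ i.1.1) (fun i => D.ρ₁ i.1.2)
    (fun i x => by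
      apply D.φ.injective
      rw [hs, ← D.h₁ _ i.2.1, i.2.2.2, ← D.h₂ _ i.2.2.1, hs])
    (fun i x => by
      apply D.φ.injective
      rw [hs, ← D.h₂ _ i.2.1, i.2.2.2, ← D.h₁ _ i.2.2.1, hs])
    (fun N hN => D.irr₁ N fun l hl w hw => by
      obtain ⟨l', hl', h5⟩ := hn l hl
      exact hN ⟨(l, l'), hl, hl', h5⟩ w hw)
    (fun N hN => D.irr₂ N fun l' hl' w hw => by
      obtain ⟨l, hl, h5⟩ := hn' l' hl'
      exact hN ⟨(l, l'), hl, hl', h5⟩ w hw)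
    (fun f hf => D.sch₂ f fun l' hl' => by
      obtain ⟨l, hl, h5⟩ := hn' l' hl'
      exact LinearMap.ext fun w => hf ⟨(l, l'), hl, hl', h5⟩ w)
    (fun N hN => D.irr₂ N fun l hl w hw => by
      obtain ⟨l', hl', h5⟩ := hm l hl
      exact hN ⟨(l, l'), hl, hl', h5⟩ w hw)
    (fun N hN => D.irr₁ N fun l' hl' w hw => by
      obtain ⟨l, hl, h5⟩ := hm' l' hl'
      exact hN ⟨(l, l'), hl, hl', h5⟩ w hw)
    (fun f hf => D.sch₁ f fun l' hl' => by
      obtain ⟨l, hl, h5⟩ := hm' l' hl'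
      exact LinearMap.ext fun w => hf ⟨(l, l'), hl, hl', h5⟩ w)
  exact ⟨α, β, γ, h1, h2, h3, fun a b x => by rw [← hs, h4]⟩

/-- for an involution `r u`, normalising in one direction gives the other one -/
theorem flip_of {U : Type*} [Group U] {r : U →* Module.End K V} (hrr : ∀ u v, r u (r u v) = v) {u : U}
    {M N : Set (Module.End K V)} (h : ∀ l ∈ M, ∃ l' ∈ N, ∀ v, r u (l v) = l' (r u v)) :
    ∀ l' ∈ M, ∃ l ∈ N, ∀ v, r u (l v) = l' (r u v) := by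
  intro l' hl'
  obtain ⟨l, hl, h7⟩ := h l' hl'
  refine ⟨l, hl, fun v => ?_⟩
  have h8 := h7 (r u v)
  rw [hrr] at h8
  rw [← h8, hrr]

/-- **the input of (4)** : `V = (Vp ⊗ Vp) ⊗ X`, `u = u₊ ⊗ u₊ ⊗ uX` for `u ∈ U₁`, `s = swap ⊗ sX`. -/
theorem exists_four [Finite K] [CharP K 2] [Finite V] [Nontrivial V] (h : Two N₁ (N₂ ∪ N₃))
    (hc : ∀ l ∈ N₂, ∀ c ∈ N₃, l * c = c * l) {U : Type*} [Group U] (r : U →* Module.End K V)
    (h2 : ∀ u : U, u * u = 1) (U₁ : Subgroup U) (s : U)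
    (hn₁ : ∀ u ∈ U₁, ∀ l ∈ N₁, ∃ l' ∈ N₁, ∀ v, r u (l v) = l' (r u v))
    (hn₂ : ∀ u ∈ U₁, ∀ l ∈ N₂, ∃ l' ∈ N₂, ∀ v, r u (l v) = l' (r u v))
    (hs₁ : ∀ l ∈ N₁, ∃ l' ∈ N₂, ∀ v, r s (l v) = l' (r s v))
    (hs₂ : ∀ l ∈ N₂, ∃ l' ∈ N₁, ∀ v, r s (l v) = l' (r s v)) :
    ∃ (Vp X : Type u) (_ : AddCommGroup Vp) (_ : Module K Vp) (_ : AddCommGroup X) (_ : Module K X)
      (_ : Finite Vp) (_ : Finite X) (_ : Nontrivial Vp) (_ : Nontrivial X)
      (ρ : Module.End K V → Module.End K Vp)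
      (ψ : (Vp ⊗[K] Vp) ⊗[K] X ≃ₗ[K] V) (p : U₁ →* Module.End K Vp) (x : U₁ →* Module.End K X)
      (sX : Module.End K X),
      (∀ (u : U₁) y, r u (ψ y) = ψ (TensorProduct.map (TensorProduct.map (p u) (p u)) (x u) y)) ∧
      (∀ y, r s (ψ y) = ψ (TensorProduct.map (TensorProduct.comm K Vp Vp).toLinearMap sX y)) ∧
      sX * sX = 1 ∧ (∀ u, sX * x u = x u * sX) ∧
      (∀ l ∈ N₁, ∀ y, l (ψ y) = ψ (((ρ l).rTensor Vp).rTensor X y)) ∧
      (∀ U : Submodule K Vp, (∀ l ∈ N₁, ∀ w ∈ U, ρ l w ∈ U) → U = ⊥ ∨ U = ⊤) ∧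
      ∀ f : Module.End K Vp, (∀ l ∈ N₁, f * ρ l = ρ l * f) → ∃ k : K, ∀ w, f w = k • w := by
  obtain ⟨A, B, X, _, _, _, _, _, _, ⟨D⟩⟩ := exists_dec3 h hc
  have := D.finA
  have := D.finB
  have := D.finX
  have := D.neA
  have := D.neB
  have := D.neX
  have hrr : ∀ u v, r u (r u v) = v := fun u v => by
    rw [← Module.End.mul_apply, ← map_mul, h2, map_one, Module.End.one_apply]
  obtain ⟨α, β, γ, h3, h4, h5, h6⟩ := D.exists_swap (RingEquiv.refl K) (inv2 (r s) (hrr s))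
    (fun k v => map_smul (r s) k v) hs₁ (flip_of hrr hs₂) hs₂ (flip_of hrr hs₁)
  obtain ⟨ψ, p, x, sX, h7, h8, h9, h10, h11⟩ := Swap.norm_form' D.φ r h2 U₁ s
    (fun u hu => by
      obtain ⟨α', β', γ', h3', h4', h5', h6'⟩ := D.exists_pure (RingEquiv.refl K) (inv2 (r u) (hrr u))
        (fun k v => map_smul (r u) k v) (hn₁ u hu) (flip_of hrr (hn₁ u hu)) (hn₂ u hu) (flip_of hrr (hn₂ u hu))
      exact ⟨(lin α' h3').toLinearMap, (lin β' h4').toLinearMap, (lin γ' h5').toLinearMap, h6'⟩)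
    (lin α h3) (lin β h4).toLinearMap (lin γ h5).toLinearMap h6
  let Ψ : (A ⊗[K] A) ⊗[K] X ≃ₗ[K] V := (TensorProduct.assoc K A A X).trans ψ
  have hΨ : ∀ a a' y, Ψ ((a ⊗ₜ a') ⊗ₜ y) = ψ (a ⊗ₜ (a' ⊗ₜ y)) := fun a a' y => rfl
  have ind : ∀ (f : V →ₗ[K] V) (g : (A ⊗[K] A) ⊗[K] X →ₗ[K] (A ⊗[K] A) ⊗[K] X),
      (∀ a a' x, f (Ψ ((a ⊗ₜ a') ⊗ₜ x)) = Ψ (g ((a ⊗ₜ a') ⊗ₜ x))) → ∀ y, f (Ψ y) = Ψ (g y) := by
    intro f g hfg y
    have h1 : f ∘ₗ Ψ.toLinearMap = Ψ.toLinearMap ∘ₗ g := by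
      apply TensorProduct.ext'
      intro z x
      induction z with
      | zero => simp
      | tmul a a' => exact hfg a a' x
      | add z w hz hw => rw [TensorProduct.add_tmul, map_add, map_add, hz, hw]
    exact LinearMap.congr_fun h1 y
  refine ⟨A, X, inferInstance, inferInstance, inferInstance, inferInstance, inferInstance, inferInstance,
    inferInstance, inferInstance, D.ρ₁, Ψ, p, x, sX, fun u => ?_, ?_, h9, h10, fun l hl => ?_, D.irr₁, D.sch₁⟩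
  · refine ind _ _ fun a a' y => ?_
    rw [hΨ, h7, TensorProduct.map_tmul, TensorProduct.map_tmul, hΨ]
  · refine ind _ _ fun a a' y => ?_
    rw [hΨ, h8, TensorProduct.map_tmul]
    change _ = Ψ ((TensorProduct.comm K A A) (a ⊗ₜ a') ⊗ₜ sX y)
    rw [TensorProduct.comm_tmul, hΨ]
  · refine ind _ _ fun a a' y => ?_
    rw [hΨ, h11, D.h₁ l hl, LinearMap.rTensor_tmul, LinearMap.rTensor_tmul, LinearMap.rTensor_tmul, hΨ, h11]

end three

end Cfsg.Agent.Omega.NO1.Comp
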