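import Mathlib

/-!
# THEOREM COMP (bb OMEGA #17539), step (0): the module facts of FLAT and the Induction Lemma

`V` an additive group of exponent 2 on which the group `H` acts, `U ≤ H`.

* `FlatA U E F` : the module facts of FLAT: `F = C_V(U) ≤ E < V`, `[V,U] ≤ E`, `[E,U] ≤ F`,
  `E = [w,U] + F` for every `w ∈ V - E`, `U` acts as an elementary abelian 2-group;
* `FlatA.ks` **(KS)** : `V = A ⊕ B` (`U`-invariant) implies that `U` centralises `A` or `B`;
* `FlatA.ind` **(0)** : `V|_U = V₀ ⊕ X ⊕ X^s` with a subgroup `U₁` of index 2 of `U` leaving `X`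
  invariant, `s ∈ U - U₁`, implies `X = 0` or `V = E ∪ (x + E)`.
-/

set_option autoImplicit false

namespace Cfsg.Agent.Omega.NO1.Comp

universe u v

variable {H : Type u} [Group H] {V : Type v} [AddCommGroup V] [DistribMulAction H V]

/-- The module facts of FLAT for the action of `U` on `V`. -/
structure FlatA (U : Subgroup H) (E F : AddSubgroup V) : Prop where
  two : ∀ v : V, v + v = 0
  F_iff : ∀ v, v ∈ F ↔ ∀ u ∈ U, u • v = v
  VE : ∀ u ∈ U, ∀ v, u • v + v ∈ E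
  EF : ∀ u ∈ U, ∀ v ∈ E, u • v + v ∈ F
  reg : ∀ w, w ∉ E → ∀ e ∈ E, ∃ u ∈ U, u • w + w + e ∈ F
  ab : ∀ s ∈ U, ∀ t ∈ U, ∀ v : V, s • t • v = t • s • v
  inv : ∀ s ∈ U, ∀ v : V, s • s • v = v
  ne : ¬ E ≤ F
  ne' : ∃ w, w ∉ E

namespace FlatA

variable {U : Subgroup H} {E F : AddSubgroup V} (h : FlatA U E F)
include h

theorem neg (v : V) : -v = v := by
  rw [neg_eq_iff_add_eq_zero]
  exact h.two v

theorem add_eq {a b : V} : a + b = 0 ↔ a = b := by
  rw [add_eq_zero_iff_eq_neg, h.neg]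

theorem cancel (a b : V) : a + (a + b) = b := by
  rw [← add_assoc, h.two, zero_add]

theorem fix {f : V} (hf : f ∈ F) {u : H} (hu : u ∈ U) : u • f = f := (h.F_iff f).1 hf u hu

theorem F_le : F ≤ E := by
  intro f hf
  by_contra hfE
  apply h.ne
  intro e he
  obtain ⟨u, hu, h1⟩ := h.reg f hfE e he
  rwa [h.fix hf hu, h.two, zero_add] at h1

theorem mem_E {v : V} (hv : ∀ u ∈ U, u • v + v ∈ F) : v ∈ E := by
  by_contra hvE
  apply h.ne
  intro e he
  obtain ⟨u, hu, h1⟩ := h.reg v hvE e he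
  exact (F.add_mem_cancel_left (hv u hu)).1 h1

/-- **(KS)** -/
theorem ks {A B : AddSubgroup V} (hA : ∀ u ∈ U, ∀ a ∈ A, u • a ∈ A) (hB : ∀ u ∈ U, ∀ b ∈ B, u • b ∈ B)
    (hAB : A ⊓ B = ⊥) (hs : A ⊔ B = ⊤) : A ≤ F ∨ B ≤ F := by
  -- if `A ≰ E` then `B ∩ E ≤ F`
  have key : ∀ A B : AddSubgroup V, (∀ u ∈ U, ∀ a ∈ A, u • a ∈ A) → (∀ u ∈ U, ∀ b ∈ B, u • b ∈ B) →
      A ⊓ B = ⊥ → A ⊔ B = ⊤ → ¬ A ≤ E → ∀ b ∈ B, b ∈ E → b ∈ F := by
    intro A B hA hB hAB hs hAE b hb hbE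
    obtain ⟨w, hw, hwE⟩ := SetLike.not_le_iff_exists.1 hAE
    obtain ⟨u, hu, h1⟩ := h.reg w hwE b hbE
    rw [h.F_iff]
    intro t ht
    have h2 := h.fix h1 ht
    have h3 : u • w + w ∈ A := A.add_mem (hA u hu w hw) hw
    rw [smul_add] at h2
    have h4 : t • b - b ∈ A ⊓ B := by
      refine ⟨?_, B.sub_mem (hB t ht b hb) hb⟩
      have e : t • b - b = (u • w + w) - t • (u • w + w) := by
        rw [sub_eq_sub_iff_add_eq_add, add_comm, h2]
      rw [e]
      exact A.sub_mem h3 (hA t ht _ h3)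
    rw [hAB, AddSubgroup.mem_bot] at h4
    exact sub_eq_zero.1 h4
  by_cases hAE : A ≤ E
  · by_cases hBE : B ≤ E
    · exfalso
      obtain ⟨w, hw⟩ := h.ne'
      have : w ∈ A ⊔ B := by rw [hs]; trivial
      exact hw ((sup_le hAE hBE) this)
    · left
      intro a ha
      exact key B A hB hA (by rw [inf_comm]; exact hAB) (by rw [sup_comm]; exact hs) hBE a ha (hAE ha)
  · right
    intro b hb
    refine key A B hA hB hAB hs hAE b hb ?_
    by_contra hbE
    apply h.ne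
    intro e he
    have : e ∈ A ⊔ B := by rw [hs]; trivial
    obtain ⟨a, ha, b', hb', rfl⟩ := AddSubgroup.mem_sup.1 this
    -- the coordinates of `e ∈ E`
    obtain ⟨w, hw, hwE⟩ := SetLike.not_le_iff_exists.1 hAE
    obtain ⟨u, hu, h1⟩ := h.reg w hwE _ he
    obtain ⟨u', hu', h2⟩ := h.reg b hbE _ he
    rw [h.F_iff]
    intro t ht
    have h3 := h.fix h1 ht
    have h4 := h.fix h2 ht
    have e1 : u • w + w ∈ A := A.add_mem (hA u hu w hw) hw
    have e2 : u' • b + b ∈ B := B.add_mem (hB u' hu' b hb) hb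
    have ha' : t • a = a := by
      have h5 : t • a - a ∈ A ⊓ B := by
        refine ⟨A.sub_mem (hA t ht a ha) ha, ?_⟩
        have e : t • a - a = (u' • b + b + b') - t • (u' • b + b + b') := by
          rw [sub_eq_sub_iff_add_eq_add]
          have h6 : t • (u' • b + b + b') + t • a = (u' • b + b + b') + a := by
            rw [← smul_add]
            have : u' • b + b + b' + a = u' • b + b + (a + b') := by abel
            rw [this]; exact h4
          rw [add_comm, h6]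
        rw [e]
        exact B.sub_mem (B.add_mem e2 hb') (hB t ht _ (B.add_mem e2 hb'))
      rw [hAB, AddSubgroup.mem_bot] at h5
      exact sub_eq_zero.1 h5
    have hb2 : t • b' = b' := by
      have h5 : t • b' - b' ∈ A ⊓ B := by
        refine ⟨?_, B.sub_mem (hB t ht b' hb') hb'⟩
        have e : t • b' - b' = (u • w + w + a) - t • (u • w + w + a) := by
          rw [sub_eq_sub_iff_add_eq_add]
          have h6 : t • (u • w + w + a) + t • b' = (u • w + w + a) + b' := by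
            rw [← smul_add]
            have : u • w + w + a + b' = u • w + w + (a + b') := by abel
            rw [this]; exact h3
          rw [add_comm, h6]
        rw [e]
        exact A.sub_mem (A.add_mem e1 ha) (hA t ht _ (A.add_mem e1 ha))
      rw [hAB, AddSubgroup.mem_bot] at h5
      exact sub_eq_zero.1 h5
    rw [smul_add, ha', hb2]

/-- **(0)**, the Induction Lemma: `V = V₀ ⊕ X ⊕ sX`, `U = U₁ ∪ U₁s`, `U₁` leaves `X` invariant. -/
theorem ind {V0 X : AddSubgroup V} {U1 : Subgroup H} {s : H} (hs : s ∈ U) (hU1 : U1 ≤ U)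
    (hU : ∀ u ∈ U, u ∈ U1 ∨ ∃ u1 ∈ U1, u = s * u1)
    (hV0 : ∀ u ∈ U, ∀ a ∈ V0, u • a ∈ V0) (hX : ∀ u ∈ U1, ∀ x ∈ X, u • x ∈ X)
    (hd : ∀ a ∈ V0, ∀ x ∈ X, ∀ y ∈ X, a + x + s • y = 0 → a = 0 ∧ x = 0 ∧ y = 0)
    (hsup : ∀ v : V, ∃ a ∈ V0, ∃ x ∈ X, ∃ y ∈ X, v = a + x + s • y) (hX0 : X ≠ ⊥) :
    ∃ x, ∀ v : V, v ∈ E ∨ v + x ∈ E := by
  have hss : ∀ v : V, s • s • v = v := h.inv s hs
  -- comparison of coordinates
  have hcmp : ∀ a ∈ V0, ∀ a' ∈ V0, ∀ x ∈ X, ∀ x' ∈ X, ∀ y ∈ X, ∀ y' ∈ X,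
      a + x + s • y = a' + x' + s • y' → a = a' ∧ x = x' ∧ y = y' := by
    intro a ha a' ha' x hx x' hx' y hy y' hy' he
    have := hd (a - a') (V0.sub_mem ha ha') (x - x') (X.sub_mem hx hx') (y - y') (X.sub_mem hy hy') (by
      rw [smul_sub]
      have e : a - a' + (x - x') + (s • y - s • y') = (a + x + s • y) - (a' + x' + s • y') := by abel
      rw [e, he, sub_self])
    exact ⟨sub_eq_zero.1 this.1, sub_eq_zero.1 this.2.1, sub_eq_zero.1 this.2.2⟩
  -- `V₀ ≤ F`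
  let Y : AddSubgroup V :=
    { carrier := {v | ∃ x ∈ X, ∃ y ∈ X, v = x + s • y}
      zero_mem' := ⟨0, X.zero_mem, 0, X.zero_mem, by simp⟩
      add_mem' := by
        rintro _ _ ⟨x, hx, y, hy, rfl⟩ ⟨x', hx', y', hy', rfl⟩
        exact ⟨x + x', X.add_mem hx hx', y + y', X.add_mem hy hy', by rw [smul_add]; abel⟩
      neg_mem' := by
        rintro _ ⟨x, hx, y, hy, rfl⟩
        exact ⟨-x, X.neg_mem hx, -y, X.neg_mem hy, by rw [smul_neg]; abel⟩ }
  have hcomm : ∀ u ∈ U1, ∀ v : V, u • s • v = s • u • v := fun u hu v => h.ab u (hU1 hu) s hs v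
  have hY : ∀ u ∈ U, ∀ v ∈ Y, u • v ∈ Y := by
    rintro u hu _ ⟨x, hx, y, hy, rfl⟩
    rcases hU u hu with h1 | ⟨u1, h1, rfl⟩
    · exact ⟨u • x, hX u h1 x hx, u • y, hX u h1 y hy, by rw [smul_add, hcomm u h1]⟩
    · refine ⟨u1 • y, hX u1 h1 y hy, u1 • x, hX u1 h1 x hx, ?_⟩
      rw [mul_smul, smul_add, smul_add, hcomm u1 h1, hss, add_comm]
  obtain ⟨x0, hx0, hx00⟩ : ∃ x ∈ X, x ≠ 0 := by
    by_contra hcon
    push Not at hcon
    exact hX0 ((AddSubgroup.eq_bot_iff_forall X).2 hcon)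
  have hV0F : V0 ≤ F := by
    refine (h.ks hV0 hY ?_ ?_).resolve_right ?_
    · rw [eq_bot_iff]
      rintro v ⟨hv, x, hx, y, hy, he⟩
      have := hcmp v hv 0 V0.zero_mem 0 X.zero_mem x hx 0 X.zero_mem y hy (by
        rw [smul_zero, add_zero, add_zero, zero_add]; exact he)
      rw [this.1]; exact AddSubgroup.zero_mem _
    · rw [eq_top_iff]
      intro v _
      obtain ⟨a, ha, x, hx, y, hy, rfl⟩ := hsup v
      rw [add_assoc]
      exact AddSubgroup.add_mem_sup ha ⟨x, hx, y, hy, rfl⟩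
    · intro hYF
      have h1 : x0 ∈ F := hYF ⟨x0, hx0, 0, X.zero_mem, by simp⟩
      have h2 := h.fix h1 hs
      have := hcmp 0 V0.zero_mem 0 V0.zero_mem 0 X.zero_mem x0 hx0 x0 hx0 0 X.zero_mem (by
        rw [smul_zero, h2, zero_add, zero_add, add_zero])
      exact hx00 this.2.2
  -- the elements of `F`
  have hF : ∀ f ∈ F, ∃ a ∈ V0, ∃ c ∈ X, f = a + c + s • c ∧ ∀ u ∈ U1, u • c = c := by
    intro f hf
    obtain ⟨a, ha, x, hx, y, hy, rfl⟩ := hsup f
    have h1 := h.fix hf hs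
    rw [smul_add, smul_add, hss, h.fix (hV0F ha) hs] at h1
    have h2 : a + y + s • x = a + x + s • y := by
      rw [← h1]; abel
    obtain ⟨-, h3, -⟩ := hcmp a ha a ha y hy x hx x hx y hy h2
    subst h3
    refine ⟨a, ha, y, hy, rfl, fun u hu => ?_⟩
    have h4 := h.fix hf (hU1 hu)
    rw [smul_add, smul_add, hcomm u hu, h.fix (hV0F ha) (hU1 hu)] at h4
    exact (hcmp a ha a ha _ (hX u hu y hy) y hy _ (hX u hu y hy) y hy h4).2.1
  -- `x + sx ∈ E`
  have hxE : ∀ x : V, s • x + x ∈ E := fun x => h.VE s hs x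
  -- `C = C_X(U₁) ≤ E`
  have hC : ∀ c ∈ X, (∀ u ∈ U1, u • c = c) → c ∈ E := by
    intro c hc hcu
    by_contra hcE
    apply h.ne
    intro e he
    obtain ⟨u, hu, h1⟩ := h.reg c hcE e he
    have hcF : s • c + c ∈ F := by
      rw [h.F_iff]
      intro t ht
      rcases hU t ht with h2 | ⟨t1, h2, rfl⟩
      · rw [smul_add, hcomm t h2, hcu t h2]
      · rw [mul_smul, smul_add, hcomm t1 h2, hcu t1 h2, smul_add, hss, add_comm]
    rcases hU u hu with h2 | ⟨u1, h2, rfl⟩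
    · rwa [hcu u h2, h.two, zero_add] at h1
    · rw [mul_smul, hcu u1 h2] at h1
      exact (F.add_mem_cancel_left hcF).1 h1
  -- an element of `X` outside `E`
  obtain ⟨x, hx, hxE'⟩ : ∃ x ∈ X, x ∉ E := by
    by_contra hcon
    push Not at hcon
    obtain ⟨w, hw⟩ := h.ne'
    apply hw
    obtain ⟨a, ha, x, hx, y, hy, rfl⟩ := hsup w
    refine E.add_mem (E.add_mem (h.F_le (hV0F ha)) (hcon x hx)) ?_
    exact (E.add_mem_cancel_right (hcon y hy)).1 (hxE y)
  -- every `y ∈ X` is in `C` or in `x + C`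
  have hy2 : ∀ y ∈ X, y ∈ E ∨ y + x ∈ E := by
    intro y hy
    obtain ⟨u, hu, h1⟩ := h.reg x hxE' _ (hxE y)
    obtain ⟨a, ha, c, hc, he, hcu⟩ := hF _ h1
    rcases hU u hu with h2 | ⟨u1, h2, rfl⟩
    · left
      have h3 : 0 + (u • x + x + y) + s • y = a + c + s • c := by
        rw [← he]; abel
      obtain ⟨-, -, h4⟩ := hcmp 0 V0.zero_mem a ha _ (X.add_mem (X.add_mem (hX u h2 x hx) hx) hy) c hc
        y hy c hc h3
      rw [h4]
      exact hC c hc hcu
    · right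
      have h3 : 0 + (x + y) + s • (u1 • x + y) = a + c + s • c := by
        rw [← he, mul_smul, smul_add]; abel
      obtain ⟨-, h4, -⟩ := hcmp 0 V0.zero_mem a ha _ (X.add_mem hx hy) c hc _
        (X.add_mem (hX u1 h2 x hx) hy) c hc h3
      rw [add_comm, h4]
      exact hC c hc hcu
  refine ⟨x, fun v => ?_⟩
  obtain ⟨a, ha, y, hy, z, hz, rfl⟩ := hsup v
  have haE := h.F_le (hV0F ha)
  have hz' : s • z + z ∈ E := hxE z
  have e : a + y + s • z = (a + (s • z + z)) + (y + z) := by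
    have : a + (s • z + z) + (y + z) = a + y + s • z + (z + z) := by abel
    rw [this, h.two, add_zero]
  rw [e]
  rcases hy2 (y + z) (X.add_mem hy hz) with h5 | h5
  · exact Or.inl (E.add_mem (E.add_mem haE hz') h5)
  · right
    rw [add_assoc]
    exact E.add_mem (E.add_mem haE hz') h5

end FlatA

end Cfsg.Agent.Omega.NO1.Comp
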