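import Mathlib

/-!
# THEOREM COMP (bb OMEGA #17539): the K-linear flat module, and step (3)

`KFlat act E F`: `K` a field, `U` a group of involutions acting `K`-linearly and faithfully on `V`,
`E ≥ F` subspaces, `F = C_V(U)`, `[V,U] ≤ E`, `[E,U] ≤ F`, `{[w,u]} + F = E` for all `w ∉ E`;
`a = |V/E| ≥ 4`, `e = |E/F| ≥ a²`, and (9) `|V/C_V(u)| ≤ e`.
-/

namespace Cfsg.Agent.Omega.NO1.Comp

open Module

/-- the `K`-linear flat module -/
structure KFlat {K V U : Type*} [Field K] [AddCommGroup V] [Module K V] [Group U]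
    (act : U →* Module.End K V) (E F : Submodule K V) : Prop where
  sq : ∀ u : U, u * u = 1
  faith : ∀ u, act u = 1 → u = 1
  fixF : ∀ v, v ∈ F ↔ ∀ u, act u v = v
  VE : ∀ u v, act u v - v ∈ E
  EF : ∀ u, ∀ e ∈ E, act u e - e ∈ F
  reg : ∀ w, w ∉ E → ∀ e ∈ E, ∃ u, e - (act u w - w) ∈ F
  four : 4 * Nat.card E ≤ Nat.card V
  pf : Nat.card V ^ 2 * Nat.card F ≤ Nat.card E ^ 3
  rk : ∀ u, Nat.card (LinearMap.range (act u - 1)) * Nat.card F ≤ Nat.card E

namespace KFlat

variable {K V U : Type*} [Field K] [AddCommGroup V] [Module K V] [Group U]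
  {act : U →* Module.End K V} {E F : Submodule K V}

theorem comm (h : KFlat act E F) (u v : U) : u * v = v * u := by
  have h1 := h.sq (u * v)
  have h2 := h.sq u
  have h3 := h.sq v
  have hu : u⁻¹ = u := inv_eq_of_mul_eq_one_left h2
  have hv : v⁻¹ = v := inv_eq_of_mul_eq_one_left h3
  calc u * v = (u * v)⁻¹ := (inv_eq_of_mul_eq_one_left h1).symm
    _ = v⁻¹ * u⁻¹ := mul_inv_rev u v
    _ = v * u := by rw [hu, hv]

theorem act_act (h : KFlat act E F) (u : U) (v : V) : act u (act u v) = v := by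
  rw [← Module.End.mul_apply, ← map_mul, h.sq u, map_one]; rfl

theorem act_comm (h : KFlat act E F) (u s : U) (v : V) : act u (act s v) = act s (act u v) := by
  rw [← Module.End.mul_apply, ← map_mul, h.comm u s, map_mul]; rfl

/-- `u ∈ N` -/
def Nn (act : U →* Module.End K V) (E : Submodule K V) (u : U) : Prop := ∀ e ∈ E, act u e = e

/-- FLAT (5): for every `w ∉ E`: `u ∈ N ↔ [w,u] ∈ F` -/
theorem nn_iff (h : KFlat act E F) {w : V} (hw : w ∉ E) (u : U) :
    Nn act E u ↔ act u w - w ∈ F := by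
  constructor
  · intro hu
    rw [h.fixF]
    intro s
    have h1 := hu _ (h.VE s w)
    simp only [map_sub] at h1 ⊢
    rw [h.act_comm s u]
    have : act u (act s w) - act s w = act u w - w := by
      have := h1
      rw [sub_eq_sub_iff_add_eq_add] at this ⊢
      rw [this]; abel
    exact this
  · intro hu e he
    obtain ⟨s, hs⟩ := h.reg w hw e he
    have h1 := (h.fixF _).1 hs u
    have h2 := (h.fixF _).1 hu s
    simp only [map_sub] at h1 h2
    rw [h.act_comm s u] at h2
    -- act u e - (act u act s w - act u w) = e - (act s w - w)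
    have h3 : act u (act s w) = act u w - w + act s w := by
      rw [sub_eq_iff_eq_add] at h2; exact h2
    rw [h3] at h1
    have h4 : act u e - (act u w - w + act s w - act u w) = act u e - (act s w - w) := by abel
    rw [h4] at h1
    exact sub_left_injective h1

/-- the operator `D = act r - 1` -/
theorem D_apply (r : U) (v : V) : (act r - 1) v = act r v - v := rfl

theorem ker_le (h : KFlat act E F) {r : U} (hr : ¬ Nn act E r) {v : V} (hv : act r v = v) :
    v ∈ E := by
  by_contra hvE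
  exact hr ((h.nn_iff hvE r).2 (by rw [hv, sub_self]; exact F.zero_mem))

variable (h : KFlat act E F)
include h

/-- (MR'1) -/
theorem mr_fix {r : U} (hr : ¬ Nn act E r) {v : V} : act r v - v ∈ F ↔ v ∈ E :=
  ⟨fun hv => by
    by_contra hvE
    exact hr ((h.nn_iff hvE r).2 hv), fun hv => h.EF r v hv⟩

/-- (MR'2), the inclusion `[m,U] ⊆ M ⊓ F` -/
theorem mr_mem {r : U} {m : V} (hm : m ∈ LinearMap.range (act r - 1)) (s : U) :
    act s m - m ∈ LinearMap.range (act r - 1) ⊓ F := by
  obtain ⟨v, rfl⟩ := hm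
  have e1 : act s ((act r - 1) v) - (act r - 1) v = (act r - 1) (act s v - v) := by
    simp only [D_apply, map_sub]
    rw [h.act_comm r s]
  rw [e1]
  exact ⟨⟨_, rfl⟩, h.EF r _ (h.VE s v)⟩

/-- (MR'2) -/
theorem mr {r : U} {m : V} (hm : m ∈ LinearMap.range (act r - 1))
    (hmF : m ∉ F) {m' : V} (hm' : m' ∈ LinearMap.range (act r - 1)) (hm'F : m' ∈ F)
    (hr : ¬ Nn act E r) : ∃ s, act s m - m = m' := by
  obtain ⟨v, rfl⟩ := hm
  obtain ⟨v', rfl⟩ := hm'
  rw [D_apply, h.mr_fix hr] at hmF hm'F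
  obtain ⟨s, hs⟩ := h.reg v hmF v' hm'F
  refine ⟨s, ?_⟩
  have e1 : act s ((act r - 1) v) - (act r - 1) v = (act r - 1) (act s v - v) := by
    simp only [D_apply, map_sub]
    rw [h.act_comm r s]
  rw [e1]
  have h1 := (h.fixF _).1 hs r
  have h2 : (act r - 1) (v' - (act s v - v)) = 0 := by rw [D_apply, h1, sub_self]
  rw [map_sub, sub_eq_zero] at h2
  exact h2.symm

/-- (MR'4) -/
theorem mr_ne {r : U} (hr : ¬ Nn act E r) :
    ∃ m ∈ LinearMap.range (act r - 1), m ∈ F ∧ m ≠ 0 := by
  unfold Nn at hr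
  push Not at hr
  obtain ⟨e, he, hne⟩ := hr
  exact ⟨(act r - 1) e, ⟨e, rfl⟩, h.EF r e he, sub_ne_zero.2 hne⟩

/-- (MR'3) `|M/M^U| = |V/E|` -/
theorem mr_card [Finite V] {r : U} (hr : ¬ Nn act E r) :
    Nat.card (LinearMap.range (act r - 1)) * Nat.card E =
      Nat.card V * Nat.card (LinearMap.range (act r - 1) ⊓ F : Submodule K V) := by
  classical
  set D := act r - 1 with hD
  -- `|V| = |range D| |ker D|`
  have h1 : Nat.card V = Nat.card (LinearMap.range D) * Nat.card (LinearMap.ker D) := by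
    have := Submodule.card_eq_card_quotient_mul_card (LinearMap.ker D)
    rw [this, mul_comm, Nat.card_congr D.quotKerEquivRange.toEquiv]
  -- `|E| = |D E| |ker D|`
  have h2 : Nat.card E = Nat.card (LinearMap.range D ⊓ F : Submodule K V) *
      Nat.card (LinearMap.ker D) := by
    have h3 := Submodule.card_eq_card_quotient_mul_card (LinearMap.ker (D.domRestrict E))
    rw [Nat.card_congr (D.domRestrict E).quotKerEquivRange.toEquiv] at h3
    have h4 : LinearMap.range (D.domRestrict E) = LinearMap.range D ⊓ F := by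
      ext m
      constructor
      · rintro ⟨⟨e, he⟩, rfl⟩
        exact ⟨⟨e, rfl⟩, h.EF r e he⟩
      · rintro ⟨⟨v, rfl⟩, hv⟩
        have : v ∈ E := (h.mr_fix hr).1 hv
        exact ⟨⟨v, this⟩, rfl⟩
    rw [h4] at h3
    have h5 : Nat.card (LinearMap.ker (D.domRestrict E)) = Nat.card (LinearMap.ker D) := by
      refine Nat.card_congr ⟨fun x => ⟨x.1.1, x.2⟩, fun y => ⟨⟨y.1, h.ker_le hr ?_⟩, y.2⟩, ?_, ?_⟩
      · have := LinearMap.mem_ker.1 y.2
        exact sub_eq_zero.1 this
      · intro x; rfl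
      · intro x; rfl
    rw [h5] at h3
    rw [h3, mul_comm]
  rw [h1, h2]; ring

omit h

theorem congr {V' : Type*} [AddCommGroup V'] [Module K V'] (φ : V ≃ₗ[K] V')
    {act' : U →* Module.End K V'} (h : KFlat act E F) (ha : ∀ u v, act' u (φ v) = φ (act u v)) :
    KFlat act' (E.map φ.toLinearMap) (F.map φ.toLinearMap) := by
  have hm : ∀ (S : Submodule K V) (v : V), φ v ∈ S.map φ.toLinearMap ↔ v ∈ S := by
    intro S v
    constructor
    · rintro ⟨w, hw, hwv⟩
      rwa [← φ.injective hwv]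
    · intro hv; exact ⟨v, hv, rfl⟩
  have hc : ∀ (S : Submodule K V), Nat.card (S.map φ.toLinearMap) = Nat.card S := fun S =>
    (Nat.card_congr (φ.submoduleMap S).toEquiv).symm
  have hV : Nat.card V' = Nat.card V := (Nat.card_congr φ.toEquiv).symm
  refine ⟨h.sq, ?_, ?_, ?_, ?_, ?_, ?_, ?_, ?_⟩
  · intro u hu
    refine h.faith u ?_
    ext v
    apply φ.injective
    rw [← ha, hu]; rfl
  · intro v
    obtain ⟨v, rfl⟩ := φ.surjective v
    rw [hm, h.fixF]
    refine forall_congr' fun u => ?_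
    rw [ha]
    exact φ.injective.eq_iff.symm
  · intro u v
    obtain ⟨v, rfl⟩ := φ.surjective v
    rw [ha, ← map_sub, hm]; exact h.VE u v
  · intro u v hv
    obtain ⟨v, rfl⟩ := φ.surjective v
    rw [hm] at hv
    rw [ha, ← map_sub, hm]; exact h.EF u v hv
  · intro w hw e he
    obtain ⟨w, rfl⟩ := φ.surjective w
    obtain ⟨e, rfl⟩ := φ.surjective e
    rw [hm] at hw he
    obtain ⟨u, hu⟩ := h.reg w hw e he
    exact ⟨u, by rw [ha, ← map_sub, ← map_sub, hm]; exact hu⟩
  · rw [hc, hV]; exact h.four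
  · rw [hc, hc, hV]; exact h.pf
  · intro u
    rw [hc, hc]
    have : LinearMap.range (act' u - 1) = (LinearMap.range (act u - 1)).map φ.toLinearMap := by
      ext y
      constructor
      · rintro ⟨x, rfl⟩
        obtain ⟨x, rfl⟩ := φ.surjective x
        refine ⟨(act u - 1) x, ⟨x, rfl⟩, ?_⟩
        simp only [D_apply, ha]
        exact map_sub φ _ _
      · rintro ⟨_, ⟨x, rfl⟩, rfl⟩
        refine ⟨φ x, ?_⟩
        simp only [D_apply, ha]
        exact (map_sub φ _ _).symm
    rw [this, hc]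
    exact h.rk u

end KFlat

end Cfsg.Agent.Omega.NO1.Comp
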