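import Cfsg.Agent.Omega.NO1.Comp.Odd
import Cfsg.Agent.Omega.NO1.Comp.KFlat

/-!
# THEOREM COMP (bb OMEGA #17539), step (2): `U` is `K`-linear

* `ringAut_eq` : a finite field of characteristic 2 has at most one automorphism of order 2;
* `FlatA.lin` **(2)** : if `U` acts semilinearly on the `K`-space `V`, then it acts linearly;
* `FlatA.smul_E`, `FlatA.smul_F`, `FlatA.EK`, `FlatA.FK` : `E` and `F` are `K`-subspaces;
* `actK` : `U →* Module.End K V`; `FlatA.kflat` : the structure `KFlat`.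
-/

set_option autoImplicit false

namespace Cfsg.Agent.Omega.NO1.Comp

open Subgroup

universe u v w

/-- two automorphisms of order 2 of a finite field of characteristic 2 coincide -/
theorem ringAut_eq {K : Type w} [Field K] [Finite K] [CharP K 2] {σ τ : K ≃+* K} (hσ : ∀ x, σ (σ x) = x)
    (hτ : ∀ x, τ (τ x) = x) (h1 : ∃ x, σ x ≠ x) (h2 : ∃ x, τ x ≠ x) (x : K) : σ x = τ x := by
  classical
  let _ := ZMod.algebra K 2
  have key : ∀ ρ : K ≃+* K, ∀ r : ZMod 2, ρ (algebraMap (ZMod 2) K r) = algebraMap (ZMod 2) K r := fun ρ r =>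
    RingHom.congr_fun (Subsingleton.elim ((ρ : K →+* K).comp (algebraMap (ZMod 2) K)) (algebraMap (ZMod 2) K)) r
  let f : (K ≃+* K) → (K ≃ₐ[ZMod 2] K) := fun ρ => AlgEquiv.ofRingEquiv (f := ρ) (key ρ)
  have hf : ∀ ρ : K ≃+* K, (∀ x, ρ (ρ x) = x) → f ρ ^ 2 = 1 := by
    intro ρ hρ
    ext x
    rw [pow_two]
    exact hρ x
  by_contra hne
  have hne' : f σ ≠ f τ := fun h => hne (DFunLike.congr_fun h x)
  have hs1 : f σ ≠ 1 := by
    intro h
    obtain ⟨y, hy⟩ := h1
    exact hy (DFunLike.congr_fun h y)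
  have ht1 : f τ ≠ 1 := by
    intro h
    obtain ⟨y, hy⟩ := h2
    exact hy (DFunLike.congr_fun h y)
  let _ : Fintype (K ≃ₐ[ZMod 2] K) := Fintype.ofFinite _
  have hc := IsCyclic.card_pow_eq_one_le (α := K ≃ₐ[ZMod 2] K) (n := 2) two_pos
  have hsub : ({1, f σ, f τ} : Finset (K ≃ₐ[ZMod 2] K)) ⊆ Finset.univ.filter fun a => a ^ 2 = 1 := by
    intro a ha
    rw [Finset.mem_filter]
    refine ⟨Finset.mem_univ _, ?_⟩
    rw [Finset.mem_insert, Finset.mem_insert, Finset.mem_singleton] at ha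
    rcases ha with rfl | rfl | rfl
    · exact one_pow 2
    · exact hf σ hσ
    · exact hf τ hτ
  have h3 := Finset.card_le_card hsub
  rw [Finset.card_insert_of_notMem, Finset.card_insert_of_notMem, Finset.card_singleton] at h3
  · exact absurd (h3.trans hc) (by norm_num)
  · rwa [Finset.mem_singleton]
  · rw [Finset.mem_insert, Finset.mem_singleton, not_or]
    exact ⟨hs1.symm, ht1.symm⟩

variable {H : Type u} [Group H] {V : Type v} [AddCommGroup V] [DistribMulAction H V] {K : Type w} [Field K]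
  [Module K V]

namespace FlatA

variable {U : Subgroup H} {E F : AddSubgroup V} (h : FlatA U E F)
include h

omit [Field K] [Module K V] in
theorem exists_ne_zero : ∃ v : V, v ≠ 0 := by
  obtain ⟨w, hw⟩ := h.ne'
  exact ⟨w, fun h0 => hw (h0 ▸ E.zero_mem)⟩

variable (K) in
theorem charP : CharP K 2 := by
  obtain ⟨v, hv⟩ := h.exists_ne_zero
  refine CharTwo.of_one_ne_zero_of_two_eq_zero one_ne_zero ?_
  have h1 : (2 : K) • v = 0 := by rw [two_smul, h.two]
  exact (smul_eq_zero.1 h1).resolve_right hv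

/-- **(2)** : if `U` acts semilinearly on the `K`-space `V`, `K` a finite field, then `U` is `K`-linear. -/
theorem lin [Finite K] (h4 : ∀ x, ∃ v, v ∉ E ∧ v + x ∉ E)
    (hσ : ∀ u ∈ U, ∃ σ : K ≃+* K, ∀ (k : K) (v : V), u • k • v = σ k • u • v) :
    ∀ u ∈ U, ∀ (k : K) (v : V), u • k • v = k • u • v := by
  have := h.charP K
  obtain ⟨v0, hv0⟩ := h.exists_ne_zero
  have hcan : ∀ a b : K, a • v0 = b • v0 → a = b := by
    intro a b hab
    have : (a - b) • v0 = 0 := by rw [sub_smul, hab, sub_self]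
    exact sub_eq_zero.1 ((smul_eq_zero.1 this).resolve_right hv0)
  by_contra hcon
  push Not at hcon
  obtain ⟨s, hs, k0, v1, hk0⟩ := hcon
  -- automorphisms
  have hinv : ∀ u ∈ U, ∀ σ : K ≃+* K, (∀ (k : K) (v : V), u • k • v = σ k • u • v) → ∀ k, σ (σ k) = k := by
    intro u hu σ hσ k
    apply hcan
    have h1 := h.inv u hu (k • v0)
    rw [hσ, hσ, h.inv u hu] at h1
    exact h1
  obtain ⟨σ, hσs⟩ := hσ s hs
  have hσ2 := hinv s hs σ hσs
  have hσ0 : σ k0 ≠ k0 := by
    intro h0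
    apply hk0
    rw [hσs, h0]
  let U1 : Subgroup H :=
    { carrier := {u | u ∈ U ∧ ∀ (k : K) (v : V), u • k • v = k • u • v}
      one_mem' := ⟨U.one_mem, fun k v => by rw [one_smul, one_smul]⟩
      mul_mem' := by
        rintro a b ⟨ha, ha'⟩ ⟨hb, hb'⟩
        exact ⟨U.mul_mem ha hb, fun k v => by rw [mul_smul, hb', ha', mul_smul]⟩
      inv_mem' := by
        rintro a ⟨ha, ha'⟩
        exact ⟨U.inv_mem ha, fun k v => by rw [inv_smul_eq_iff, ha', smul_inv_smul]⟩ }
  have hU1 : U1 ≤ U := fun u hu => hu.1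
  have hU : ∀ u ∈ U, u ∈ U1 ∨ ∃ u1 ∈ U1, u = s * u1 := by
    intro u hu
    by_cases h1 : u ∈ U1
    · exact Or.inl h1
    right
    refine ⟨s⁻¹ * u, ⟨U.mul_mem (U.inv_mem hs) hu, ?_⟩, by rw [mul_inv_cancel_left]⟩
    obtain ⟨τ, hτ⟩ := hσ u hu
    have hτ2 := hinv u hu τ hτ
    have hτ0 : ∃ x, τ x ≠ x := by
      by_contra hc
      push Not at hc
      exact h1 ⟨hu, fun k v => by rw [hτ, hc]⟩
    have hst := ringAut_eq hσ2 hτ2 ⟨k0, hσ0⟩ hτ0
    intro k v
    rw [mul_smul, mul_smul, inv_smul_eq_iff, hσs, smul_inv_smul, hτ, hst]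
  let X : AddSubgroup V :=
    { carrier := {v | ∃ c, s • c = c ∧ v = k0 • c}
      zero_mem' := ⟨0, smul_zero s, (smul_zero k0).symm⟩
      add_mem' := by
        rintro _ _ ⟨c, hc, rfl⟩ ⟨c', hc', rfl⟩
        exact ⟨c + c', by rw [smul_add, hc, hc'], by rw [smul_add]⟩
      neg_mem' := by
        rintro _ ⟨c, hc, rfl⟩
        exact ⟨-c, by rw [smul_neg, hc], by rw [smul_neg]⟩ }
  have hss : ∀ v : V, s • s • v = v := h.inv s hs
  set l := k0 with hl
  set l' := σ k0 with hl'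
  have hl2 : σ l' = l := hσ2 k0
  have hδ : (l + l') * (l + l') ≠ 0 := by
    intro h0
    have h1 : l + l' = 0 := mul_self_eq_zero.1 h0
    exact hσ0 (CharTwo.add_eq_zero.1 h1).symm
  have hδ' : l * l + l' * l' ≠ 0 := by
    intro h0
    apply hδ
    have : (l + l') * (l + l') = l * l + l' * l' + (l * l' + l * l') := by ring
    rw [this, h0, CharTwo.add_self_eq_zero, add_zero]
  have g1 : ∀ u ∈ U, ∀ a ∈ (⊥ : AddSubgroup V), u • a ∈ (⊥ : AddSubgroup V) := by
    intro u _ a ha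
    rw [AddSubgroup.mem_bot] at ha ⊢
    rw [ha, smul_zero]
  have g2 : ∀ u ∈ U1, ∀ x ∈ X, u • x ∈ X := by
    rintro u ⟨hu, hu'⟩ _ ⟨c, hc, rfl⟩
    exact ⟨u • c, by rw [h.ab s hs u hu, hc], hu' _ _⟩
  have g3 : ∀ a ∈ (⊥ : AddSubgroup V), ∀ x ∈ X, ∀ y ∈ X, a + x + s • y = 0 → a = 0 ∧ x = 0 ∧ y = 0 := by
    rintro a ha _ ⟨c, hc, rfl⟩ _ ⟨c', hc', rfl⟩ he
    rw [AddSubgroup.mem_bot] at ha
    subst ha
    rw [zero_add, hσs, hc', ← hl', ← hl] at he
    have he' : l' • c + l • c' = 0 := by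
      have h1 := congrArg (s • ·) he
      simp only [smul_add, smul_zero] at h1
      rw [hσs, hσs, hc, hc', hl2] at h1
      exact h1
    have hc0 : c = 0 := by
      have h1 : (l * l + l' * l') • c = l • (l • c + l' • c') + l' • (l' • c + l • c') +
          ((-(l * l')) • c' + (-(l * l')) • c') := by module
      rw [he, he', smul_zero, smul_zero, add_zero, zero_add, h.two] at h1
      exact (smul_eq_zero.1 h1).resolve_left hδ'
    subst hc0
    have hc0' : c' = 0 := by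
      rw [smul_zero, zero_add] at he he'
      by_contra hne
      have h1 := (smul_eq_zero.1 he).resolve_right hne
      have h2 := (smul_eq_zero.1 he').resolve_right hne
      apply hδ'
      rw [h1, h2, mul_zero, add_zero]
    subst hc0'
    exact ⟨rfl, smul_zero _, smul_zero _⟩
  have g4 : ∀ v : V, ∃ a ∈ (⊥ : AddSubgroup V), ∃ x ∈ X, ∃ y ∈ X, v = a + x + s • y := by
    intro v
    set δ := l * l + l' * l' with hδd
    have hσδ : σ δ⁻¹ = δ⁻¹ := by
      rw [map_inv₀, hδd, map_add, map_mul, map_mul, hl2, ← hl', add_comm]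
    have c1 : s • (δ⁻¹ • (l • v + l' • s • v)) = δ⁻¹ • (l • v + l' • s • v) := by
      rw [hσs, hσδ, smul_add, hσs, hσs, hss, hl2, ← hl', add_comm]
    have c2 : s • (δ⁻¹ • (l' • v + l • s • v)) = δ⁻¹ • (l' • v + l • s • v) := by
      rw [hσs, hσδ, smul_add, hσs, hσs, hss, hl2, ← hl', add_comm]
    refine ⟨0, AddSubgroup.zero_mem _, l • (δ⁻¹ • (l • v + l' • s • v)), ⟨_, c1, rfl⟩,
      l • (δ⁻¹ • (l' • v + l • s • v)), ⟨_, c2, rfl⟩, ?_⟩
    rw [zero_add, hσs, c2, ← hl']
    have e : ∀ z : V, l • (δ⁻¹ • (l • v + l' • z)) + l' • (δ⁻¹ • (l' • v + l • z)) =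
        (δ⁻¹ * (l * l + l' * l')) • v + ((δ⁻¹ * (l * l')) • z + (δ⁻¹ * (l * l')) • z) := fun z => by module
    rw [e, h.two, add_zero, ← hδd, inv_mul_cancel₀ hδ', one_smul]
  have hX0 : X ≠ ⊥ := by
    intro h0
    apply hv0
    obtain ⟨a, ha, x, hx, y, hy, e⟩ := g4 v0
    rw [h0, AddSubgroup.mem_bot] at hx hy
    rw [AddSubgroup.mem_bot] at ha
    rw [e, ha, hx, hy, smul_zero, add_zero, add_zero]
  obtain ⟨x, hx⟩ := h.ind hs hU1 hU g1 g2 g3 g4 hX0
  obtain ⟨v, hv1, hv2⟩ := h4 x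
  rcases hx v with h1 | h1
  · exact hv1 h1
  · exact hv2 h1

theorem smul_F (hl : ∀ u ∈ U, ∀ (k : K) (v : V), u • k • v = k • u • v) (k : K) {v : V} (hv : v ∈ F) :
    k • v ∈ F := by
  rw [h.F_iff]
  intro u hu
  rw [hl u hu, h.fix hv hu]

theorem smul_E (hl : ∀ u ∈ U, ∀ (k : K) (v : V), u • k • v = k • u • v) (k : K) {v : V} (hv : v ∈ E) :
    k • v ∈ E := by
  refine h.mem_E fun u hu => ?_
  rw [hl u hu, ← smul_add]
  exact h.smul_F hl k (h.EF u hu v hv)

/-- `E` as a `K`-subspace -/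
def EK (hl : ∀ u ∈ U, ∀ (k : K) (v : V), u • k • v = k • u • v) : Submodule K V :=
  { E with smul_mem' := fun k _ hv => h.smul_E hl k hv }

/-- `F` as a `K`-subspace -/
def FK (hl : ∀ u ∈ U, ∀ (k : K) (v : V), u • k • v = k • u • v) : Submodule K V :=
  { F with smul_mem' := fun k _ hv => h.smul_F hl k hv }

theorem mem_EK {hl : ∀ u ∈ U, ∀ (k : K) (v : V), u • k • v = k • u • v} {v : V} : v ∈ h.EK hl ↔ v ∈ E := Iff.rfl

theorem mem_FK {hl : ∀ u ∈ U, ∀ (k : K) (v : V), u • k • v = k • u • v} {v : V} : v ∈ h.FK hl ↔ v ∈ F := Iff.rfl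

end FlatA

/-- the `K`-linear action of `U` on `V` -/
def actK {U : Subgroup H} (hl : ∀ u ∈ U, ∀ (k : K) (v : V), u • k • v = k • u • v) : U →* Module.End K V where
  toFun u :=
    { toFun := fun v => (u : H) • v
      map_add' := smul_add (u : H)
      map_smul' := fun k v => hl u u.2 k v }
  map_one' := by
    ext v
    exact one_smul H v
  map_mul' := fun a b => by
    ext v
    exact mul_smul (a : H) (b : H) v

theorem actK_apply {U : Subgroup H} (hl : ∀ u ∈ U, ∀ (k : K) (v : V), u • k • v = k • u • v) (u : U) (v : V) :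
    actK hl u v = (u : H) • v := rfl

/-- the structure `KFlat` of (3)-(5) -/
theorem FlatA.kflat [FaithfulSMul H V] {U : Subgroup H} {E F : AddSubgroup V} (h : FlatA U E F)
    (hl : ∀ u ∈ U, ∀ (k : K) (v : V), u • k • v = k • u • v)
    (four : 4 * Nat.card E ≤ Nat.card V) (pf : Nat.card V ^ 2 * Nat.card F ≤ Nat.card E ^ 3)
    (rk : ∀ u ∈ U, Nat.card {v : V | ∃ w, v = u • w - w} * Nat.card F ≤ Nat.card E) :
    KFlat (actK hl) (h.EK hl) (h.FK hl) where
  sq u := Subtype.ext <| FaithfulSMul.eq_of_smul_eq_smul (α := V) fun v => by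
    change ((u : H) * u) • v = (1 : H) • v
    rw [mul_smul, h.inv u u.2, one_smul]
  faith u hu := Subtype.ext <| FaithfulSMul.eq_of_smul_eq_smul (α := V) fun v => by
    have h1 := LinearMap.congr_fun hu v
    rw [actK_apply] at h1
    rw [h1]
    exact (one_smul H v).symm
  fixF v := by
    rw [h.mem_FK, h.F_iff]
    exact ⟨fun h1 u => h1 u u.2, fun h1 u hu => h1 ⟨u, hu⟩⟩
  VE u v := by
    rw [h.mem_EK, actK_apply, sub_eq_add_neg, h.neg]
    exact h.VE u u.2 v
  EF u e he := by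
    rw [h.mem_FK, actK_apply, sub_eq_add_neg, h.neg]
    exact h.EF u u.2 e he
  reg w hw e he := by
    obtain ⟨u, hu, h1⟩ := h.reg w hw e he
    refine ⟨⟨u, hu⟩, ?_⟩
    rw [h.mem_FK, actK_apply]
    have e1 : e - (u • w - w) = u • w + w + e := by
      rw [sub_eq_add_neg, sub_eq_add_neg, h.neg, h.neg, add_comm]
    rw [e1]
    exact h1
  four := four
  pf := pf
  rk u := by
    have e : Nat.card (LinearMap.range (actK hl u - 1)) = Nat.card {v : V | ∃ w, v = (u : H) • w - w} := by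
      refine Nat.card_congr (Equiv.setCongr ?_)
      ext v
      constructor
      · rintro ⟨w, hw⟩
        exact ⟨w, hw.symm⟩
      · rintro ⟨w, hw⟩
        exact ⟨w, hw.symm⟩
    rw [e]
    exact rk u u.2

/-- `4 |E| ≤ |V|` -/
theorem four_of_card {E : AddSubgroup V} [Finite V] (four : 4 * Nat.card E ≤ Nat.card V) (x : V) :
    ∃ v, v ∉ E ∧ v + x ∉ E := by
  by_contra hcon
  push Not at hcon
  have h1 : E.index ≤ 2 := by
    have h2 : Function.Surjective (fun b : Bool => (if b then (0 : V ⧸ E) else ((-x : V) : V ⧸ E))) := by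
      intro q
      induction q using QuotientAddGroup.induction_on with
      | H v =>
        by_cases hv : v ∈ E
        · exact ⟨true, by simpa using ((QuotientAddGroup.eq_zero_iff v).2 hv).symm⟩
        · refine ⟨false, ?_⟩
          have h3 := hcon v hv
          simp only [Bool.false_eq_true, if_false]
          rw [QuotientAddGroup.eq, neg_neg, add_comm]
          exact h3
    have h3 := Nat.card_le_card_of_surjective _ h2
    rw [Nat.card_eq_fintype_card (α := Bool), Fintype.card_bool] at h3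
    exact h3
  have h2 := AddSubgroup.card_mul_index E
  have h3 : 0 < Nat.card E := Nat.card_pos
  nlinarith

end Cfsg.Agent.Omega.NO1.Comp
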