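import Cfsg.Agent.Omega.NO1.Comp.Comp
import Cfsg.Agent.Omega.NO1.Comp.Lin
import Cfsg.Agent.Omega.NO1.Comp.Glue
import Cfsg.Agent.Omega.NO1.Comp.Four
import Cfsg.Agent.Omega.NO1.Comp.Dim

/-!
# THEOREM COMP (#17539): assembly, tools (helper789)

* `linSet_conj`, `two_of3`, `dim_of` : from a group with commuting perfect subgroups to `Two`, `Dec`;
* `Inp` : the module facts for `U ≤ Y` acting on `M`; `Inp.exists_field`.
-/

set_option autoImplicit false
set_option linter.unusedSectionVars false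

namespace Cfsg.Agent.Omega.NO1.Comp

open Module TensorProduct Cfsg.Agent.Lib.ComponentSolvable

universe u

/-! ### Sets of linear maps -/

section lin

variable {Y V K : Type u} [Group Y] [AddCommGroup V] [DistribMulAction Y V] [Field K] [Module K V]

/-- the linear map of a group element -/
def linOf (y : Y) (h : ∀ (k : K) (v : V), y • k • v = k • y • v) : Module.End K V where
  toFun v := y • v
  map_add' := smul_add y
  map_smul' := h

theorem linOf_apply (y : Y) (h : ∀ (k : K) (v : V), y • k • v = k • y • v) (v : V) : linOf y h v = y • v := rfl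

theorem linOf_mem {E : Set Y} {y : Y} (hy : y ∈ E) (h : ∀ (k : K) (v : V), y • k • v = k • y • v) :
    linOf y h ∈ linSet K V E := ⟨y, hy, fun _ => rfl⟩

theorem linSet_mono {E E' : Set Y} (h : E ⊆ E') : linSet K V E ⊆ linSet K V E' := by
  rintro l ⟨y, hy, hl⟩
  exact ⟨y, h hy, hl⟩

/-- conjugation -/
theorem linSet_conj {N N' : Subgroup Y} (hlin : ∀ y ∈ N', ∀ (k : K) (v : V), y • k • v = k • y • v) {u : Y}
    (hu : ∀ n ∈ N, u * n * u⁻¹ ∈ N') {l : Module.End K V} (hl : l ∈ linSet K V (N : Set Y)) :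
    ∃ l' ∈ linSet K V (N' : Set Y), ∀ v, u • l v = l' (u • v) := by
  obtain ⟨n, hn, hl⟩ := hl
  refine ⟨linOf _ (hlin _ (hu n hn)), linOf_mem (hu n hn) _, fun v => ?_⟩
  rw [hl, linOf_apply, smul_smul, smul_smul]
  congr 1
  group

theorem linSet_comm {N N' : Subgroup Y} (h : ∀ x ∈ N, ∀ y ∈ N', x * y = y * x) :
    ∀ l ∈ linSet K V (N : Set Y), ∀ c ∈ linSet K V (N' : Set Y), l * c = c * l := by
  rintro f ⟨l, hl, hf⟩ g ⟨c, hc, hg⟩
  ext v
  rw [Module.End.mul_apply, Module.End.mul_apply, hf, hg, hg, hf, smul_smul, smul_smul, h l hl c hc]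

/-- **three commuting subgroups** -/
theorem two_of3 {N₁ N₂ N₃ : Subgroup Y} (c₁₂ : ∀ x ∈ N₁, ∀ y ∈ N₂, x * y = y * x)
    (c₁₃ : ∀ x ∈ N₁, ∀ y ∈ N₃, x * y = y * x)
    (lin : ∀ y ∈ N₁ ⊔ N₂ ⊔ N₃, ∀ (k : K) (v : V), y • (k • v) = k • (y • v))
    (irr : ∀ W : AddSubgroup V, (∀ y ∈ N₁ ⊔ N₂ ⊔ N₃, ∀ w ∈ W, y • w ∈ W) → W = ⊥ ∨ W = ⊤)
    (sch : ∀ f : V →+ V, (∀ y ∈ N₁ ⊔ N₂ ⊔ N₃, ∀ v, f (y • v) = y • f v) → ∃ k : K, ∀ v, f v = k • v) :
    Two (linSet K V (N₁ : Set Y)) (linSet K V (N₂ : Set Y) ∪ linSet K V (N₃ : Set Y)) := by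
  have h1 : N₁ ≤ N₁ ⊔ N₂ ⊔ N₃ := le_sup_left.trans le_sup_left
  have h2 : N₂ ≤ N₁ ⊔ N₂ ⊔ N₃ := le_sup_right.trans le_sup_left
  have h3 : N₃ ≤ N₁ ⊔ N₂ ⊔ N₃ := le_sup_right
  have sub : ∀ {N : Subgroup Y}, N ≤ N₁ ⊔ N₂ ⊔ N₃ → ∀ U : Submodule K V,
      (∀ l ∈ linSet K V (N : Set Y), ∀ v ∈ U, l v ∈ U) → N ≤ stabSub U.toAddSubgroup := by
    intro N hN U hU y hy
    exact ⟨fun w hw => hU _ (linOf_mem hy (lin y (hN hy))) w hw,
      fun w hw => hU _ (linOf_mem (N.inv_mem hy) (lin _ (hN (N.inv_mem hy)))) w hw⟩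
  have com : ∀ {N : Subgroup Y}, N ≤ N₁ ⊔ N₂ ⊔ N₃ → ∀ f : Module.End K V,
      (∀ l ∈ linSet K V (N : Set Y), f * l = l * f) → N ≤ commSub (f : V →+ V) := by
    intro N hN f hf y hy v
    exact LinearMap.congr_fun (hf _ (linOf_mem hy (lin y (hN hy)))) v
  refine ⟨?_, ?_, ?_⟩
  · rintro l hl c (hc | hc)
    · exact linSet_comm c₁₂ l hl c hc
    · exact linSet_comm c₁₃ l hl c hc
  · intro U hU1 hU2
    have key := sup_le (sup_le (sub h1 U hU1) (sub h2 U fun c hc => hU2 c (Or.inl hc)))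
      (sub h3 U fun c hc => hU2 c (Or.inr hc))
    rcases irr U.toAddSubgroup (fun y hy => (key hy).1) with h4 | h4
    · left
      ext w
      rw [← Submodule.mem_toAddSubgroup, h4]; rfl
    · right
      ext w
      rw [← Submodule.mem_toAddSubgroup, h4]
      exact ⟨fun _ => trivial, fun _ => trivial⟩
  · intro f h4 h5
    have key := sup_le (sup_le (com h1 f h4) (com h2 f fun c hc => h5 c (Or.inl hc)))
      (com h3 f fun c hc => h5 c (Or.inr hc))
    exact sch (f : V →+ V) fun y hy => key hy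

/-- **dimensions** -/
theorem dim_of [FaithfulSMul Y V] [Finite K] {N : Subgroup Y} (hN : ⁅N, N⁆ = N) (hN1 : N ≠ ⊥)
    (lin : ∀ y ∈ N, ∀ (k : K) (v : V), y • k • v = k • y • v) {W M' : Type u} [AddCommGroup W] [Module K W]
    [AddCommGroup M'] [Module K M'] [Finite W] [Nontrivial M'] (φ : W ⊗[K] M' ≃ₗ[K] V)
    (ρ : Module.End K V → Module.End K W)
    (h : ∀ l ∈ linSet K V (N : Set Y), ∀ w m, l (φ (w ⊗ₜ m)) = φ (ρ l w ⊗ₜ m)) :
    2 ≤ finrank K W ∧ (Nat.card K = 2 → 3 ≤ finrank K W) := by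
  obtain ⟨m₀, hm₀⟩ := exists_ne (0 : M')
  obtain ⟨p, hp⟩ := exists_dual (K := K) hm₀
  have hinj : ∀ w w' : W, φ (w ⊗ₜ m₀) = φ (w' ⊗ₜ m₀) → w = w' := by
    intro w w' h1
    have h3 := congrArg (TensorProduct.lift ((LinearMap.lsmul K W).flip.compl₂ p) : W ⊗[K] M' →ₗ[K] W)
      (φ.injective h1)
    simpa [hp] using h3
  let g : N → Module.End K W := fun n => ρ (linOf (n : Y) (lin n n.2))
  have hg : ∀ (n : N) w m, (n : Y) • φ (w ⊗ₜ m) = φ (g n w ⊗ₜ m) := fun n w m =>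
    h _ (linOf_mem n.2 _) w m
  let f : N →* Module.End K W :=
    { toFun := g
      map_one' := by
        ext w
        apply hinj
        rw [← hg]
        exact one_smul Y _
      map_mul' := fun a b => by
        ext w
        apply hinj
        rw [← hg, Module.End.mul_apply, ← hg, ← hg, smul_smul]
        rfl }
  have hperf : ⁅(⊤ : Subgroup N), (⊤ : Subgroup N)⁆ = ⊤ := by
    apply Subgroup.map_injective N.subtype_injective
    rw [Subgroup.map_commutator, ← MonoidHom.range_eq_map, N.range_subtype]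
    exact hN
  have : Module.Finite K W := Module.Finite.of_finite
  refine two_le_finrank hperf f ?_
  by_contra hcon
  push Not at hcon
  apply hN1
  rw [eq_bot_iff]
  intro n hn
  rw [Subgroup.mem_bot]
  apply FaithfulSMul.eq_of_smul_eq_smul (α := V)
  intro v
  rw [one_smul]
  have h1 : linOf n (lin n hn) = (1 : Module.End K V) := by
    have h2 : (linOf n (lin n hn) : Module.End K V) ∘ₗ (φ : W ⊗[K] M' →ₗ[K] V) = φ := by
      apply TensorProduct.ext'
      intro w m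
      show n • φ (w ⊗ₜ m) = φ (w ⊗ₜ m)
      rw [hg ⟨n, hn⟩ w m]
      have h3 : g ⟨n, hn⟩ = 1 := hcon ⟨n, hn⟩
      rw [h3]; rfl
    ext v
    obtain ⟨x, rfl⟩ := φ.surjective v
    exact LinearMap.congr_fun h2 x
  exact LinearMap.congr_fun h1 v

end lin

/-! ### The input -/

section inp

variable {Y M : Type u} [Group Y] [Finite Y] [AddCommGroup M] [Finite M] [DistribMulAction Y M] [FaithfulSMul Y M]

/-- the module facts -/
structure Inp (U : Subgroup Y) (E F : AddSubgroup M) : Prop where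
  flat : FlatA U E F
  four : 4 * Nat.card E ≤ Nat.card M
  pf : Nat.card M ^ 2 * Nat.card F ≤ Nat.card E ^ 3
  rk : ∀ u ∈ U, Nat.card {v : M | ∃ w, v = u • w - w} * Nat.card F ≤ Nat.card E
  irr : ∀ X : AddSubgroup M, (∀ x ∈ layer Y, ∀ m ∈ X, x • m ∈ X) → X = ⊥ ∨ X = ⊤

variable {U : Subgroup Y} {E F : AddSubgroup M}

theorem Inp.sq (h : Inp U E F) : ∀ u ∈ U, u * u = 1 := by
  intro u hu
  apply FaithfulSMul.eq_of_smul_eq_smul (α := M)
  intro v
  rw [mul_smul, h.flat.inv u hu, one_smul]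

theorem Inp.nontrivial (h : Inp U E F) : Nontrivial M := by
  obtain ⟨w, hw⟩ := h.flat.ne'
  exact ⟨⟨w, 0, fun h1 => hw (h1 ▸ E.zero_mem)⟩⟩

/-- the field data -/
structure Fld (U : Subgroup Y) (K M : Type u) [AddCommGroup M] [DistribMulAction Y M] [Field K] [Module K M] :
    Prop where
  lin : ∀ y ∈ layer Y, ∀ (k : K) (v : M), y • (k • v) = k • (y • v)
  sch : ∀ f : M →+ M, (∀ y ∈ layer Y, ∀ v, f (y • v) = y • f v) → ∃ k : K, ∀ v, f v = k • v
  semi : ∀ y : Y, ∃ σ : K ≃+* K, ∀ (k : K) (v : M), y • (k • v) = σ k • (y • v)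
  hl : ∀ u ∈ U, ∀ (k : K) (v : M), u • k • v = k • u • v

theorem Inp.exists_field (h : Inp U E F) :
    ∃ (K : Type u) (_ : Field K) (_ : Finite K) (_ : CharP K 2) (_ : Module K M), Fld U K M := by
  have := h.nontrivial
  obtain ⟨K, iF, ifin, iM, h1, h2, h3⟩ := exists_field_grp (V := M) (layer Y) h.irr
  have hn : (layer Y).Normal := Grp.layer_normal
  have h4 : ∀ y : Y, ∃ σ : K ≃+* K, ∀ (k : K) (v : M), y • (k • v) = σ k • (y • v) := by
    intro y
    apply h3 y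
    rw [Subgroup.mem_normalizer_iff]
    intro x
    constructor
    · intro hx; exact hn.conj_mem x hx y
    · intro hx
      have h5 := hn.conj_mem _ hx y⁻¹
      have h6 : y⁻¹ * (y * x * y⁻¹) * y⁻¹⁻¹ = x := by group
      rwa [h6] at h5
  exact ⟨K, iF, ifin, h.flat.charP (K := K), iM, h1, h2, h4,
    h.flat.lin (four_of_card h.four) fun u _ => h4 u⟩

end inp

end Cfsg.Agent.Omega.NO1.Comp
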