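import Cfsg.Agent.Omega.EH3.Clif.Rep
import Cfsg.Agent.Omega.NO1.Comp.Comp

/-!
# N1, THEOREM COMP: `V` is irreducible for `E(Y)` (project OMEGA)

Text: helper390 (bb OMEGA #17539, (1)), part (III) of the split #18039. Typed by helper570.

`M` a finite elementary abelian 2-group on which `Y` acts irreducibly and preserves no decomposition (`Prim`).

* `irr_normal` : `N` normal, `T` a 2-subgroup, `N ⊔ T = ⊤` ⟹ `M` is irreducible for `N`.
* `Grp.Sit.irr_layer` : `M` is irreducible for `E(Y)`.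
-/

set_option autoImplicit false
set_option linter.unusedSectionVars false

namespace Cfsg.Agent.Omega.NO1.Comp.Irr

open Subgroup Cfsg Cfsg.Agent.Omega.EH3.Clif Module

variable {Y M : Type*} [Group Y] [AddCommGroup M] [DistribMulAction Y M]

/-- the image of a subgroup -/
def ya (y : Y) (A : AddSubgroup M) : AddSubgroup M := A.map (DistribSMul.toAddMonoidHom M y)

theorem mem_ya {y : Y} {A : AddSubgroup M} {m : M} : m ∈ ya y A ↔ y⁻¹ • m ∈ A := by
  constructor
  · rintro ⟨a, ha, rfl⟩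
    show y⁻¹ • (y • a) ∈ A
    rwa [inv_smul_smul]
  · intro h
    exact ⟨_, h, by show y • (y⁻¹ • m) = m; rw [smul_inv_smul]⟩

theorem ya_ya (x y : Y) (A : AddSubgroup M) : ya x (ya y A) = ya (x * y) A := by
  ext m
  rw [mem_ya, mem_ya, mem_ya, mul_inv_rev, mul_smul]

theorem ya_one (A : AddSubgroup M) : ya (1 : Y) A = A := by
  ext m
  rw [mem_ya, inv_one, one_smul]

variable (Y M) in
/-- `Y` permutes transitively the members of no decomposition of `M` -/
def Prim : Prop := ∀ 𝒮 : Set (AddSubgroup M), (∀ A ∈ 𝒮, A ≠ ⊥) → (∀ y : Y, ∀ A ∈ 𝒮, ya y A ∈ 𝒮) →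
  (∀ A ∈ 𝒮, ∀ B ∈ 𝒮, ∃ y : Y, ya y A = B) → sSupIndep 𝒮 → sSup 𝒮 = ⊤ → ∀ A ∈ 𝒮, A = ⊤

variable (Y M) in
/-- no proper invariant subgroups -/
def Irred : Prop := ∀ W : AddSubgroup M, (∀ y : Y, ∀ m ∈ W, y • m ∈ W) → W = ⊥ ∨ W = ⊤

section

variable [Module (ZMod 2) M]

variable (Y M) in
/-- the action, linear -/
def rho : Y →* (M ≃ₗ[ZMod 2] M) where
  toFun y :=
    { DistribMulAction.toAddEquiv M y with
      map_smul' := by
        intro c m
        rcases EH3.zmod_two c with rfl | rfl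
        · show y • ((0 : ZMod 2) • m) = (0 : ZMod 2) • (y • m)
          rw [zero_smul, zero_smul, smul_zero]
        · show y • ((1 : ZMod 2) • m) = (1 : ZMod 2) • (y • m)
          rw [one_smul, one_smul] }
  map_one' := by
    ext m
    exact one_smul Y m
  map_mul' := by
    intro x y
    ext m
    exact mul_smul x y m

@[simp] theorem rho_apply (y : Y) (m : M) : rho Y M y m = y • m := rfl

theorem two' (m : M) : m + m = 0 := by
  rw [← two_smul (ZMod 2) m]
  have : (2 : ZMod 2) = 0 := rfl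
  rw [this, zero_smul]

theorem irred_sub (h : Irred Y M) (W : Submodule (ZMod 2) M) (hW : ∀ y, ∀ v ∈ W, rho Y M y v ∈ W) :
    W = ⊥ ∨ W = ⊤ := by
  rcases h W.toAddSubgroup hW with h1 | h1
  · left
    rw [eq_bot_iff]
    intro v hv
    have : v ∈ W.toAddSubgroup := hv
    rw [h1] at this
    exact this
  · right
    rw [eq_top_iff]
    intro v _
    have : v ∈ W.toAddSubgroup := by rw [h1]; exact AddSubgroup.mem_top v
    exact this

theorem irr_aux [Finite M] (hirr : Irred Y M) (prim : Prim Y M) {N T : Subgroup Y} (hN : N.Normal)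
    (hT : IsPGroup 2 T) (hNT : N ⊔ T = ⊤) (W : AddSubgroup M) (hW : ∀ x ∈ N, ∀ m ∈ W, x • m ∈ W) :
    W = ⊥ ∨ W = ⊤ := by
  classical
  rcases subsingleton_or_nontrivial M with hM | hM
  · left
    rw [eq_bot_iff]
    intro v _
    rw [Subsingleton.elim v 0]
    exact (⊥ : AddSubgroup M).zero_mem
  set ρ := rho Y M with hρ
  have hss : IsSemisimpleModule (S ρ N) M := semisimple_normal (irred_sub hirr) hN
  have hNor : ∀ x : (⊤ : Subgroup Y), Nor (S ρ N) (rep ρ ⊤ x) := fun x =>
    nor_rep x (fun n hn => by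
      have := hN.conj_mem n hn (x : Y)⁻¹
      rwa [inv_inv] at this) fun n hn => hN.conj_mem n hn x
  have hNorT : ∀ x : T, Nor (S ρ N) (rep ρ T x) := fun x =>
    nor_rep x (fun n hn => by
      have := hN.conj_mem n hn (x : Y)⁻¹
      rwa [inv_inv] at this) fun n hn => hN.conj_mem n hn x
  obtain ⟨S₀, hS₀⟩ := IsAtomic.exists_atom (Submodule (S ρ N) M)
  rw [← isSimpleModule_iff_isAtom] at hS₀
  let c : Submodule (S ρ N) M := isotypicComponent (S ρ N) M S₀
  have hc : c ∈ isotypicComponents (S ρ N) M := ⟨S₀, hS₀, rfl⟩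
  -- one isotypic component
  have hcy : ∀ y : Y, ∃ d ∈ isotypicComponents (S ρ N) M, ya y c.toAddSubgroup = d.toAddSubgroup := by
    intro y
    refine ⟨cs (rep ρ ⊤ ⟨y, mem_top y⟩) (hNor _) c, cs_mem _ _ hc, ?_⟩
    ext v
    rw [mem_ya]
    show _ ↔ (rep ρ ⊤ ⟨y, mem_top y⟩).symm v ∈ c
    rw [rep_symm]
    rfl
  have hc0 : c.toAddSubgroup ≠ ⊥ := by
    intro h2
    apply (bot_lt_isotypicComponents hc).ne'
    rw [eq_bot_iff]
    intro v hv
    have : v ∈ c.toAddSubgroup := hv
    rw [h2] at this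
    exact this
  have htop : c = ⊤ := by
    have h1 := prim (Set.range fun y : Y => ya y c.toAddSubgroup) ?_ ?_ ?_ ?_ ?_ c.toAddSubgroup ⟨1, ya_one _⟩
    · rw [eq_top_iff]
      intro v _
      have : v ∈ c.toAddSubgroup := by rw [h1]; exact AddSubgroup.mem_top v
      exact this
    · rintro _ ⟨y, rfl⟩ h2
      apply hc0
      change ya y c.toAddSubgroup = ⊥ at h2
      have h3 := congrArg (ya y⁻¹) h2
      rw [ya_ya, inv_mul_cancel, ya_one] at h3
      rw [h3]
      exact AddSubgroup.map_bot _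
    · rintro y _ ⟨x, rfl⟩
      exact ⟨y * x, (ya_ya _ _ _).symm⟩
    · rintro _ ⟨x, rfl⟩ _ ⟨y, rfl⟩
      refine ⟨y * x⁻¹, ?_⟩
      show ya (y * x⁻¹) (ya x c.toAddSubgroup) = ya y c.toAddSubgroup
      rw [ya_ya, inv_mul_cancel_right]
    · have h2 := sSupIndep_isotypicComponents (S ρ N) M
      rintro _ ⟨y, rfl⟩
      obtain ⟨d, hd, e⟩ := hcy y
      change Disjoint (ya y c.toAddSubgroup) (sSup ((Set.range fun y : Y => ya y c.toAddSubgroup) \ {ya y c.toAddSubgroup}))
      rw [e, disjoint_iff, eq_bot_iff]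
      rintro v ⟨hv1, hv2⟩
      have h3 := h2 hd
      rw [disjoint_iff, eq_bot_iff] at h3
      have h4 : sSup ((Set.range fun y : Y => ya y c.toAddSubgroup) \ {d.toAddSubgroup}) ≤
          (sSup (isotypicComponents (S ρ N) M \ {d})).toAddSubgroup := by
        apply sSup_le
        rintro _ ⟨⟨x, rfl⟩, hne⟩
        obtain ⟨f, hf, e'⟩ := hcy x
        change ya x c.toAddSubgroup ≤ _
        rw [e']
        have h5 : f ≤ sSup (isotypicComponents (S ρ N) M \ {d}) := by
          apply le_sSup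
          refine ⟨hf, fun h => hne ?_⟩
          rw [← Set.mem_singleton_iff.mp h]
          exact e'
        exact h5
      exact h3 ⟨hv1, h4 hv2⟩
    · refine (hirr _ ?_).resolve_left ?_
      · intro y v hv
        have h6 : ya y (sSup (Set.range fun y : Y => ya y c.toAddSubgroup)) ≤
            sSup (Set.range fun y : Y => ya y c.toAddSubgroup) := by
          unfold ya
          rw [AddSubgroup.map_le_iff_le_comap]
          apply sSup_le
          rintro _ ⟨x, rfl⟩
          rw [← AddSubgroup.map_le_iff_le_comap]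
          refine le_trans ?_ (le_sSup ⟨y * x, rfl⟩)
          exact (ya_ya _ _ _).le
        exact h6 ⟨v, hv, rfl⟩
      · intro h2
        apply hc0
        rw [eq_bot_iff, ← h2]
        exact le_sSup ⟨1, ya_one _⟩
  have hiso : IsIsotypicOfType (S ρ N) M S₀ := IsIsotypicOfType.of_isotypicComponent_eq_top htop
  obtain ⟨U, hU, -, hUinv⟩ := exists_inv_simple two' hT (rep ρ T) hNorT (V₁ := (⊤ : Submodule (S ρ N) M))
    (M₀ := S₀) (fun _ _ _ => Submodule.mem_top) hS₀ le_top (by
      intro M'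
      have := M'.2.1
      obtain ⟨φ⟩ := hiso M'.1
      exact ⟨φ.symm⟩)
  have hUtop : U = ⊤ := by
    have h1 : ∀ y : Y, ∀ m ∈ U.toAddSubgroup, y • m ∈ U.toAddSubgroup := by
      intro y m hm
      have h2 : y ∈ T ⊔ N := by rw [sup_comm, hNT]; exact mem_top y
      obtain ⟨t, ht, x, hx, rfl⟩ := mem_sup_of_normal_right.mp h2
      rw [mul_smul]
      exact hUinv ⟨t, ht⟩ _ (inv_of_sub U hx hm)
    rcases hirr _ h1 with h2 | h2
    · exfalso
      have : Nontrivial U := IsSimpleModule.nontrivial (S ρ N) U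
      obtain ⟨m, hm⟩ := exists_ne (0 : U)
      apply hm
      apply Subtype.ext
      have : (m : M) ∈ U.toAddSubgroup := m.2
      rw [h2] at this
      exact this
    · rw [eq_top_iff]
      intro v _
      have : v ∈ U.toAddSubgroup := by rw [h2]; exact AddSubgroup.mem_top v
      exact this
  rw [isSimpleModule_iff_isAtom, hUtop] at hU
  by_cases h1 : toSub (ρ := ρ) W hW = ⊤
  · right
    rw [eq_top_iff]
    intro v _
    have : v ∈ toSub (ρ := ρ) W hW := by rw [h1]; exact Submodule.mem_top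
    exact this
  · left
    have h2 := hU.2 _ (lt_top_iff_ne_top.mpr h1)
    rw [eq_bot_iff]
    intro v hv
    have : v ∈ toSub (ρ := ρ) W hW := hv
    rw [h2, Submodule.mem_bot] at this
    rw [this]
    exact AddSubgroup.zero_mem _

end

/-- `M` is irreducible for a normal subgroup `N` with `Y = NT`, `T` a 2-group -/
theorem irr_normal [Finite M] (two : ∀ m : M, m + m = 0) (hirr : Irred Y M) (prim : Prim Y M) {N T : Subgroup Y}
    (hN : N.Normal) (hT : IsPGroup 2 T) (hNT : N ⊔ T = ⊤) (W : AddSubgroup M)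
    (hW : ∀ x ∈ N, ∀ m ∈ W, x • m ∈ W) : W = ⊥ ∨ W = ⊤ := by
  let _ : Module (ZMod 2) M := AddCommGroup.zmodModule (n := 2) (fun x => by rw [two_nsmul]; exact two x)
  exact irr_aux hirr prim hN hT hNT W hW

/-- `M` is irreducible for `E(Y)` -/
theorem _root_.Cfsg.Agent.Omega.NO1.Comp.Grp.Sit.irr_layer [Finite Y] [Finite M] {T : Sylow 2 Y} {Mx K : Subgroup Y}
    (h : Grp.Sit T Mx K) (two : ∀ m : M, m + m = 0) (hirr : Irred Y M) (prim : Prim Y M) (W : AddSubgroup M)
    (hW : ∀ x ∈ layer Y, ∀ m ∈ W, x • m ∈ W) : W = ⊥ ∨ W = ⊤ :=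
  irr_normal two hirr prim Grp.layer_normal T.2 h.layer_sup W hW

end Cfsg.Agent.Omega.NO1.Comp.Irr
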