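import Cfsg.Agent.Omega.NO1.Comp.Inp

/-!
# THEOREM COMP (#17539): assembly, `U` normalises every component; at most two components (helper789)

* `Inp.norm` : (4) for the group;
* `Inp.two` : 'n = 2': every component is one of two given different components.
-/

set_option autoImplicit false
set_option linter.unusedSectionVars false
set_option maxHeartbeats 400000

namespace Cfsg.Agent.Omega.NO1.Comp

open Module TensorProduct Cfsg.Agent.Lib.ComponentSolvable Subgroup
open Cfsg.Agent.Omega.EH3.Clif.Comp (ne_bot)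

universe u

/-! ### The extension of a homomorphism from a subgroup of index 2 -/

section ext

variable {U : Type*} [Group U] {R : Type*} [Monoid R]

/-- `χ` on `U = U₁ ∪ s U₁` -/
theorem exists_ext (hsq : ∀ u : U, u * u = 1) {U₁ : Subgroup U} (hidx : U₁.index = 2) {s : U} (hs : s ∉ U₁)
    (x : U₁ →* R) (t : R) (ht : t * t = 1) (hc : ∀ u, t * x u = x u * t) :
    ∃ χ : U →* R, (∀ u : U₁, χ u = x u) ∧ χ s = t := by
  classical
  have hcom : ∀ a b : U, a * b = b * a := by
    intro a b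
    have h3 : ∀ c : U, c⁻¹ = c := fun c => inv_eq_of_mul_eq_one_left (hsq c)
    calc a * b = (a * b)⁻¹ := (h3 _).symm
      _ = b * a := by rw [mul_inv_rev, h3, h3]
  have hmem : ∀ a b : U, a * b ∈ U₁ ↔ (a ∈ U₁ ↔ b ∈ U₁) := fun a b => Subgroup.mul_mem_iff_of_index_two hidx
  have hsu : ∀ u : U, u ∉ U₁ → s * u ∈ U₁ := fun u hu => (hmem s u).2 ⟨fun h => absurd h hs, fun h => absurd h hu⟩
  let f : U → R := fun u => if hu : u ∈ U₁ then x ⟨u, hu⟩ else x ⟨s * u, hsu u hu⟩ * t
  have f1 : ∀ u (hu : u ∈ U₁), f u = x ⟨u, hu⟩ := fun u hu => dif_pos hu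
  have f2 : ∀ u (hu : u ∉ U₁), f u = x ⟨s * u, hsu u hu⟩ * t := fun u hu => dif_neg hu
  refine ⟨{ toFun := f, map_one' := ?_, map_mul' := ?_ }, ?_, ?_⟩
  · rw [f1 1 U₁.one_mem]
    exact map_one x
  · intro a b
    by_cases ha : a ∈ U₁ <;> by_cases hb : b ∈ U₁
    · rw [f1 a ha, f1 b hb, f1 _ (U₁.mul_mem ha hb), ← map_mul]
      rfl
    · have hab : a * b ∉ U₁ := fun h => hb (((hmem a b).1 h).1 ha)
      have e : (⟨s * (a * b), hsu _ hab⟩ : U₁) = ⟨a, ha⟩ * ⟨s * b, hsu b hb⟩ := by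
        apply Subtype.ext
        show s * (a * b) = a * (s * b)
        rw [← mul_assoc, hcom s a, mul_assoc]
      rw [f1 a ha, f2 b hb, f2 _ hab, e, map_mul, mul_assoc]
    · have hab : a * b ∉ U₁ := fun h => ha (((hmem a b).1 h).2 hb)
      have e : (⟨s * (a * b), hsu _ hab⟩ : U₁) = ⟨s * a, hsu a ha⟩ * ⟨b, hb⟩ := by
        apply Subtype.ext
        show s * (a * b) = s * a * b
        rw [mul_assoc]
      rw [f2 a ha, f1 b hb, f2 _ hab, e, map_mul, mul_assoc, mul_assoc, hc]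
    · have hab : a * b ∈ U₁ := (hmem a b).2 ⟨fun h => absurd h ha, fun h => absurd h hb⟩
      have e : (⟨a * b, hab⟩ : U₁) = ⟨s * a, hsu a ha⟩ * ⟨s * b, hsu b hb⟩ := by
        apply Subtype.ext
        show a * b = s * a * (s * b)
        rw [hcom s a, mul_assoc, ← mul_assoc s s b, hsq, one_mul]
      rw [f2 a ha, f2 b hb, f1 _ hab, e, map_mul, mul_assoc, ← mul_assoc t, hc, mul_assoc, ht, mul_one]
  · intro u
    exact f1 u u.2
  · show f s = t
    rw [f2 s hs]
    have h1 : (⟨s * s, hsu s hs⟩ : U₁) = 1 := Subtype.ext (hsq s)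
    rw [h1, map_one, one_mul]

end ext

section move

variable {Y M : Type u} [Group Y] [Finite Y] [AddCommGroup M] [Finite M] [DistribMulAction Y M] [FaithfulSMul Y M]
variable {U : Subgroup Y} {E F : AddSubgroup M} {K : Type u} [Field K] [Finite K] [CharP K 2] [Module K M]

/-- **(4)** : `U` normalises every component -/
theorem Inp.norm (h : Inp U E F) (hf : Fld U K M) {L : Subgroup Y} (hL : IsComponent L) :
    U ≤ normalizer (L : Set Y) := by
  by_contra hmv
  obtain ⟨N₁, N₂, N₃, A, m⟩ := Grp.exists_mv h.sq hL hmv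
  have := h.nontrivial
  have hT := two_of3 (K := K) (V := M) m.c₁₂ m.c₁₃ (by rw [m.sup]; exact hf.lin) (by rw [m.sup]; exact h.irr)
    (by rw [m.sup]; exact hf.sch)
  have l₁ : N₁ ≤ layer Y := by rw [← m.sup]; exact le_sup_left.trans le_sup_left
  have l₂ : N₂ ≤ layer Y := by rw [← m.sup]; exact le_sup_right.trans le_sup_left
  obtain ⟨U₁, hU₁⟩ : ∃ U₁, U₁ = A.subgroupOf U := ⟨_, rfl⟩
  have hidx : U₁.index = 2 := by rw [hU₁]; exact m.idx
  obtain ⟨s, hs⟩ : ∃ s : U, s ∉ U₁ := by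
    by_contra hcon
    push Not at hcon
    have h1 : U₁ = ⊤ := (Subgroup.eq_top_iff' _).2 hcon
    rw [h1, Subgroup.index_top] at hidx
    norm_num at hidx
  have hsA : (s : Y) ∉ A := fun h1 => hs (by rw [hU₁]; exact mem_subgroupOf.2 h1)
  have h2 : ∀ u : U, u * u = 1 := fun u => Subtype.ext (h.sq u u.2)
  have hUA : ∀ u ∈ U₁, (u : Y) ∈ A := fun u hu => by rw [hU₁] at hu; exact mem_subgroupOf.1 hu
  have hconj : ∀ {N N' : Subgroup Y} {u : Y}, N.map (MulAut.conj u).toMonoidHom = N' → ∀ n ∈ N, u * n * u⁻¹ ∈ N' := by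
    intro N N' u h1 n hn
    rw [← h1]
    exact ⟨n, hn, rfl⟩
  obtain ⟨Vp, X, iV1, iV2, iX1, iX2, iVf, iXf, iVn, iXn, ρ, ψ, p, x, sX, e1, e2, e3, e4, e5, -, -⟩ :=
    exists_four hT (linSet_comm m.c₂₃) (actK hf.hl) h2 U₁ s
      (fun u hu l hl => linSet_conj (fun y hy => hf.lin y (l₁ hy))
        (fun n hn => (mem_normalizer_iff.1 (m.A₁ (hUA u hu)) n).1 hn) hl)
      (fun u hu l hl => linSet_conj (fun y hy => hf.lin y (l₂ hy))
        (fun n hn => (mem_normalizer_iff.1 (m.A₂ (hUA u hu)) n).1 hn) hl)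
      (fun l hl => linSet_conj (fun y hy => hf.lin y (l₂ hy)) (hconj (m.sw s s.2 hsA)) hl)
      (fun l hl => linSet_conj (fun y hy => hf.lin y (l₁ hy)) (hconj (m.sw' s s.2 hsA)) hl)
  obtain ⟨χ, hχ1, hχ2⟩ := exists_ext h2 hidx hs x sX e3 e4
  let r := actK (V := M) hf.hl
  let act' : U →* Module.End K ((Vp ⊗[K] Vp) ⊗[K] X) :=
    { toFun := fun u => (ψ.symm : M →ₗ[K] _) ∘ₗ (r u) ∘ₗ (ψ : _ →ₗ[K] M)
      map_one' := by
        ext y
        simp
      map_mul' := fun a b => by
        apply LinearMap.ext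
        intro y
        show ψ.symm (r (a * b) (ψ y)) = ψ.symm (r a (ψ (ψ.symm (r b (ψ y)))))
        rw [LinearEquiv.apply_symm_apply, map_mul]
        rfl }
  have hact : ∀ u y, act' u y = ψ.symm (r u (ψ y)) := fun u y => rfl
  have hk := (h.flat.kflat hf.hl h.four h.pf h.rk).congr ψ.symm (act' := act') (fun u v => by
    rw [hact, LinearEquiv.apply_symm_apply])
  have hdim := dim_of (K := K) (V := M) m.p₁ (fun h1 => ne_bot hL (le_bot_iff.1 (h1 ▸ m.le)))
    (fun y hy => hf.lin y (l₁ hy)) ((TensorProduct.assoc K Vp Vp X).symm.trans ψ) ρ (by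
      intro l hl w y
      induction y using TensorProduct.induction_on with
      | zero => rw [TensorProduct.tmul_zero, TensorProduct.tmul_zero, map_zero, map_zero]
      | tmul b c =>
        show l (ψ ((w ⊗ₜ b) ⊗ₜ c)) = ψ ((ρ l w ⊗ₜ b) ⊗ₜ c)
        rw [e5 l hl]
        rfl
      | add a b ha hb => rw [TensorProduct.tmul_add, TensorProduct.tmul_add, map_add, map_add, map_add, ha, hb])
  have hS : SFlat p χ s act' _ _ :=
    { flat := hk
      act_eq := fun u => by
        apply LinearMap.ext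
        intro y
        rw [hact, hχ1, LinearEquiv.symm_apply_eq]
        exact e1 u y
      idx := fun u hu => (Subgroup.mul_mem_iff_of_index_two hidx).2 ⟨fun h1 => absurd h1 hs, fun h1 => absurd h1 hu⟩
      act_s := by
        apply LinearMap.ext
        intro y
        rw [hact, hχ2, LinearEquiv.symm_apply_eq]
        exact e2 y
      d := hdim.1
      d3 := hdim.2
      nt := iXn }
  exact hS.false

end move

end Cfsg.Agent.Omega.NO1.Comp
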