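import Cfsg.Agent.Omega.NO1.Comp.Ind
import Cfsg.Agent.Lib.KleinGen

/-!
# THEOREM COMP (bb OMEGA #17539), step (1): `U` centralises every `U`-invariant subgroup of odd order

* `odd_of_hyp` : an elementary abelian 2-group `A` normalising `O` of odd order centralises `O` if it centralises
  `C_O(B)` for every hyperplane `B` of `A`;
* `FlatA.odd_inv` : an element of odd order centralised by a hyperplane `U₁` and inverted by `s ∈ U - U₁` is trivial;
* `FlatA.odd_comm` **(1)**.
-/

set_option autoImplicit false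

namespace Cfsg.Agent.Omega.NO1.Comp

open Subgroup

universe u v

section Hyp

variable {H : Type u} [Group H]

/-- `B ∪ Bx` -/
def adj (B : Subgroup H) (x : H) (hx : x * x = 1) (hc : ∀ b ∈ B, x * b = b * x) : Subgroup H where
  carrier := {y | y ∈ B ∨ y * x ∈ B}
  one_mem' := Or.inl B.one_mem
  mul_mem' := by
    rintro y w (hy | hy) (hw | hw)
    · exact Or.inl (B.mul_mem hy hw)
    · right
      rw [mul_assoc]
      exact B.mul_mem hy hw
    · right
      rw [mul_assoc, ← hc w hw, ← mul_assoc]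
      exact B.mul_mem hy hw
    · left
      have h1 : y * w = y * x * (w * x) := by
        rw [mul_assoc y x, hc _ hw, mul_assoc w x x, hx, mul_one]
      rw [h1]
      exact B.mul_mem hy hw
  inv_mem' := by
    rintro y (hy | hy)
    · exact Or.inl (B.inv_mem hy)
    · right
      have h1 : (y * x)⁻¹ ∈ B := B.inv_mem hy
      have h2 : x⁻¹ = x := inv_eq_of_mul_eq_one_right hx
      rw [mul_inv_rev, h2] at h1
      have h3 := hc _ h1
      rw [← mul_assoc, hx, one_mul] at h3
      have h4 : y⁻¹ * x = x * y⁻¹ := by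
        calc y⁻¹ * x = x * y⁻¹ * x * x := by rw [← h3]
          _ = x * y⁻¹ := by rw [mul_assoc, hx, mul_one]
      rw [h4]
      exact h1

theorem mem_adj {B : Subgroup H} {x : H} {hx : x * x = 1} {hc : ∀ b ∈ B, x * b = b * x} {y : H} :
    y ∈ adj B x hx hc ↔ y ∈ B ∨ y * x ∈ B := Iff.rfl

/-- hyperplane generation for an elementary abelian 2-group acting on a group of odd order -/
theorem odd_of_hyp [Finite H] {A O : Subgroup H} (sq : ∀ a ∈ A, a * a = 1) (comm : ∀ a ∈ A, ∀ b ∈ A, a * b = b * a)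
    (hO : Odd (Nat.card O)) (hn : ∀ a ∈ A, ∀ x ∈ O, a * x * a⁻¹ ∈ O)
    (hyp : ∀ B ≤ A, B.relIndex A = 2 → O ⊓ centralizer (B : Set H) ≤ centralizer (A : Set H)) :
    O ≤ centralizer (A : Set H) := by
  -- all proper subgroups
  have main : ∀ B : Subgroup H, B < A → O ⊓ centralizer (B : Set H) ≤ centralizer (A : Set H) := by
    intro B
    induction B using WellFoundedGT.induction with
    | ind B ih =>
      intro hB
      by_cases h2 : B.relIndex A = 2
      · exact hyp B hB.le h2
      have hBc : ∀ x ∈ A, ∀ b ∈ B, x * b = b * x := fun x hx b hb => comm x hx b (hB.le hb)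
      have hstep : ∀ x, ∀ hx : x ∈ A, x ∉ B →
          B < adj B x (sq x hx) (hBc x hx) ∧ adj B x (sq x hx) (hBc x hx) < A := by
        intro x hx hxB
        have h3 : x ∈ adj B x (sq x hx) (hBc x hx) := Or.inr (by rw [sq x hx]; exact B.one_mem)
        refine ⟨lt_of_le_of_ne (fun b hb => Or.inl hb) fun h4 => hxB (h4 ▸ h3), lt_of_le_of_ne ?_ fun h4 => h2 ?_⟩
        · rintro y (hy | hy)
          · exact hB.le hy
          · have h5 := A.mul_mem (hB.le hy) (A.inv_mem hx)
            rwa [mul_inv_cancel_right] at h5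
        · rw [relIndex_eq_two_iff]
          refine ⟨x, hx, fun b hb => ?_⟩
          have h5 : b ∈ adj B x (sq x hx) (hBc x hx) := by
            rw [h4]
            exact hb
          by_cases h6 : b ∈ B
          · refine Or.inr ⟨h6, fun h7 => hxB ?_⟩
            have := B.mul_mem (B.inv_mem h6) h7
            rwa [inv_mul_cancel_left] at this
          · exact Or.inl ⟨(mem_adj.1 h5).resolve_left h6, h6⟩
      obtain ⟨a, haA, haB⟩ := SetLike.exists_of_lt hB
      obtain ⟨ha1, ha2⟩ := hstep a haA haB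
      obtain ⟨b, hbA, hbB⟩ := SetLike.exists_of_lt ha2
      have hbB' : b ∉ B := fun h3 => hbB (Or.inl h3)
      have hab : a * b ∉ B := fun h3 => hbB (Or.inr (by rw [comm b hbA a haA]; exact h3))
      obtain ⟨hb1, hb2⟩ := hstep b hbA hbB'
      obtain ⟨hc1, hc2⟩ := hstep (a * b) (A.mul_mem haA hbA) hab
      have hodd : Odd (Nat.card (O ⊓ centralizer (B : Set H) : Subgroup H)) :=
        hO.of_dvd_nat (card_dvd_of_le inf_le_left)
      have hcB : ∀ x ∈ A, ∀ y ∈ O ⊓ centralizer (B : Set H), x * y * x⁻¹ ∈ O ⊓ centralizer (B : Set H) := by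
        rintro x hx y ⟨hy1, hy2⟩
        refine ⟨hn x hx y hy1, mem_centralizer_iff.2 fun c hc => ?_⟩
        have c1 : Commute c y := mem_centralizer_iff.1 hy2 c hc
        have c2 : Commute c x := (hBc x hx c hc).symm
        exact ((c2.mul_right c1).mul_right c2.inv_right).eq
      have hcl : ∀ x, ∀ hx : x ∈ A, adj B x (sq x hx) (hBc x hx) < A → B < adj B x (sq x hx) (hBc x hx) →
          ∀ y ∈ O ⊓ centralizer (B : Set H), x * y = y * x → y ∈ centralizer (A : Set H) := by
        intro x hx h3 h4 y hy hxy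
        refine ih _ h4 h3 ⟨hy.1, mem_centralizer_iff.2 ?_⟩
        rintro c (hc | hc)
        · exact mem_centralizer_iff.1 hy.2 c hc
        · have h5 := mem_centralizer_iff.1 hy.2 _ hc
          have h6 : c * x * y = c * y * x := by rw [mul_assoc, hxy, ← mul_assoc]
          rw [h6] at h5
          have h7 : c * y * x = y * c * x := by rw [h5, mul_assoc]
          exact mul_right_cancel h7
      refine Lib.KleinGen.le_of_klein (O ⊓ centralizer (B : Set H)) (centralizer (A : Set H)) hodd a b
        (sq a haA) (sq b hbA) (comm a haA b hbA) (hcB a haA) (hcB b hbA) ?_ ?_ ?_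
      · exact fun y hy => hcl a haA ha2 ha1 y hy.1 (mem_centralizer_iff.1 hy.2 a rfl)
      · exact fun y hy => hcl b hbA hb2 hb1 y hy.1 (mem_centralizer_iff.1 hy.2 b rfl)
      · exact fun y hy => hcl (a * b) (A.mul_mem haA hbA) hc2 hc1 y hy.1 (mem_centralizer_iff.1 hy.2 _ rfl)
  intro x hx
  rcases eq_or_ne A ⊥ with rfl | hA
  · rw [mem_centralizer_iff]
    intro b hb
    rw [SetLike.mem_coe, mem_bot] at hb
    rw [hb, one_mul, mul_one]
  have h0 : x ∈ centralizer ((⊥ : Subgroup H) : Set H) := by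
    rw [mem_centralizer_iff]
    intro b hb
    rw [SetLike.mem_coe, mem_bot] at hb
    rw [hb, one_mul, mul_one]
  exact main ⊥ (bot_lt_iff_ne_bot.2 hA) ⟨hx, h0⟩

end Hyp

variable {H : Type u} [Group H] {V : Type v} [AddCommGroup V] [DistribMulAction H V]

section nrm

/-- `v + d v + ... + d^(n-1) v` -/
def nrm (d : H) (n : ℕ) (v : V) : V := ∑ i ∈ Finset.range n, d ^ i • v

theorem nrm_add (d : H) (n : ℕ) (v w : V) : nrm d n (v + w) = nrm d n v + nrm d n w := by
  simp only [nrm, smul_add, Finset.sum_add_distrib]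

theorem smul_nrm_comm {d g : H} (hg : Commute g d) (n : ℕ) (v : V) : g • nrm d n v = nrm d n (g • v) := by
  rw [nrm, nrm, Finset.smul_sum]
  refine Finset.sum_congr rfl fun i _ => ?_
  rw [← mul_smul, ← mul_smul, (hg.pow_right i).eq]

theorem smul_nrm {d : H} {n : ℕ} (hn : d ^ n = 1) (v : V) : d • nrm d n v = nrm d n v := by
  have h1 := Finset.sum_range_succ (fun i => d ^ i • v) n
  have h2 := Finset.sum_range_succ' (fun i => d ^ i • v) n
  rw [h1] at h2
  simp only [hn, pow_zero, one_smul] at h2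
  have h3 := add_right_cancel h2
  rw [nrm, Finset.smul_sum, h3]
  refine Finset.sum_congr rfl fun i _ => ?_
  rw [pow_succ', mul_smul]

theorem smul_nrm_inv {d s : H} {n : ℕ} (hn : d ^ n = 1) (hs : s * d = d⁻¹ * s) (v : V) :
    s • nrm d n v = nrm d n (s • v) := by
  have h1 : ∀ i : ℕ, s * d ^ i = (d ^ i)⁻¹ * s := by
    intro i
    induction i with
    | zero => simp
    | succ i ih => rw [pow_succ, ← mul_assoc, ih, mul_assoc, hs, ← mul_assoc, ← mul_inv_rev, ← pow_succ', pow_succ]
  have h2 : ∀ w : V, ∑ i ∈ Finset.range n, (d ^ i)⁻¹ • w = nrm d n w := by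
    intro w
    rw [← smul_nrm hn w, nrm, ← Finset.sum_range_reflect (fun i => d ^ i • w), Finset.smul_sum]
    refine Finset.sum_congr rfl fun i hi => ?_
    have h3 : i < n := Finset.mem_range.1 hi
    have h4 : (d ^ i)⁻¹ = d * d ^ (n - 1 - i) := by
      rw [inv_eq_iff_mul_eq_one, ← pow_succ', ← pow_add, ← hn]
      congr 1
      omega
    rw [h4, mul_smul]
  rw [← h2 (s • v), nrm, Finset.smul_sum]
  refine Finset.sum_congr rfl fun i _ => ?_
  rw [← mul_smul, ← mul_smul, h1]

theorem nrm_of_fixed (two : ∀ v : V, v + v = 0) {d : H} {n : ℕ} (hn : Odd n) {v : V} (hv : d • v = v) :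
    nrm d n v = v := by
  have h1 : ∀ i : ℕ, d ^ i • v = v := by
    intro i
    induction i with
    | zero => simp
    | succ i ih => rw [pow_succ, mul_smul, hv, ih]
  obtain ⟨m, rfl⟩ := hn
  rw [nrm, Finset.sum_congr rfl fun i _ => h1 i, Finset.sum_const, Finset.card_range, add_smul, mul_smul,
    two_nsmul, two, one_smul, zero_add]

theorem half_sum (d : H) (m : ℕ) (v : V) :
    ∑ j ∈ Finset.range m, d ^ (2 * j) • v + d • ∑ j ∈ Finset.range m, d ^ (2 * j) • v =
      ∑ i ∈ Finset.range (2 * m), d ^ i • v := by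
  induction m with
  | zero => simp
  | succ m ih =>
    rw [Finset.sum_range_succ, show 2 * (m + 1) = 2 * m + 1 + 1 by ring, Finset.sum_range_succ,
      Finset.sum_range_succ, ← ih, smul_add, ← mul_smul, ← pow_succ']
    abel

end nrm

namespace FlatA

variable {U : Subgroup H} {E F : AddSubgroup V} (h : FlatA U E F)
include h

/-- an element of odd order, centralised by `U₁` and inverted by `s ∈ U - U₁`, acts trivially -/
theorem odd_inv (h4 : ∀ x, ∃ v, v ∉ E ∧ v + x ∉ E) {U1 : Subgroup H} {s d : H} (hs : s ∈ U) (hU1 : U1 ≤ U)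
    (hU : ∀ u ∈ U, u ∈ U1 ∨ ∃ u1 ∈ U1, u = s * u1) {n : ℕ} (hn : Odd n) (hd : d ^ n = 1)
    (hsd : s * d = d⁻¹ * s) (hc : ∀ u ∈ U1, u * d = d * u) (v : V) : d • v = v := by
  obtain ⟨m, hm⟩ := id hn
  let c : H := d ^ (m + 1)
  have hcc : c * c = d := by
    change d ^ (m + 1) * d ^ (m + 1) = d
    rw [← pow_add, show m + 1 + (m + 1) = n + 1 by omega, pow_succ, hd, one_mul]
  have hscc : ∀ i : ℕ, s * d ^ i = (d ^ i)⁻¹ * s := by
    intro i
    induction i with
    | zero => simp
    | succ i ih => rw [pow_succ, ← mul_assoc, ih, mul_assoc, hsd, ← mul_assoc, ← mul_inv_rev, ← pow_succ', pow_succ]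
  have hsc : s * c = c⁻¹ * s := hscc (m + 1)
  have hcsc : c * s * c = s := by rw [mul_assoc, hsc, mul_inv_cancel_left]
  have hcd : Commute c d := (Commute.refl d).pow_left (m + 1)
  have hUc : ∀ u ∈ U1, Commute u c := fun u hu => (show Commute u d from hc u hu).pow_right (m + 1)
  have hs' : ∀ v : V, s • s • v = v := h.inv s hs
  let V0 : AddSubgroup V :=
    { carrier := {v | d • v = v}
      zero_mem' := smul_zero d
      add_mem' := fun {a b} ha hb => by
        change d • (a + b) = a + b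
        rw [smul_add, show d • a = a from ha, show d • b = b from hb]
      neg_mem' := fun {a} ha => by
        change d • -a = -a
        rw [smul_neg, show d • a = a from ha] }
  let X : AddSubgroup V :=
    { carrier := {v | nrm d n v = 0 ∧ c • v = s • v}
      zero_mem' := ⟨by simp [nrm], by rw [smul_zero, smul_zero]⟩
      add_mem' := fun {a b} ha hb => ⟨by rw [nrm_add, ha.1, hb.1, add_zero], by
        rw [smul_add, smul_add, ha.2, hb.2]⟩
      neg_mem' := fun {a} ha => by
        rw [h.neg]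
        exact ha }
  have hsup : ∀ v : V, ∃ a ∈ V0, ∃ x ∈ X, ∃ y ∈ X, v = a + x + s • y := by
    intro v
    have hNN : nrm d n (nrm d n v) = nrm d n v := nrm_of_fixed h.two hn (smul_nrm hd v)
    set v' := v + nrm d n v with hv'
    have hv0 : nrm d n v' = 0 := by rw [hv', nrm_add, hNN, h.two]
    set w := ∑ j ∈ Finset.range (m + 1), d ^ (2 * j) • v' with hw
    have hw1 : w + d • w = v' := by
      rw [hw, half_sum, show 2 * (m + 1) = n + 1 by omega, Finset.sum_range_succ, hd, one_smul]
      change nrm d n v' + v' = v'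
      rw [hv0, zero_add]
    have hNw : nrm d n w = 0 := by
      have h1 : ∀ k : ℕ, nrm d n (∑ j ∈ Finset.range k, d ^ (2 * j) • v') = 0 := by
        intro k
        induction k with
        | zero => simp [nrm]
        | succ k ih =>
          rw [Finset.sum_range_succ, nrm_add, ih, zero_add,
            ← smul_nrm_comm ((Commute.refl d).pow_left (2 * k)), hv0, smul_zero]
      exact h1 (m + 1)
    have hNs : ∀ z : V, nrm d n z = 0 → nrm d n (s • z) = 0 := fun z hz => by
      rw [← smul_nrm_inv hd hsd, hz, smul_zero]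
    have hNc : ∀ z : V, nrm d n z = 0 → nrm d n (c • z) = 0 := fun z hz => by
      rw [← smul_nrm_comm hcd, hz, smul_zero]
    have hNd : ∀ z : V, nrm d n z = 0 → nrm d n (d • z) = 0 := fun z hz => by
      rw [← smul_nrm_comm (Commute.refl d), hz, smul_zero]
    have e1 : c • s • c • w = s • w := by rw [← mul_smul, ← mul_smul, hcsc]
    have e2 : c • s • d • w = s • c • w := by
      have : c * s * d = s * c := by rw [← hcc, ← mul_assoc, hcsc]
      rw [← mul_smul, ← mul_smul, ← mul_smul, this]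
    have e3 : c • c • w = d • w := by rw [← mul_smul, hcc]
    refine ⟨nrm d n v, smul_nrm hd v, s • c • w + w, ⟨?_, ?_⟩, s • d • w + c • w, ⟨?_, ?_⟩, ?_⟩
    · rw [nrm_add, hNs _ (hNc _ hNw), hNw, add_zero]
    · rw [smul_add, smul_add, e1, hs', add_comm]
    · rw [nrm_add, hNs _ (hNd _ hNw), hNc _ hNw, add_zero]
    · rw [smul_add, smul_add, e2, e3, hs', add_comm]
    · rw [smul_add, hs']
      have e : nrm d n v + (s • c • w + w) + (d • w + s • c • w) =
          nrm d n v + (w + d • w) + (s • c • w + s • c • w) := by abel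
      rw [e, h.two, add_zero, hw1, hv', add_comm v, ← add_assoc, h.two, zero_add]
  by_contra hne
  have hX0 : X ≠ ⊥ := by
    intro h0
    apply hne
    obtain ⟨a, ha, x, hx, y, hy, e⟩ := hsup v
    rw [h0, AddSubgroup.mem_bot] at hx hy
    rw [hx, hy, smul_zero, add_zero, add_zero] at e
    rw [e]
    exact ha
  have g1 : ∀ u ∈ U, ∀ a ∈ V0, u • a ∈ V0 := by
    intro u hu a ha
    have ha' : d⁻¹ • a = a := by
      rw [inv_smul_eq_iff]
      exact (show d • a = a from ha).symm
    rcases hU u hu with h1 | ⟨u1, h1, rfl⟩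
    · change d • u • a = u • a
      rw [← mul_smul, ← hc u h1, mul_smul, show d • a = a from ha]
    · change d • (s * u1) • a = (s * u1) • a
      have e : d * (s * u1) = s * u1 * d⁻¹ := by
        have e1 : d * s = s * d⁻¹ := by
          have : s * d⁻¹ = d * s := by
            have e3 : d * (s * d) * d⁻¹ = d * (d⁻¹ * s) * d⁻¹ := by rw [hsd]
            rw [mul_inv_cancel_left] at e3
            rw [← e3]
            group
          exact this.symm
        have e2 : u1 * d⁻¹ = d⁻¹ * u1 := (show Commute u1 d from hc u1 h1).inv_right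
        rw [← mul_assoc, e1, mul_assoc, mul_assoc, e2]
      rw [← mul_smul, e, mul_smul, ha']
  have g2 : ∀ u ∈ U1, ∀ x ∈ X, u • x ∈ X := by
    rintro u hu x ⟨hx1, hx2⟩
    refine ⟨?_, ?_⟩
    · rw [← smul_nrm_comm (hc u hu), hx1, smul_zero]
    · rw [← mul_smul, ← (hUc u hu).eq, mul_smul, hx2, h.ab u (hU1 hu) s hs]
  have g3 : ∀ a ∈ V0, ∀ x ∈ X, ∀ y ∈ X, a + x + s • y = 0 → a = 0 ∧ x = 0 ∧ y = 0 := by
    rintro a ha x ⟨hx1, hx2⟩ y ⟨hy1, hy2⟩ he
    have h1 : nrm d n (a + x + s • y) = 0 := by rw [he]; simp [nrm]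
    rw [nrm_add, nrm_add, hx1, ← smul_nrm_inv hd hsd, hy1, smul_zero, add_zero, add_zero,
      nrm_of_fixed h.two hn (show d • a = a from ha)] at h1
    rw [h1, zero_add, h.add_eq] at he
    have h2 : d • y = y := by
      have e1 : c • x = y := by rw [hx2, he, hs']
      have e2 : c • x = d • y := by rw [he, ← hy2, ← mul_smul, hcc]
      rw [← e2, e1]
    have h3 : y = 0 := by rw [← nrm_of_fixed h.two hn h2, hy1]
    refine ⟨h1, ?_, h3⟩
    rw [he, h3, smul_zero]
  obtain ⟨x, hx⟩ := h.ind hs hU1 hU g1 g2 g3 hsup hX0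
  obtain ⟨v, hv1, hv2⟩ := h4 x
  rcases hx v with h1 | h1
  · exact hv1 h1
  · exact hv2 h1

/-- **(1)** : `U` centralises every `U`-invariant subgroup of odd order. -/
theorem odd_comm [Finite H] [FaithfulSMul H V] (h4 : ∀ x, ∃ v, v ∉ E ∧ v + x ∉ E) {O : Subgroup H}
    (hO : Odd (Nat.card O)) (hn : ∀ u ∈ U, ∀ x ∈ O, u * x * u⁻¹ ∈ O) : O ≤ centralizer (U : Set H) := by
  have sq : ∀ a ∈ U, a * a = 1 := fun a ha => FaithfulSMul.eq_of_smul_eq_smul (α := V) fun v => by
    rw [mul_smul, h.inv a ha, one_smul]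
  have comm : ∀ a ∈ U, ∀ b ∈ U, a * b = b * a := fun a ha b hb =>
    FaithfulSMul.eq_of_smul_eq_smul (α := V) fun v => by rw [mul_smul, mul_smul, h.ab a ha b hb]
  refine odd_of_hyp sq comm hO hn ?_
  rintro B hB h2 x ⟨hx, hxB⟩
  rw [mem_centralizer_iff]
  intro a ha
  by_cases haB : a ∈ B
  · exact mem_centralizer_iff.1 hxB a haB
  have hU : ∀ u ∈ U, u ∈ B ∨ ∃ u1 ∈ B, u = a * u1 := by
    intro u hu
    rw [relIndex_eq_two_iff] at h2
    obtain ⟨y, hy, h3⟩ := h2
    by_cases huB : u ∈ B
    · exact Or.inl huB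
    · right
      have h5 : u * y ∈ B := by
        rcases h3 u hu with h6 | h6
        · exact h6.1
        · exact absurd h6.1 huB
      have h6 : a * y ∈ B := by
        rcases h3 a ha with h6 | h6
        · exact h6.1
        · exact absurd h6.1 haB
      refine ⟨a * u, ?_, by rw [← mul_assoc, sq a ha, one_mul]⟩
      have e : a * u = a * y * (u * y) := by
        rw [comm u hu y hy, mul_assoc, ← mul_assoc y y u, sq y hy, one_mul]
      rw [e]
      exact B.mul_mem h6 h5
  have hai : a⁻¹ = a := inv_eq_of_mul_eq_one_right (sq a ha)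
  have h5 : x⁻¹ * (a * x * a⁻¹) ∈ O := O.mul_mem (O.inv_mem hx) (hn a ha x hx)
  have h6 : (x⁻¹ * (a * x * a⁻¹)) ^ Nat.card O = 1 := by
    have h5 : (⟨_, h5⟩ : O) ^ Nat.card O = 1 := pow_card_eq_one'
    exact congrArg Subtype.val h5
  have h7 : x⁻¹ * (a * x * a⁻¹) = 1 := by
    refine FaithfulSMul.eq_of_smul_eq_smul (α := V) fun v => ?_
    rw [one_smul]
    refine h.odd_inv h4 ha hB hU hO h6 ?_ ?_ v
    · rw [mul_inv_rev, mul_inv_rev, mul_inv_rev, inv_inv, inv_inv, hai]
      have : a * (x⁻¹ * (a * x * a)) = a * x⁻¹ * a * x * a := by group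
      rw [this]
      group
    · intro u hu
      have c1 : Commute u x := mem_centralizer_iff.1 hxB u hu
      have c2 : Commute u a := comm u (hB hu) a ha
      exact (c1.inv_right.mul_right ((c2.mul_right c1).mul_right c2.inv_right)).eq
  rw [inv_mul_eq_one] at h7
  rw [← mul_inv_eq_iff_eq_mul]
  exact h7.symm

end FlatA

end Cfsg.Agent.Omega.NO1.Comp
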