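import Mathlib

/-!
# Pure tensors (project OMEGA, N1, THEOREM COMP #17539, part (II)(b); helper168)

`K` a field, `A ⊗[K] B → A' ⊗[K] B'` an additive bijection `s`, semilinear with respect to `σ`, which intertwines
the maps `ρ i ⊗ 1` and `ρ' i ⊗ 1` (`i` in any index type), where `A`, `A'` are irreducible under the `ρ i`, `ρ' i` and
only scalars commute with all `ρ' i`.  Then `s = α ⊗ β` (`pure`).  `K` finite of characteristic 2: a linear involution
which is a pure tensor is the tensor product of two uniquely determined involutions (`invol`, `invol_unique`), and an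
abelian group of such involutions acts through two homomorphisms (`exists_hom`).
-/

set_option autoImplicit false
set_option linter.unusedSectionVars false

namespace Cfsg.Agent.Omega.NO1.Comp.Pure

open TensorProduct

section contract

variable {K : Type*} [Field K] {A B : Type*} [AddCommGroup A] [Module K A] [AddCommGroup B] [Module K B]

/-- contraction of the right factor with a functional -/
noncomputable def con (φ : B →ₗ[K] K) : A ⊗[K] B →ₗ[K] A :=
  (TensorProduct.rid K A).toLinearMap ∘ₗ φ.lTensor A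

/-- contraction of the left factor with a functional -/
noncomputable def con' (φ : A →ₗ[K] K) : A ⊗[K] B →ₗ[K] B :=
  (TensorProduct.lid K B).toLinearMap ∘ₗ φ.rTensor B

@[simp] theorem con_tmul (φ : B →ₗ[K] K) (a : A) (b : B) : con φ (a ⊗ₜ[K] b) = φ b • a := by
  simp [con]

@[simp] theorem con'_tmul (φ : A →ₗ[K] K) (a : A) (b : B) : con' φ (a ⊗ₜ[K] b) = φ a • b := by
  simp [con']

theorem exists_dual {x : A} (hx : x ≠ 0) : ∃ φ : A →ₗ[K] K, φ x = 1 := by
  have h : ¬ ∀ φ : Module.Dual K A, φ x = 0 := fun h => hx ((Module.forall_dual_apply_eq_zero_iff K x).1 h)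
  push Not at h
  obtain ⟨φ, hφ⟩ := h
  exact ⟨(φ x)⁻¹ • φ, by simp [hφ]⟩

theorem eq_sum {ι : Type*} [Fintype ι] (bs : Module.Basis ι K B) (x : A ⊗[K] B) :
    x = ∑ j, con (bs.coord j) x ⊗ₜ[K] bs j := by
  classical
  induction x with
  | zero => simp
  | tmul a b =>
    have h : ∀ j, con (bs.coord j) (a ⊗ₜ[K] b) ⊗ₜ[K] bs j = a ⊗ₜ[K] (bs.coord j b • bs j) := fun j => by
      rw [con_tmul, TensorProduct.smul_tmul]
    simp_rw [h, ← TensorProduct.tmul_sum]
    congr 1
    exact (bs.sum_repr b).symm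
  | add x y hx hy =>
    conv_lhs => rw [hx, hy]
    rw [← Finset.sum_add_distrib]
    refine Finset.sum_congr rfl fun j _ => ?_
    rw [map_add, TensorProduct.add_tmul]

theorem exists_con [FiniteDimensional K B] {x : A ⊗[K] B} (hx : x ≠ 0) : ∃ φ : B →ₗ[K] K, con φ x ≠ 0 := by
  by_contra! h
  exact hx (by rw [eq_sum (Module.finBasis K B) x]; simp [h])

theorem tmul_ne_zero {a : A} {b : B} (ha : a ≠ 0) (hb : b ≠ 0) : a ⊗ₜ[K] b ≠ 0 := by
  intro h
  obtain ⟨φ, hφ⟩ := exists_dual (K := K) hb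
  have := congrArg (con φ) h
  rw [con_tmul, hφ, one_smul, map_zero] at this
  exact ha this

theorem con_rTensor {A' : Type*} [AddCommGroup A'] [Module K A'] (f : A →ₗ[K] A') (φ : B →ₗ[K] K)
    (x : A ⊗[K] B) : con φ (f.rTensor B x) = f (con φ x) := by
  induction x with
  | zero => simp
  | tmul a b => simp
  | add x y hx hy => simp [hx, hy]

end contract

section pure

variable {K : Type*} [Field K] {A B A' B' : Type*} [AddCommGroup A] [Module K A] [AddCommGroup B] [Module K B]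
  [AddCommGroup A'] [Module K A'] [AddCommGroup B'] [Module K B'] [FiniteDimensional K B']
  {I : Type*}

/-- **`s = α ⊗ β`.** -/
theorem pure [Nontrivial A] [Nontrivial B] (σ : K ≃+* K) (s : A ⊗[K] B ≃+ A' ⊗[K] B')
    (hs : ∀ (k : K) (x), s (k • x) = σ k • s x)
    (ρ : I → A →ₗ[K] A) (ρ' : I → A' →ₗ[K] A')
    (hi : ∀ i x, s ((ρ i).rTensor B x) = (ρ' i).rTensor B' (s x))
    (irr : ∀ N : Submodule K A, (∀ i, ∀ a ∈ N, ρ i a ∈ N) → N = ⊥ ∨ N = ⊤)
    (irr' : ∀ N : Submodule K A', (∀ i, ∀ a ∈ N, ρ' i a ∈ N) → N = ⊥ ∨ N = ⊤)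
    (sc : ∀ f : A' →ₗ[K] A', (∀ i x, f (ρ' i x) = ρ' i (f x)) → ∃ k : K, ∀ x, f x = k • x) :
    ∃ (α : A ≃+ A') (β : B ≃+ B'), (∀ (k : K) (a), α (k • a) = σ k • α a) ∧
      (∀ (k : K) (b), β (k • b) = σ k • β b) ∧ (∀ a b, s (a ⊗ₜ b) = α a ⊗ₜ β b) ∧
      ∀ i a, α (ρ i a) = ρ' i (α a) := by
  classical
  obtain ⟨a₀, ha₀⟩ := exists_ne (0 : A)
  obtain ⟨b₀, hb₀⟩ := exists_ne (0 : B)
  have h0 : s (a₀ ⊗ₜ[K] b₀) ≠ 0 := fun h => tmul_ne_zero ha₀ hb₀ (s.injective (by rw [h, map_zero]))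
  obtain ⟨φ, hφ⟩ := exists_con h0
  -- the map α
  let α₀ : A →+ A' :=
    { toFun := fun a => con φ (s (a ⊗ₜ[K] b₀))
      map_zero' := by simp
      map_add' := fun a b => by rw [TensorProduct.add_tmul, map_add, map_add] }
  have hα : ∀ (k : K) (a : A), α₀ (k • a) = σ k • α₀ a := fun k a => by
    change con φ (s ((k • a) ⊗ₜ[K] b₀)) = σ k • con φ (s (a ⊗ₜ[K] b₀))
    rw [← TensorProduct.smul_tmul', hs, map_smul]
  have hαi : ∀ i a, α₀ (ρ i a) = ρ' i (α₀ a) := fun i a => by
    change con φ (s (ρ i a ⊗ₜ[K] b₀)) = ρ' i (con φ (s (a ⊗ₜ[K] b₀)))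
    rw [← con_rTensor, ← hi]
    simp
  have hinj : Function.Injective α₀ := by
    let N : Submodule K A :=
      { carrier := {a | α₀ a = 0}
        zero_mem' := map_zero _
        add_mem' := fun {a b} ha hb => by
          exact (map_add α₀ a b).trans (by rw [show α₀ a = 0 from ha, show α₀ b = 0 from hb, add_zero])
        smul_mem' := fun k a ha => by
          exact (hα k a).trans (by rw [show α₀ a = 0 from ha, smul_zero]) }
    have hN : ∀ a, a ∈ N ↔ α₀ a = 0 := fun a => Iff.rfl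
    rcases irr N (fun i a ha => by rw [hN] at *; rw [hαi, ha, map_zero]) with h | h
    · rw [injective_iff_map_eq_zero]
      intro a ha
      have : a ∈ N := ha
      rw [h] at this
      exact this
    · exact absurd (show a₀ ∈ N by rw [h]; trivial) hφ
  have hsurj : Function.Surjective α₀ := by
    let N : Submodule K A' :=
      { carrier := Set.range α₀
        zero_mem' := ⟨0, map_zero _⟩
        add_mem' := by
          rintro _ _ ⟨a, rfl⟩ ⟨b, rfl⟩; exact ⟨a + b, map_add _ _ _⟩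
        smul_mem' := by
          rintro k _ ⟨a, rfl⟩
          exact ⟨σ.symm k • a, by rw [hα, σ.apply_symm_apply]⟩ }
    have hN : ∀ a, a ∈ N ↔ ∃ c, α₀ c = a := fun a => Iff.rfl
    rcases irr' N (fun i a ha => by
      rw [hN] at *; obtain ⟨c, rfl⟩ := ha; exact ⟨ρ i c, hαi i c⟩) with h | h
    · exact absurd (show α₀ a₀ = 0 from by
        have : α₀ a₀ ∈ N := ⟨a₀, rfl⟩
        rw [h] at this
        exact this) hφ
    · intro a
      have : a ∈ N := by rw [h]; trivial
      exact this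
  let α : A ≃+ A' := AddEquiv.ofBijective α₀ ⟨hinj, hsurj⟩
  have hαa : ∀ a, α a = α₀ a := fun a => rfl
  have hαk : ∀ (k : K) (a : A), α (k • a) = σ k • α a := hα
  have hαs : ∀ (k : K) (a : A'), α.symm (k • a) = σ.symm k • α.symm a := fun k a => by
    apply α.injective
    rw [α.apply_symm_apply, hαk, σ.apply_symm_apply, α.apply_symm_apply]
  have hαI : ∀ i a, α (ρ i a) = ρ' i (α a) := hαi
  have hαsi : ∀ i a, α.symm (ρ' i a) = ρ i (α.symm a) := fun i a => by
    apply α.injective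
    rw [α.apply_symm_apply, hαI, α.apply_symm_apply]
  -- the scalars
  have key : ∀ (ψ : B' →ₗ[K] K) (b : B), ∃ k : K, ∀ a : A, con ψ (s (a ⊗ₜ[K] b)) = k • α a := by
    intro ψ b
    let f : A' →ₗ[K] A' :=
      { toFun := fun a => con ψ (s (α.symm a ⊗ₜ[K] b))
        map_add' := fun a c => by rw [map_add, TensorProduct.add_tmul, map_add, map_add]
        map_smul' := fun k a => by
          rw [hαs, ← TensorProduct.smul_tmul', hs, map_smul, σ.apply_symm_apply, RingHom.id_apply] }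
    obtain ⟨k, hk⟩ := sc f (fun i x => by
      change con ψ (s (α.symm (ρ' i x) ⊗ₜ[K] b)) = ρ' i (con ψ (s (α.symm x ⊗ₜ[K] b)))
      rw [hαsi, ← con_rTensor, ← hi]
      simp)
    refine ⟨k, fun a => ?_⟩
    have := hk (α a)
    change con ψ (s (α.symm (α a) ⊗ₜ[K] b)) = k • α a at this
    rwa [α.symm_apply_apply] at this
  choose κ hκ using key
  let bs := Module.finBasis K B'
  have hform : ∀ (b : B), ∃ y : B', ∀ a : A, s (a ⊗ₜ[K] b) = α a ⊗ₜ[K] y := by
    intro b
    refine ⟨∑ j, κ (bs.coord j) b • bs j, fun a => ?_⟩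
    conv_lhs => rw [eq_sum bs (s (a ⊗ₜ[K] b))]
    rw [TensorProduct.tmul_sum]
    refine Finset.sum_congr rfl fun j _ => ?_
    rw [hκ, TensorProduct.smul_tmul]
  choose β₁ hβ₁ using hform
  have hα₀ : α a₀ ≠ 0 := fun h => ha₀ (α.injective (by rw [h, map_zero]))
  obtain ⟨f, hf⟩ := exists_dual (K := K) hα₀
  have hβf : ∀ b, β₁ b = con' f (s (a₀ ⊗ₜ[K] b)) := fun b => by
    rw [hβ₁, con'_tmul, hf, one_smul]
  have hβk : ∀ (k : K) (b : B), β₁ (k • b) = σ k • β₁ b := fun k b => by
    rw [hβf, hβf, TensorProduct.tmul_smul, hs, map_smul]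
  let β₀ : B →+ B' :=
    { toFun := β₁
      map_zero' := by rw [hβf]; simp
      map_add' := fun b c => by rw [hβf, hβf, hβf, TensorProduct.tmul_add, map_add, map_add] }
  have hβ₀ : ∀ b, β₀ b = β₁ b := fun b => rfl
  have hβinj : Function.Injective β₀ := by
    rw [injective_iff_map_eq_zero]
    intro b hb
    by_contra hb0
    apply tmul_ne_zero (K := K) ha₀ hb0
    apply s.injective
    rw [hβ₁, ← hβ₀, hb, TensorProduct.tmul_zero, map_zero]
  have hβsurj : Function.Surjective β₀ := by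
    intro c
    obtain ⟨x, hx⟩ := s.surjective (α a₀ ⊗ₜ[K] c)
    have h1 : ∀ x : A ⊗[K] B, ∃ b, con' f (s x) = β₀ b := by
      intro x
      induction x with
      | zero => exact ⟨0, by simp⟩
      | tmul a b =>
        refine ⟨σ.symm (f (α a)) • b, ?_⟩
        rw [hβ₁, con'_tmul, hβ₀, hβk, σ.apply_symm_apply]
      | add x y hx hy =>
        obtain ⟨b, hb⟩ := hx
        obtain ⟨c, hc⟩ := hy
        exact ⟨b + c, by rw [map_add, map_add, hb, hc, map_add]⟩
    obtain ⟨b, hb⟩ := h1 x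
    refine ⟨b, ?_⟩
    rw [← hb, hx, con'_tmul, hf, one_smul]
  exact ⟨α, AddEquiv.ofBijective β₀ ⟨hβinj, hβsurj⟩, hαk, hβk, fun a b => hβ₁ b a, hαI⟩

end pure

section invol

variable {K : Type*} [Field K] {A B : Type*} [AddCommGroup A] [Module K A] [AddCommGroup B] [Module K B]

/-- `α ⊗ β = α' ⊗ β'` ⟹ `α = k α'`, `β' = k β`, `k ≠ 0`. -/
theorem scal [Nontrivial A] [Nontrivial B] {α α' : A →ₗ[K] A} {β β' : B →ₗ[K] B}
    (hα : Function.Injective α) (hβ : Function.Injective β)
    (h : ∀ a b, α a ⊗ₜ[K] β b = α' a ⊗ₜ[K] β' b) :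
    ∃ k : K, k ≠ 0 ∧ (∀ a, α a = k • α' a) ∧ ∀ b, β' b = k • β b := by
  obtain ⟨a₀, ha₀⟩ := exists_ne (0 : A)
  obtain ⟨b₀, hb₀⟩ := exists_ne (0 : B)
  have hb1 : β b₀ ≠ 0 := fun h => hb₀ (hβ (by rw [h, map_zero]))
  have ha1 : α a₀ ≠ 0 := fun h => ha₀ (hα (by rw [h, map_zero]))
  obtain ⟨φ, hφ⟩ := exists_dual (K := K) hb1
  have h1 : ∀ a, α a = φ (β' b₀) • α' a := fun a => by
    have := congrArg (con φ) (h a b₀)
    rwa [con_tmul, con_tmul, hφ, one_smul] at this
  have hk : φ (β' b₀) ≠ 0 := fun h0 => ha1 (by rw [h1, h0, zero_smul])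
  refine ⟨φ (β' b₀), hk, h1, fun b => ?_⟩
  have ha2 : α' a₀ ≠ 0 := fun h0 => ha1 (by rw [h1, h0, smul_zero])
  obtain ⟨ψ, hψ⟩ := exists_dual (K := K) ha2
  have := congrArg (con' ψ) (h a₀ b)
  rw [con'_tmul, con'_tmul, hψ, one_smul, h1, map_smul, hψ, smul_eq_mul, mul_one] at this
  exact this.symm

variable [Finite K] [CharP K 2]

theorem exists_sqrt (k : K) : ∃ m : K, m * m = k := by
  have h1 : Function.Injective (fun x : K => x * x) := by
    intro x y hxy
    have h2 : (x + y) * (x + y) = 0 := by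
      have h3 : x * x = y * y := hxy
      calc (x + y) * (x + y) = x * x + y * y + 2 * (x * y) := by ring
        _ = 0 := by rw [h3, CharTwo.add_self_eq_zero, CharTwo.two_eq_zero, zero_mul, add_zero]
    have h4 : x + y = 0 := mul_self_eq_zero.1 h2
    exact CharTwo.add_eq_zero.1 h4
  obtain ⟨m, hm⟩ := (Finite.injective_iff_surjective.1 h1) k
  exact ⟨m, hm⟩

omit [Finite K] in
theorem sq_eq_one {k : K} (h : k * k = 1) : k = 1 := by
  have h2 : (k + 1) * (k + 1) = 0 := by
    calc (k + 1) * (k + 1) = k * k + 1 + 2 * k := by ring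
      _ = 0 := by rw [h, CharTwo.add_self_eq_zero, CharTwo.two_eq_zero, zero_mul, add_zero]
  exact CharTwo.add_eq_zero.1 (mul_self_eq_zero.1 h2)

/-- a pure tensor which is an involution is the tensor product of two involutions -/
theorem invol [Nontrivial A] [Nontrivial B] {α : A →ₗ[K] A} {β : B →ₗ[K] B}
    (h : ∀ a b, α (α a) ⊗ₜ[K] β (β b) = a ⊗ₜ[K] b) :
    ∃ (α' : A →ₗ[K] A) (β' : B →ₗ[K] B), (∀ a, α' (α' a) = a) ∧ (∀ b, β' (β' b) = b) ∧
      ∀ a b, α' a ⊗ₜ[K] β' b = α a ⊗ₜ[K] β b := by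
  obtain ⟨k, hk0, hk1, hk2⟩ := scal (K := K) (α := LinearMap.id) (β := LinearMap.id) (α' := α ∘ₗ α) (β' := β ∘ₗ β)
    Function.injective_id Function.injective_id (fun a b => by simpa using (h a b).symm)
  obtain ⟨m, hm⟩ := exists_sqrt k
  have hm0 : m ≠ 0 := fun h => hk0 (by rw [← hm, h, zero_mul])
  refine ⟨m • α, m⁻¹ • β, fun a => ?_, fun b => ?_, fun a b => ?_⟩
  · have := hk1 a
    simp only [LinearMap.id_coe, id_eq, LinearMap.coe_comp, Function.comp_apply] at this
    simp only [LinearMap.smul_apply, map_smul, smul_smul]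
    rw [hm]
    exact this.symm
  · have := hk2 b
    simp only [LinearMap.id_coe, id_eq, LinearMap.coe_comp, Function.comp_apply] at this
    simp only [LinearMap.smul_apply, map_smul, smul_smul]
    rw [this, smul_smul, ← hm]
    have : m⁻¹ * m⁻¹ * (m * m) = 1 := by field_simp
    rw [this, one_smul]
  · simp only [LinearMap.smul_apply]
    rw [TensorProduct.smul_tmul, smul_smul, mul_inv_cancel₀ hm0, one_smul]

omit [Finite K] in
theorem invol_unique [Nontrivial A] [Nontrivial B] {α α' : A →ₗ[K] A} {β β' : B →ₗ[K] B}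
    (h1 : ∀ a, α (α a) = a) (h2 : ∀ b, β (β b) = b) (h3 : ∀ a, α' (α' a) = a) (_h4 : ∀ b, β' (β' b) = b)
    (h : ∀ a b, α a ⊗ₜ[K] β b = α' a ⊗ₜ[K] β' b) : α = α' ∧ β = β' := by
  have i1 : Function.Injective α := Function.LeftInverse.injective h1
  have i2 : Function.Injective β := Function.LeftInverse.injective h2
  obtain ⟨k, hk0, hk1, hk2⟩ := scal i1 i2 h
  obtain ⟨a₀, ha₀⟩ := exists_ne (0 : A)
  have hk : k * k = 1 := by
    have h5 : (k * k) • a₀ = a₀ := by
      calc (k * k) • a₀ = k • k • α' (α' a₀) := by rw [h3, smul_smul]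
        _ = k • α' (k • α' a₀) := by rw [map_smul]
        _ = α (α a₀) := by rw [hk1 (α a₀), hk1 a₀]
        _ = a₀ := h1 a₀
    by_contra hne
    have h6 : (k * k - 1) • a₀ = 0 := by rw [sub_smul, h5, one_smul, sub_self]
    rcases smul_eq_zero.1 h6 with h7 | h7
    · exact hne (sub_eq_zero.1 h7)
    · exact ha₀ h7
  have hk1' := sq_eq_one hk
  subst hk1'
  exact ⟨LinearMap.ext fun a => by rw [hk1, one_smul], LinearMap.ext fun b => by rw [hk2, one_smul]⟩

/-- **an elementary abelian group of pure tensors acts through two homomorphisms** -/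
theorem exists_hom [Nontrivial A] [Nontrivial B] {U : Type*} [Group U] (r : U →* Module.End K (A ⊗[K] B))
    (h2 : ∀ u : U, u * u = 1)
    (hp : ∀ u : U, ∃ (α : A →ₗ[K] A) (β : B →ₗ[K] B), ∀ a b, r u (a ⊗ₜ b) = α a ⊗ₜ β b) :
    ∃ (rA : U →* Module.End K A) (rB : U →* Module.End K B), ∀ u a b, r u (a ⊗ₜ b) = rA u a ⊗ₜ rB u b := by
  have hp' : ∀ u : U, ∃ (α : A →ₗ[K] A) (β : B →ₗ[K] B), (∀ a, α (α a) = a) ∧ (∀ b, β (β b) = b) ∧
      ∀ a b, r u (a ⊗ₜ b) = α a ⊗ₜ β b := by
    intro u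
    obtain ⟨α, β, h⟩ := hp u
    obtain ⟨α', β', h1, h2, h3⟩ := invol (α := α) (β := β) (fun a b => by
      have : r u (r u (a ⊗ₜ b)) = a ⊗ₜ b := by
        rw [← Module.End.mul_apply, ← map_mul, h2, map_one, Module.End.one_apply]
      rw [h, h] at this
      exact this)
    exact ⟨α', β', h1, h2, fun a b => by rw [h, h3]⟩
  choose f g hf hg hfg using hp'
  have hcomm : ∀ u v : U, u * v = v * u := fun u v => by
    have h3 : u⁻¹ = u := inv_eq_of_mul_eq_one_left (h2 u)
    have h4 : v⁻¹ = v := inv_eq_of_mul_eq_one_left (h2 v)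
    have h5 : (u * v)⁻¹ = u * v := inv_eq_of_mul_eq_one_left (h2 (u * v))
    calc u * v = (u * v)⁻¹ := h5.symm
      _ = v * u := by rw [mul_inv_rev, h3, h4]
  have inj : ∀ u, Function.Injective (f u) := fun u => Function.LeftInverse.injective (hf u)
  have injg : ∀ u, Function.Injective (g u) := fun u => Function.LeftInverse.injective (hg u)
  have hprod : ∀ u v a b, r (u * v) (a ⊗ₜ b) = f u (f v a) ⊗ₜ g u (g v b) := fun u v a b => by
    rw [map_mul, Module.End.mul_apply, hfg, hfg]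
  -- f u and f v commute
  have cf : ∀ u v, (∀ a, f u (f v a) = f v (f u a)) ∧ ∀ b, g u (g v b) = g v (g u b) := by
    intro u v
    obtain ⟨k, hk0, hk1, hk2⟩ := scal (K := K) (α := f u ∘ₗ f v) (β := g u ∘ₗ g v) (α' := f v ∘ₗ f u)
      (β' := g v ∘ₗ g u) ((inj u).comp (inj v)) ((injg u).comp (injg v)) (fun a b => by
        simp only [LinearMap.coe_comp, Function.comp_apply]
        rw [← hprod, hcomm, hprod])
    simp only [LinearMap.coe_comp, Function.comp_apply] at hk1 hk2
    obtain ⟨a₀, ha₀⟩ := exists_ne (0 : A)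
    have hk : k * k = 1 := by
      have h5 : (k * k) • a₀ = a₀ := by
        have e1 : f u (f v (f v (f u a₀))) = a₀ := by rw [hf, hf]
        have e2 : f u (f v (f v (f u a₀))) = (k * k) • a₀ := by
          rw [hk1 (f v (f u a₀)), show f u (f v (f u a₀)) = k • f v (f u (f u a₀)) from hk1 (f u a₀), hf,
            map_smul, hf, smul_smul]
        rw [← e2, e1]
      by_contra hne
      have h6 : (k * k - 1) • a₀ = 0 := by rw [sub_smul, h5, one_smul, sub_self]
      rcases smul_eq_zero.1 h6 with h7 | h7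
      · exact hne (sub_eq_zero.1 h7)
      · exact ha₀ h7
    have hk1' := sq_eq_one hk
    subst hk1'
    exact ⟨fun a => by rw [hk1, one_smul], fun b => by rw [hk2, one_smul]⟩
  have hmul : ∀ u v : U, f (u * v) = f u ∘ₗ f v ∧ g (u * v) = g u ∘ₗ g v := by
    intro u v
    refine invol_unique (hf _) (hg _) (fun a => ?_) (fun b => ?_) (fun a b => ?_)
    · simp only [LinearMap.coe_comp, Function.comp_apply]
      rw [(cf u v).1 (f u (f v a)), hf, hf]
    · simp only [LinearMap.coe_comp, Function.comp_apply]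
      rw [(cf u v).2 (g u (g v b)), hg, hg]
    · simp only [LinearMap.coe_comp, Function.comp_apply]
      rw [← hfg, hprod]
  have hone : f 1 = LinearMap.id ∧ g 1 = LinearMap.id := by
    refine invol_unique (hf _) (hg _) (fun a => rfl) (fun b => rfl) (fun a b => ?_)
    rw [← hfg, map_one]
    rfl
  exact ⟨{ toFun := f, map_one' := hone.1, map_mul' := fun u v => (hmul u v).1 },
    { toFun := g, map_one' := hone.2, map_mul' := fun u v => (hmul u v).2 }, hfg⟩

end invol

end Cfsg.Agent.Omega.NO1.Comp.Pure
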