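import Cfsg.Agent.Omega.NO1.Comp.Irr
import Cfsg.Agent.Omega.NO1.Comp.Pure
import Cfsg.Agent.LieClassical.SLGen

/-!
# N1, THEOREM COMP, (6): `dim W = 2` and `SL(W)` is induced (project OMEGA)

Text: helper390 (bb OMEGA #17539). Typed by helper570.

`Y` acts on `M = W ⊗ W'`, every element is a pure tensor or a swap.

* `Ind φ f h y` : `y` induces the transvection `w ↦ w + f w • h` on `W` (trivially on `W'`).
* `all_transv` : if the full group of transvections with one axis is induced and `W` is irreducible, all transvections of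
  `W` are induced.
* `all_transv'` : the same for `W'`.
* `finrank_eq_two` : a Sylow 2-subgroup of `Y` is contained in a unique maximal subgroup ⟹ `dim W = 2`.
* `sl_two` : `dim W = 2` ⟹ every `A` with `det A = 1` is induced.
-/

set_option autoImplicit false
set_option linter.unusedSectionVars false

namespace Cfsg.Agent.Omega.NO1.Comp.Six

open TensorProduct Module
open Cfsg.Agent.Omega.NO1.Comp.Irr (ya ya_ya ya_one mem_ya Irred)

section basic

variable {K W W' M Y : Type*} [Field K] [AddCommGroup W] [Module K W] [AddCommGroup W'] [Module K W']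
  [AddCommGroup M] [Module K M] [Group Y] [DistribMulAction Y M] (φ : W ⊗[K] W' ≃ₗ[K] M)

/-- `y` is the pure tensor `α ⊗ β` -/
def Pur (y : Y) (σ : K ≃+* K) (α : W ≃+ W) (β : W' ≃+ W') : Prop :=
  (∀ (k : K) (w : W), α (k • w) = σ k • α w) ∧ (∀ (k : K) (w : W'), β (k • w) = σ k • β w) ∧
    ∀ w w', y • φ (w ⊗ₜ w') = φ (α w ⊗ₜ β w')

/-- `y` is a swap -/
def Swp (y : Y) (σ : K ≃+* K) (α : W ≃+ W') (β : W' ≃+ W) : Prop :=
  (∀ (k : K) (w : W), α (k • w) = σ k • α w) ∧ (∀ (k : K) (w : W'), β (k • w) = σ k • β w) ∧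
    ∀ w w', y • φ (w ⊗ₜ w') = φ (β w' ⊗ₜ α w)

/-- `y` is a pure tensor -/
def IsPure (y : Y) : Prop := ∃ σ α β, Pur φ y σ α β

/-- `y` is a swap -/
def IsSwap (y : Y) : Prop := ∃ σ α β, Swp φ y σ α β

variable {φ}

theorem symm_smul {X X' : Type*} [AddCommGroup X] [Module K X] [AddCommGroup X'] [Module K X'] {σ : K ≃+* K}
    {α : X ≃+ X'} (h : ∀ (k : K) (x : X), α (k • x) = σ k • α x) (k : K) (x : X') :
    α.symm (k • x) = σ.symm k • α.symm x := by
  rw [α.symm_apply_eq, h, σ.apply_symm_apply, α.apply_symm_apply]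

theorem pur_one : Pur φ (1 : Y) (RingEquiv.refl K) (AddEquiv.refl W) (AddEquiv.refl W') :=
  ⟨fun _ _ => rfl, fun _ _ => rfl, fun _ _ => one_smul _ _⟩

theorem Pur.mul {x y : Y} {σ τ : K ≃+* K} {α α' : W ≃+ W} {β β' : W' ≃+ W'} (h : Pur φ x σ α β)
    (h' : Pur φ y τ α' β') : Pur φ (x * y) (τ.trans σ) (α'.trans α) (β'.trans β) :=
  ⟨fun k w => by
      show α (α' (k • w)) = σ (τ k) • α (α' w)
      rw [h'.1, h.1], fun k w => by
      show β (β' (k • w)) = σ (τ k) • β (β' w)
      rw [h'.2.1, h.2.1], fun w w' => by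
      rw [mul_smul, h'.2.2, h.2.2]
      rfl⟩

theorem Pur.inv {x : Y} {σ : K ≃+* K} {α : W ≃+ W} {β : W' ≃+ W'} (h : Pur φ x σ α β) :
    Pur φ x⁻¹ σ.symm α.symm β.symm :=
  ⟨symm_smul h.1, symm_smul h.2.1, fun w w' => by
    rw [inv_smul_eq_iff, h.2.2, α.apply_symm_apply, β.apply_symm_apply]⟩

theorem Swp.mul {x y : Y} {σ τ : K ≃+* K} {α α' : W ≃+ W'} {β β' : W' ≃+ W} (h : Swp φ x σ α β)
    (h' : Swp φ y τ α' β') : Pur φ (x * y) (τ.trans σ) (α'.trans β) (β'.trans α) :=
  ⟨fun k w => by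
      show β (α' (k • w)) = σ (τ k) • β (α' w)
      rw [h'.1, h.2.1], fun k w => by
      show α (β' (k • w)) = σ (τ k) • α (β' w)
      rw [h'.2.1, h.1], fun w w' => by
      rw [mul_smul, h'.2.2, h.2.2]
      rfl⟩

theorem Swp.inv {x : Y} {σ : K ≃+* K} {α : W ≃+ W'} {β : W' ≃+ W} (h : Swp φ x σ α β) :
    Swp φ x⁻¹ σ.symm β.symm α.symm :=
  ⟨symm_smul h.2.1, symm_smul h.1, fun w w' => by
    rw [inv_smul_eq_iff, h.2.2, α.apply_symm_apply, β.apply_symm_apply]⟩

theorem IsPure.mul {x y : Y} (hx : IsPure φ x) (hy : IsPure φ y) : IsPure φ (x * y) := by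
  obtain ⟨_, _, _, hx⟩ := hx
  obtain ⟨_, _, _, hy⟩ := hy
  exact ⟨_, _, _, hx.mul hy⟩

theorem IsPure.inv {x : Y} (hx : IsPure φ x) : IsPure φ x⁻¹ := by
  obtain ⟨_, _, _, hx⟩ := hx
  exact ⟨_, _, _, hx.inv⟩

theorem IsSwap.mul {x y : Y} (hx : IsSwap φ x) (hy : IsSwap φ y) : IsPure φ (x * y) := by
  obtain ⟨_, _, _, hx⟩ := hx
  obtain ⟨_, _, _, hy⟩ := hy
  exact ⟨_, _, _, hx.mul hy⟩

theorem IsSwap.inv {x : Y} (hx : IsSwap φ x) : IsSwap φ x⁻¹ := by
  obtain ⟨_, _, _, hx⟩ := hx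
  exact ⟨_, _, _, hx.inv⟩

theorem IsPure.mul_swap {x y : Y} (hx : IsPure φ x) (hy : IsSwap φ y) : IsSwap φ (x * y) := by
  obtain ⟨σ, α, β, hx⟩ := hx
  obtain ⟨τ, α', β', hy⟩ := hy
  refine ⟨τ.trans σ, α'.trans β, β'.trans α, fun k w => ?_, fun k w => ?_, fun w w' => ?_⟩
  · show β (α' (k • w)) = σ (τ k) • β (α' w)
    rw [hy.1, hx.2.1]
  · show α (β' (k • w)) = σ (τ k) • α (β' w)
    rw [hy.2.1, hx.1]
  · rw [mul_smul, hy.2.2, hx.2.2]
    rfl

variable (φ) in
/-- the subgroup of pure tensors -/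
def pureSub : Subgroup Y where
  carrier := {y | IsPure φ y}
  one_mem' := ⟨_, _, _, pur_one⟩
  mul_mem' := by
    rintro x y ⟨_, _, _, hx⟩ ⟨_, _, _, hy⟩
    exact ⟨_, _, _, hx.mul hy⟩
  inv_mem' := by
    rintro x ⟨_, _, _, hx⟩
    exact ⟨_, _, _, hx.inv⟩

theorem mem_pureSub {y : Y} : y ∈ pureSub φ ↔ IsPure φ y := Iff.rfl

/-! ### transvections -/

variable (φ) in
/-- `y` induces the transvection `w ↦ w + f w • h` on `W` -/
def Ind (f : Dual K W) (h : W) (y : Y) : Prop := ∀ w w', y • φ (w ⊗ₜ w') = φ ((w + f w • h) ⊗ₜ w')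

variable (φ) in
/-- `y` induces the transvection `w ↦ w + f w • h` on `W'` -/
def Ind' (f : Dual K W') (h : W') (y : Y) : Prop := ∀ w w', y • φ (w ⊗ₜ w') = φ (w ⊗ₜ (w' + f w' • h))

variable [CharP K 2]

theorem add_self_eq {X : Type*} [AddCommGroup X] [Module K X] (x : X) : x + x = 0 := by
  rw [← two_smul K x, CharTwo.two_eq_zero, zero_smul]

/-- a transvection -/
def tv (f : Dual K W) (h : W) (hf : f h = 0) : W ≃+ W where
  toFun w := w + f w • h
  invFun w := w + f w • h
  left_inv w := by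
    show w + f w • h + f (w + f w • h) • h = w
    rw [map_add, map_smul, hf, smul_zero, add_zero, add_assoc, add_self_eq (K := K), add_zero]
  right_inv w := by
    show w + f w • h + f (w + f w • h) • h = w
    rw [map_add, map_smul, hf, smul_zero, add_zero, add_assoc, add_self_eq (K := K), add_zero]
  map_add' u v := by
    rw [map_add, add_smul]
    abel

theorem tv_apply (f : Dual K W) (h : W) (hf : f h = 0) (w : W) : tv f h hf w = w + f w • h := rfl

theorem tv_symm_apply (f : Dual K W) (h : W) (hf : f h = 0) (w : W) : (tv f h hf).symm w = w + f w • h := rfl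

theorem Ind.pur {f : Dual K W} {h : W} (hf : f h = 0) {y : Y} (hy : Ind φ f h y) :
    Pur φ y (RingEquiv.refl K) (tv f h hf) (AddEquiv.refl W') :=
  ⟨fun k w => by
    show k • w + f (k • w) • h = k • (w + f w • h)
    rw [map_smul, smul_add, smul_eq_mul, mul_smul], fun _ _ => rfl, hy⟩

/-- the conjugate functional -/
def tw {X X' : Type*} [AddCommGroup X] [Module K X] [AddCommGroup X'] [Module K X'] (σ : K ≃+* K)
    (α : X ≃+ X') (h : ∀ (k : K) (x : X), α (k • x) = σ k • α x) (f : Dual K X) : Dual K X' where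
  toFun x := σ (f (α.symm x))
  map_add' u v := by rw [map_add, map_add, map_add]
  map_smul' k x := by
    rw [symm_smul h, map_smul, smul_eq_mul, map_mul, σ.apply_symm_apply]
    rfl

omit [CharP K 2] in
theorem tw_apply {X X' : Type*} [AddCommGroup X] [Module K X] [AddCommGroup X'] [Module K X'] (σ : K ≃+* K)
    (α : X ≃+ X') (h : ∀ (k : K) (x : X), α (k • x) = σ k • α x) (f : Dual K X) (x : X') :
    tw σ α h f x = σ (f (α.symm x)) := rfl

theorem Ind.conj {f : Dual K W} {h : W} {y : Y} (hy : Ind φ f h y) {g : Y} {σ : K ≃+* K} {α : W ≃+ W}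
    {β : W' ≃+ W'} (hg : Pur φ g σ α β) : Ind φ (tw σ α hg.1 f) (α h) (g * y * g⁻¹) := by
  intro w w'
  rw [mul_smul, mul_smul, hg.inv.2.2, hy, hg.2.2, β.apply_symm_apply, map_add, α.apply_symm_apply, hg.1, tw_apply]

/-- a swap carries transvections of `W` to transvections of `W'` -/
theorem Ind.conj_swp {f : Dual K W} {h : W} {y : Y} (hy : Ind φ f h y) {g : Y} {σ : K ≃+* K} {α : W ≃+ W'}
    {β : W' ≃+ W} (hg : Swp φ g σ α β) : Ind' φ (tw σ α hg.1 f) (α h) (g * y * g⁻¹) := by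
  intro w w'
  rw [mul_smul, mul_smul, hg.inv.2.2, hy, hg.2.2, β.apply_symm_apply, map_add, α.apply_symm_apply, hg.1, tw_apply]

variable (φ) in
/-- the functionals with a full transvection group -/
def full : Set (Dual K W) := {f | ∀ h, f h = 0 → ∃ y : Y, Ind φ f h y}

theorem full_smul {f : Dual K W} (hf : f ∈ full (Y := Y) φ) (k : K) : k • f ∈ full (Y := Y) φ := by
  intro h hh
  by_cases hk : k = 0
  · subst hk
    refine ⟨1, fun w w' => ?_⟩
    rw [one_smul, zero_smul, LinearMap.zero_apply, zero_smul, add_zero]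
  · have h1 : f (k • h) = 0 := by
      rw [LinearMap.smul_apply, smul_eq_mul] at hh
      rw [map_smul, smul_eq_mul, hh]
    obtain ⟨y, hy⟩ := hf (k • h) h1
    refine ⟨y, fun w w' => ?_⟩
    rw [hy, LinearMap.smul_apply, smul_smul, smul_eq_mul, mul_comm]

theorem full_add {f₁ f₂ : Dual K W} (h₁ : f₁ ∈ full (Y := Y) φ) (h₂ : f₂ ∈ full (Y := Y) φ) :
    f₁ + f₂ ∈ full (Y := Y) φ := by
  by_cases hc : ∃ k, f₁ k = 0 ∧ f₂ k ≠ 0
  · obtain ⟨k₀, hk₀, hk₀'⟩ := hc
    obtain ⟨k, hk, hk'⟩ : ∃ k, f₁ k = 0 ∧ f₂ k = 1 := by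
      refine ⟨(f₂ k₀)⁻¹ • k₀, ?_, ?_⟩
      · rw [map_smul, hk₀, smul_zero]
      · rw [map_smul, smul_eq_mul, inv_mul_cancel₀ hk₀']
    intro h hh
    obtain ⟨g, hg⟩ := h₁ k hk
    have hp := hg.pur hk
    have h3 : f₂ ((tv f₁ k hk).symm h) = 0 := by
      rw [tv_symm_apply, map_add, map_smul, hk', smul_eq_mul, mul_one, add_comm]
      exact hh
    obtain ⟨y, hy⟩ := h₂ _ h3
    refine ⟨g * y * g⁻¹, ?_⟩
    have h4 := hy.conj hp
    rw [AddEquiv.apply_symm_apply] at h4
    have h5 : tw (RingEquiv.refl K) (tv f₁ k hk) hp.1 f₂ = f₁ + f₂ := by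
      ext w
      rw [tw_apply, tv_symm_apply, RingEquiv.refl_apply, map_add, map_smul, hk', smul_eq_mul, mul_one, add_comm]
      rfl
    rwa [h5] at h4
  · push Not at hc
    have h3 : ∃ c : K, f₂ = c • f₁ := by
      by_cases h0 : f₁ = 0
      · refine ⟨0, ?_⟩
        rw [zero_smul]
        ext w
        exact hc w (by rw [h0]; rfl)
      · obtain ⟨v, hv⟩ : ∃ v, f₁ v ≠ 0 := by
          by_contra hcon
          push Not at hcon
          exact h0 (LinearMap.ext hcon)
        refine ⟨f₂ v * (f₁ v)⁻¹, ?_⟩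
        ext w
        have h4 := hc (w - (f₁ w * (f₁ v)⁻¹) • v) (by
          rw [map_sub, map_smul, smul_eq_mul, mul_assoc, inv_mul_cancel₀ hv, mul_one, sub_self])
        rw [map_sub, map_smul, smul_eq_mul, sub_eq_zero] at h4
        rw [h4, LinearMap.smul_apply, smul_eq_mul]
        ring
    obtain ⟨c, rfl⟩ := h3
    have h4 : f₁ + c • f₁ = (1 + c) • f₁ := by rw [add_smul, one_smul]
    rw [h4]
    exact full_smul h₁ _

variable (φ) in
/-- the functionals with a full transvection group -/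
def fullSub : Submodule K (Dual K W) where
  carrier := full (Y := Y) φ
  zero_mem' := by
    intro h _
    refine ⟨1, fun w w' => ?_⟩
    rw [one_smul, LinearMap.zero_apply, zero_smul, add_zero]
  add_mem' := full_add
  smul_mem' := fun k _ hf => full_smul hf k

/-- **(6a)** all transvections of `W` are induced -/
theorem all_transv [Finite W] {f₀ : Dual K W} (h0 : f₀ ≠ 0) (hf : ∀ h, f₀ h = 0 → ∃ y : Y, Ind φ f₀ h y)
    (irr : ∀ N : Submodule K W, (∀ (y : Y) σ α β, Pur φ y σ α β → ∀ w ∈ N, α w ∈ N) → N = ⊥ ∨ N = ⊤)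
    (f : Dual K W) (h : W) (hh : f h = 0) : ∃ y : Y, Ind φ f h y := by
  have : Module.Finite K W := Module.Finite.of_finite
  have hf₀ : f₀ ∈ fullSub (Y := Y) φ := hf
  have h1 : (fullSub (Y := Y) φ).dualCoannihilator = ⊥ := by
    refine (irr _ ?_).resolve_right ?_
    · intro y σ α β hy w hw
      rw [Submodule.mem_dualCoannihilator] at hw ⊢
      intro g hg
      have h2 : tw σ.symm α.symm hy.inv.1 g ∈ fullSub (Y := Y) φ := by
        intro k hk
        rw [tw_apply] at hk
        have h3 : g (α k) = 0 := by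
          have := σ.symm.injective (hk.trans (map_zero _).symm)
          exact this
        obtain ⟨x, hx⟩ := hg _ h3
        refine ⟨y⁻¹ * x * y⁻¹⁻¹, ?_⟩
        have h4 := hx.conj hy.inv
        rwa [AddEquiv.symm_apply_apply] at h4
      have h3 := hw _ h2
      rw [tw_apply] at h3
      exact σ.symm.injective (h3.trans (map_zero _).symm)
    · intro htop
      apply h0
      ext w
      have h2 : w ∈ (fullSub (Y := Y) φ).dualCoannihilator := by rw [htop]; exact Submodule.mem_top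
      rw [Submodule.mem_dualCoannihilator] at h2
      exact h2 _ hf₀
  have h2 : fullSub (Y := Y) φ = ⊤ := by
    have h3 := Subspace.dualCoannihilator_dualAnnihilator_eq (W := fullSub (Y := Y) φ)
    rw [h1, Submodule.dualAnnihilator_bot] at h3
    exact h3.symm
  have h3 : f ∈ fullSub (Y := Y) φ := by rw [h2]; exact Submodule.mem_top
  exact h3 h hh

/-- all transvections of `W'` are induced -/
theorem all_transv' {s : Y} (hs : IsSwap φ s)
    (hall : ∀ (f : Dual K W) (h : W), f h = 0 → ∃ y : Y, Ind φ f h y) (f : Dual K W') (h : W') (hh : f h = 0) :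
    ∃ y : Y, Ind' φ f h y := by
  obtain ⟨σ, α, β, hs⟩ := hs
  obtain ⟨y, hy⟩ := hall (tw σ.symm α.symm (symm_smul hs.1) f) (α.symm h) (by
    rw [tw_apply]
    show σ.symm (f (α (α.symm h))) = 0
    rw [α.apply_symm_apply, hh, map_zero])
  refine ⟨s * y * s⁻¹, ?_⟩
  have h1 := hy.conj_swp hs
  rw [α.apply_symm_apply] at h1
  have h2 : tw σ α hs.1 (tw σ.symm α.symm (symm_smul hs.1) f) = f := by
    ext w
    rw [tw_apply, tw_apply]
    show σ (σ.symm (f (α (α.symm w)))) = f w
    rw [σ.apply_symm_apply, α.apply_symm_apply]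
  rwa [h2] at h1

/-! ### `W ⊗ N'` and `N ⊗ W'` -/

variable (φ) in
/-- `φ(N ⊗ W')` -/
def emb (N : Submodule K W) : AddSubgroup M := AddSubgroup.closure {x | ∃ n ∈ N, ∃ w' : W', φ (n ⊗ₜ w') = x}

variable (φ) in
/-- `φ(W ⊗ N')` -/
def emb' (N : Submodule K W') : AddSubgroup M := AddSubgroup.closure {x | ∃ n ∈ N, ∃ w : W, φ (w ⊗ₜ n) = x}

/-- the image of a subspace -/
def img {X X' : Type*} [AddCommGroup X] [Module K X] [AddCommGroup X'] [Module K X'] (σ : K ≃+* K)
    (α : X ≃+ X') (h : ∀ (k : K) (x : X), α (k • x) = σ k • α x) (N : Submodule K X) : Submodule K X' where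
  carrier := {x | α.symm x ∈ N}
  add_mem' := by
    intro a b ha hb
    show α.symm (a + b) ∈ N
    rw [map_add]
    exact N.add_mem ha hb
  zero_mem' := by
    show α.symm 0 ∈ N
    rw [map_zero]
    exact N.zero_mem
  smul_mem' := by
    intro k x hx
    show α.symm (k • x) ∈ N
    rw [symm_smul h]
    exact N.smul_mem _ hx

omit [CharP K 2] in
theorem mem_img {X X' : Type*} [AddCommGroup X] [Module K X] [AddCommGroup X'] [Module K X'] {σ : K ≃+* K}
    {α : X ≃+ X'} {h : ∀ (k : K) (x : X), α (k • x) = σ k • α x} {N : Submodule K X} {x : X'} :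
    x ∈ img σ α h N ↔ α.symm x ∈ N := Iff.rfl

omit [CharP K 2] in
theorem ya_emb {y : Y} {σ : K ≃+* K} {α : W ≃+ W} {β : W' ≃+ W'} (h : Pur φ y σ α β) (N : Submodule K W) :
    ya y (emb φ N) = emb φ (img σ α h.1 N) := by
  unfold ya emb
  rw [AddMonoidHom.map_closure]
  congr 1
  ext x
  constructor
  · rintro ⟨_, ⟨n, hn, w', rfl⟩, rfl⟩
    refine ⟨α n, ?_, β w', ?_⟩
    · rw [mem_img, α.symm_apply_apply]
      exact hn
    · exact (h.2.2 n w').symm
  · rintro ⟨n, hn, w', rfl⟩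
    refine ⟨_, ⟨α.symm n, hn, β.symm w', rfl⟩, ?_⟩
    show y • φ _ = _
    rw [h.2.2, α.apply_symm_apply, β.apply_symm_apply]

omit [CharP K 2] in
theorem ya_emb' {y : Y} {σ : K ≃+* K} {α : W ≃+ W} {β : W' ≃+ W'} (h : Pur φ y σ α β) (N : Submodule K W') :
    ya y (emb' φ N) = emb' φ (img σ β h.2.1 N) := by
  unfold ya emb'
  rw [AddMonoidHom.map_closure]
  congr 1
  ext x
  constructor
  · rintro ⟨_, ⟨n, hn, w, rfl⟩, rfl⟩
    refine ⟨β n, ?_, α w, ?_⟩
    · rw [mem_img, β.symm_apply_apply]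
      exact hn
    · exact (h.2.2 w n).symm
  · rintro ⟨n, hn, w, rfl⟩
    refine ⟨_, ⟨β.symm n, hn, α.symm w, rfl⟩, ?_⟩
    show y • φ _ = _
    rw [h.2.2, α.apply_symm_apply, β.apply_symm_apply]

omit [CharP K 2] in
theorem ya_emb_swp {y : Y} {σ : K ≃+* K} {α : W ≃+ W'} {β : W' ≃+ W} (h : Swp φ y σ α β) (N : Submodule K W) :
    ya y (emb φ N) = emb' φ (img σ α h.1 N) := by
  unfold ya emb emb'
  rw [AddMonoidHom.map_closure]
  congr 1
  ext x
  constructor
  · rintro ⟨_, ⟨n, hn, w', rfl⟩, rfl⟩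
    refine ⟨α n, ?_, β w', ?_⟩
    · rw [mem_img, α.symm_apply_apply]
      exact hn
    · exact (h.2.2 n w').symm
  · rintro ⟨n, hn, w', rfl⟩
    refine ⟨_, ⟨α.symm n, hn, β.symm w', rfl⟩, ?_⟩
    show y • φ _ = _
    rw [h.2.2, α.apply_symm_apply, β.apply_symm_apply]

omit [CharP K 2] in
theorem mem_emb {N : Submodule K W} {w : W} {w' : W'} (hw' : w' ≠ 0) : φ (w ⊗ₜ w') ∈ emb φ N ↔ w ∈ N := by
  constructor
  · intro h
    by_contra hw
    obtain ⟨f, hf, hfN⟩ := Submodule.exists_dual_map_eq_bot_of_notMem hw inferInstance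
    let Φ : M →+ W' := (Pure.con' f).toAddMonoidHom.comp φ.symm.toAddEquiv.toAddMonoidHom
    have hΦ : ∀ x, Φ (φ x) = Pure.con' f x := fun x => by
      show Pure.con' f (φ.symm (φ x)) = _
      rw [φ.symm_apply_apply]
    have h1 : emb φ N ≤ Φ.ker := by
      unfold emb
      rw [AddSubgroup.closure_le]
      rintro _ ⟨n, hn, w₁, rfl⟩
      show Φ _ = 0
      rw [hΦ, Pure.con'_tmul]
      have h2 : f n ∈ N.map f := ⟨n, hn, rfl⟩
      rw [hfN, Submodule.mem_bot] at h2
      rw [h2, zero_smul]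
    have h2 : Φ (φ (w ⊗ₜ w')) = 0 := h1 h
    rw [hΦ, Pure.con'_tmul, smul_eq_zero] at h2
    exact h2.elim hf hw'
  · intro h
    exact AddSubgroup.subset_closure ⟨w, h, w', rfl⟩

omit [CharP K 2] in
theorem emb_inj [Nontrivial W'] {N N₁ : Submodule K W} (h : emb φ N = emb φ N₁) : N = N₁ := by
  obtain ⟨w', hw'⟩ := exists_ne (0 : W')
  ext w
  rw [← mem_emb (φ := φ) hw', h, mem_emb hw']

omit [CharP K 2] in
theorem sup_ne_top {N : Submodule K W} {N' : Submodule K W'} (hN : N ≠ ⊤) (hN' : N' ≠ ⊤) :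
    emb φ N ⊔ emb' φ N' ≠ ⊤ := by
  obtain ⟨w, -, hw⟩ := SetLike.exists_of_lt (lt_top_iff_ne_top.mpr hN)
  obtain ⟨w', -, hw'⟩ := SetLike.exists_of_lt (lt_top_iff_ne_top.mpr hN')
  obtain ⟨f, hf, hfN⟩ := Submodule.exists_dual_map_eq_bot_of_notMem hw inferInstance
  obtain ⟨f', hf', hfN'⟩ := Submodule.exists_dual_map_eq_bot_of_notMem hw' inferInstance
  intro htop
  let Φ : M →+ K := (f' ∘ₗ Pure.con' f).toAddMonoidHom.comp φ.symm.toAddEquiv.toAddMonoidHom
  have hΦ : ∀ a b, Φ (φ (a ⊗ₜ b)) = f a * f' b := fun a b => by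
    show f' (Pure.con' f (φ.symm (φ _))) = _
    rw [φ.symm_apply_apply, Pure.con'_tmul, map_smul, smul_eq_mul]
  have h1 : emb φ N ⊔ emb' φ N' ≤ Φ.ker := by
    apply sup_le
    · unfold emb
      rw [AddSubgroup.closure_le]
      rintro _ ⟨n, hn, w₁, rfl⟩
      show Φ _ = 0
      have h2 : f n ∈ N.map f := ⟨n, hn, rfl⟩
      rw [hfN, Submodule.mem_bot] at h2
      rw [hΦ, h2, zero_mul]
    · unfold emb'
      rw [AddSubgroup.closure_le]
      rintro _ ⟨n, hn, w₁, rfl⟩
      show Φ _ = 0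
      have h2 : f' n ∈ N'.map f' := ⟨n, hn, rfl⟩
      rw [hfN', Submodule.mem_bot] at h2
      rw [hΦ, h2, mul_zero]
  rw [htop] at h1
  have h2 : Φ (φ (w ⊗ₜ w')) = 0 := h1 (AddSubgroup.mem_top _)
  rw [hΦ, mul_eq_zero] at h2
  exact h2.elim hf hf'

omit [CharP K 2] in
theorem img_ne_top {X X' : Type*} [AddCommGroup X] [Module K X] [AddCommGroup X'] [Module K X'] {σ : K ≃+* K}
    {α : X ≃+ X'} {h : ∀ (k : K) (x : X), α (k • x) = σ k • α x} {N : Submodule K X} (hN : N ≠ ⊤) :
    img σ α h N ≠ ⊤ := by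
  intro htop
  apply hN
  rw [eq_top_iff]
  intro x _
  have h1 : α x ∈ img σ α h N := by rw [htop]; exact Submodule.mem_top
  rwa [mem_img, α.symm_apply_apply] at h1

end basic

/-! ### fixed points -/

/-- a 2-group permuting the values of an injective family of odd cardinality fixes one -/
theorem exists_fix {Y M : Type*} [Group Y] [AddCommGroup M] [DistribMulAction Y M] {T₀ : Subgroup Y}
    (hT : IsPGroup 2 T₀) {Ω : Type*} [Finite Ω] (hodd : Odd (Nat.card Ω)) {F : Ω → AddSubgroup M}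
    (hF : Function.Injective F) (hst : ∀ t ∈ T₀, ∀ x, ∃ x', ya t (F x) = F x') :
    ∃ x, ∀ t ∈ T₀, ya t (F x) = F x := by
  classical
  let _ : MulAction T₀ (Set.range F) :=
    { smul := fun t A => ⟨ya (t : Y) A.1, by
        obtain ⟨x, hx⟩ := A.2
        obtain ⟨x', h⟩ := hst t t.2 x
        exact ⟨x', by rw [← hx, h]⟩⟩
      one_smul := fun A => Subtype.ext (ya_one _)
      mul_smul := fun s t A => Subtype.ext (ya_ya _ _ _).symm }
  have : Fact (Nat.Prime 2) := ⟨Nat.prime_two⟩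
  have hc : Nat.card (Set.range F) = Nat.card Ω := Nat.card_range_of_injective hF
  obtain ⟨A, hA⟩ := hT.nonempty_fixed_point_of_prime_not_dvd_card (Set.range F) (by
    rw [hc, ← even_iff_two_dvd, Nat.not_even_iff_odd]
    exact hodd)
  obtain ⟨x, hx⟩ := A.2
  refine ⟨x, fun t ht => ?_⟩
  have h1 := congrArg Subtype.val (hA ⟨t, ht⟩)
  change ya t A.1 = A.1 at h1
  rwa [← hx] at h1

/-- the number of points is odd -/
theorem odd_points {K X : Type*} [Field K] [CharP K 2] [AddCommGroup X] [Module K X] [Finite X] [Nontrivial X] :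
    Odd (Nat.card (Projectivization K X)) := by
  have h1 := Projectivization.card K X
  have h2 : Even (Nat.card X) := EH3.Clif.even_card_of_add_self (fun a => add_self_eq (K := K) a) (exists_ne 0)
  have h3 : 0 < Nat.card X := Nat.card_pos
  have h4 : Odd (Nat.card X - 1) := by
    obtain ⟨k, hk⟩ := h2
    exact ⟨k - 1, by omega⟩
  rw [h1] at h4
  exact (Nat.odd_mul.mp h4).1

section two

variable {K W W' M Y : Type*} [Field K] [AddCommGroup W] [Module K W] [AddCommGroup W'] [Module K W']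
  [AddCommGroup M] [Module K M] [Group Y] [DistribMulAction Y M] {φ : W ⊗[K] W' ≃ₗ[K] M} {T : Sylow 2 Y}
  {Mx : Subgroup Y}

theorem ya_sup (y : Y) (A B : AddSubgroup M) : ya y (A ⊔ B) = ya y A ⊔ ya y B := AddSubgroup.map_sup _ _ _

theorem ya_bot (y : Y) : ya y (⊥ : AddSubgroup M) = ⊥ := AddSubgroup.map_bot _

theorem ya_top (y : Y) : ya y (⊤ : AddSubgroup M) = ⊤ := by
  rw [eq_top_iff]
  intro m _
  rw [mem_ya]
  exact AddSubgroup.mem_top _

/-- the stabiliser of `N ⊗ W' + W ⊗ N'` -/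
theorem stab_le (h : Grp.MinP T Mx) (hirr : Irred Y M) (hps : ∀ y : Y, IsPure φ y ∨ IsSwap φ y) {s : Y}
    (hsT : s ∈ T) (hs : IsSwap φ s) [Nontrivial W'] {N : Submodule K W} (hN0 : N ≠ ⊥) (hN1 : N ≠ ⊤)
    (hT : ∀ t ∈ T, IsPure φ t → ya t (emb φ N) = emb φ N) {y : Y} {σ : K ≃+* K} {α : W ≃+ W}
    (hy : Pur φ y σ α (AddEquiv.refl W')) (hyN : ya y (emb φ N) = emb φ N) : y ∈ Mx := by
  set A := emb φ N with hA
  set B := A ⊔ ya s A with hB
  obtain ⟨τ, γ, δ, hs⟩ := hs
  have hsA : ya s A = emb' φ (img τ γ hs.1 N) := ya_emb_swp hs N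
  have hBt : B ≠ ⊤ := by
    rw [hB, hsA]
    exact sup_ne_top hN1 (img_ne_top hN1)
  have hBb : B ≠ ⊥ := by
    intro h0
    obtain ⟨w', hw'⟩ := exists_ne (0 : W')
    obtain ⟨n, hn, hn0⟩ := Submodule.exists_mem_ne_zero_of_ne_bot hN0
    have h1 : φ (n ⊗ₜ w') ∈ B := (le_sup_left : A ≤ B) ((mem_emb hw').mpr hn)
    rw [h0, AddSubgroup.mem_bot, LinearEquiv.map_eq_zero_iff] at h1
    exact Pure.tmul_ne_zero hn0 hw' h1
  let St : Subgroup Y :=
    { carrier := {y | ya y B = B}
      one_mem' := ya_one B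
      mul_mem' := by
        intro x y hx hy
        show ya (x * y) B = B
        rw [← ya_ya, hy, hx]
      inv_mem' := by
        intro x hx
        show ya x⁻¹ B = B
        have h1 : ya x⁻¹ (ya x B) = B := by rw [ya_ya, inv_mul_cancel, ya_one]
        rwa [show ya x B = B from hx] at h1 }
  have hSt : St ≤ Mx := by
    apply h.max
    · intro t ht
      show ya t B = B
      have hs' : IsSwap φ s := ⟨_, _, _, hs⟩
      rcases hps t with hp | hp
      · rw [hB, ya_sup, hT t ht hp, ya_ya]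
        congr 1
        have h1 : s⁻¹ * (t * s) ∈ T := T.mul_mem (T.inv_mem hsT) (T.mul_mem ht hsT)
        have h2 : IsPure φ (s⁻¹ * (t * s)) := hs'.inv.mul (hp.mul_swap hs')
        have h4 := hT _ h1 h2
        have h5 := congrArg (ya s) h4
        rw [ya_ya] at h5
        have e : s * (s⁻¹ * (t * s)) = t * s := by group
        rw [e] at h5
        exact h5
      · have h1 : ya t A = ya s A := by
          have h2 := hT (s⁻¹ * t) (T.mul_mem (T.inv_mem hsT) ht) (hs'.inv.mul hp)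
          have h3 := congrArg (ya s) h2
          rwa [ya_ya, mul_inv_cancel_left] at h3
        have h2 : ya t (ya s A) = A := by
          rw [ya_ya]
          exact hT _ (T.mul_mem ht hsT) (hp.mul hs')
        rw [hB, ya_sup, h1, h2, sup_comm]
    · intro htop
      rcases hirr B (fun y m hm => by
        have h1 : y ∈ St := by rw [htop]; exact Subgroup.mem_top y
        have h2 : ya y B = B := h1
        rw [← h2]
        exact ⟨m, hm, rfl⟩) with h1 | h1
      · exact hBb h1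
      · exact hBt h1
  apply hSt
  show ya y B = B
  rw [hB, ya_sup, hyN, hsA, ya_emb' hy]
  rfl

theorem img_span {σ : K ≃+* K} {α : W ≃+ W} (h : ∀ (k : K) (x : W), α (k • x) = σ k • α x) (v : W) :
    img σ α h (Submodule.span K {v}) = Submodule.span K {α v} := by
  ext x
  rw [mem_img, Submodule.mem_span_singleton, Submodule.mem_span_singleton]
  constructor
  · rintro ⟨a, ha⟩
    refine ⟨σ a, ?_⟩
    rw [← h, ha, α.apply_symm_apply]
  · rintro ⟨b, rfl⟩
    refine ⟨σ.symm b, ?_⟩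
    rw [symm_smul h, α.symm_apply_apply]

/-- the kernel of a functional, as a function of the line -/
def hk (f : Dual K W) : Submodule K W := LinearMap.ker f

theorem hk_inj {f g : Dual K W} (hf : f ≠ 0) (h : hk f = hk g) : ∃ a : K, a • f = g := by
  obtain ⟨v, hv⟩ : ∃ v, f v ≠ 0 := by
    by_contra hcon
    push Not at hcon
    exact hf (LinearMap.ext hcon)
  refine ⟨g v * (f v)⁻¹, ?_⟩
  ext w
  have h4 : w - (f w * (f v)⁻¹) • v ∈ hk f := by
    show f _ = 0
    rw [map_sub, map_smul, smul_eq_mul, mul_assoc, inv_mul_cancel₀ hv, mul_one, sub_self]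
  rw [h] at h4
  have h5 : g (w - (f w * (f v)⁻¹) • v) = 0 := h4
  rw [map_sub, map_smul, smul_eq_mul, sub_eq_zero] at h5
  rw [h5, LinearMap.smul_apply, smul_eq_mul]
  ring

theorem img_hk {σ : K ≃+* K} {α : W ≃+ W} (h : ∀ (k : K) (x : W), α (k • x) = σ k • α x) (f : Dual K W) :
    img σ α h (hk f) = hk (tw σ α h f) := by
  ext x
  show f (α.symm x) = 0 ↔ σ (f (α.symm x)) = 0
  rw [map_eq_zero_iff σ σ.injective]

theorem tw_ne_zero {σ : K ≃+* K} {α : W ≃+ W} (h : ∀ (k : K) (x : W), α (k • x) = σ k • α x) {f : Dual K W}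
    (hf : f ≠ 0) : tw σ α h f ≠ 0 := by
  intro h0
  apply hf
  ext w
  have h1 : tw σ α h f (α w) = 0 := by rw [h0]; rfl
  rw [tw_apply, α.symm_apply_apply] at h1
  exact (map_eq_zero_iff σ σ.injective).mp h1

variable [CharP K 2] [Finite K]

/-- **(6b)** `dim W = 2` -/
theorem finrank_eq_two [Finite Y] [Finite W] [Finite W'] (h : Grp.MinP T Mx)
    (faith : ∀ y : Y, (∀ m : M, y • m = m) → y = 1) (hirr : Irred Y M)
    (hps : ∀ y : Y, IsPure φ y ∨ IsSwap φ y) {s : Y} (hsT : s ∈ T) (hs : IsSwap φ s)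
    (hall : ∀ (f : Dual K W) (h : W), f h = 0 → ∃ y : Y, Ind φ f h y) (hd : 2 ≤ finrank K W) :
    finrank K W = 2 := by
  classical
  have : Module.Finite K W := Module.Finite.of_finite
  by_contra hne
  have hd3 : 3 ≤ finrank K W := by omega
  have hWnt : Nontrivial W := Module.nontrivial_of_finrank_pos (R := K) (by omega)
  have hW'nt : Nontrivial W' := by
    obtain ⟨_, α, _, _⟩ := hs
    exact α.symm.toEquiv.nontrivial
  have hDf : Finite (Dual K W) := Module.finite_of_finite K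
  have hDnt : Nontrivial (Dual K W) := by
    obtain ⟨v, hv⟩ := exists_ne (0 : W)
    obtain ⟨f, hf⟩ := Pure.exists_dual (K := K) hv
    exact ⟨f, 0, fun h0 => by rw [h0] at hf; exact zero_ne_one hf⟩
  -- the pure part of `T`
  let T₀ : Subgroup Y := (T : Subgroup Y) ⊓ pureSub φ
  have hT₀ : IsPGroup 2 T₀ := T.2.to_le inf_le_left
  -- a fixed point
  obtain ⟨x, hx⟩ := exists_fix (M := M) hT₀ (Ω := Projectivization K W) odd_points
    (F := fun x => emb φ x.submodule) (fun a b hab => Projectivization.submodule_injective (emb_inj hab)) (by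
      rintro t ⟨-, σ, α, β, ht⟩ x
      refine ⟨Projectivization.mk K (α x.rep) (by
        rw [Ne, AddEquiv.map_eq_zero_iff]; exact x.rep_nonzero), ?_⟩
      show ya t (emb φ x.submodule) = emb φ (Projectivization.mk K (α x.rep) _).submodule
      rw [ya_emb ht, Projectivization.submodule_mk, Projectivization.submodule_eq, img_span])
  -- a fixed hyperplane
  obtain ⟨z, hz⟩ := exists_fix (M := M) hT₀ (Ω := Projectivization K (Dual K W)) odd_points
    (F := fun x => emb φ (hk x.rep)) (fun a b hab => by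
      obtain ⟨c, hc⟩ := hk_inj b.rep_nonzero (emb_inj hab).symm
      rw [← a.mk_rep, ← b.mk_rep, Projectivization.mk_eq_mk_iff']
      exact ⟨c, hc⟩) (by
      rintro t ⟨-, σ, α, β, ht⟩ x
      refine ⟨Projectivization.mk K (tw σ α ht.1 x.rep) (tw_ne_zero _ x.rep_nonzero), ?_⟩
      show ya t (emb φ (hk x.rep)) = emb φ (hk (Projectivization.mk K (tw σ α ht.1 x.rep) _).rep)
      rw [ya_emb ht, img_hk]
      obtain ⟨a, ha⟩ := Projectivization.exists_smul_eq_mk_rep K (tw σ α ht.1 x.rep) (tw_ne_zero _ x.rep_nonzero)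
      rw [← ha]
      congr 1
      ext w
      show _ = 0 ↔ (a : K) • (tw σ α ht.1 x.rep w) = 0
      rw [smul_eq_zero, or_iff_right a.ne_zero])
  set p₀ := x.rep with hp₀
  have hp0 : p₀ ≠ 0 := x.rep_nonzero
  set g₀ := z.rep with hg₀
  have hg0 : g₀ ≠ 0 := z.rep_nonzero
  have hfr1 : finrank K (Submodule.span K {p₀}) = 1 := finrank_span_singleton hp0
  have hfr2 : finrank K (hk g₀) + 1 = finrank K W := Module.Dual.finrank_ker_add_one_of_ne_zero hg0
  -- transvections fixing the point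
  have hP : ∀ (f : Dual K W) (u : W) (y : Y), f u = 0 → Ind φ f u y → f p₀ = 0 → y ∈ Mx := by
    intro f u y hu hy hf
    refine stab_le h hirr hps hsT hs (N := Submodule.span K {p₀}) ?_ ?_ ?_ (hy.pur hu) ?_
    · intro h0
      rw [h0, finrank_bot] at hfr1
      omega
    · intro h0
      rw [h0, finrank_top] at hfr1
      omega
    · intro t ht hpt
      have h1 := hx t ⟨ht, hpt⟩
      change ya t (emb φ x.submodule) = emb φ x.submodule at h1
      rwa [Projectivization.submodule_eq] at h1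
    · rw [ya_emb (hy.pur hu), img_span]
      congr 2
      rw [tv_apply, hf, zero_smul, add_zero]
  -- transvections fixing the hyperplane
  have hH : ∀ (f : Dual K W) (u : W) (y : Y), f u = 0 → Ind φ f u y → g₀ u = 0 → y ∈ Mx := by
    intro f u y hu hy hf
    refine stab_le h hirr hps hsT hs (N := hk g₀) ?_ ?_ ?_ (hy.pur hu) ?_
    · intro h0
      rw [h0, finrank_bot] at hfr2
      omega
    · intro h0
      rw [h0, finrank_top] at hfr2
      omega
    · intro t ht hpt
      exact hz t ⟨ht, hpt⟩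
    · rw [ya_emb (hy.pur hu), img_hk]
      congr 1
      ext w
      show g₀ ((tv f u hu).symm w) = 0 ↔ g₀ w = 0
      rw [tv_symm_apply, map_add, map_smul, hf, smul_zero, add_zero]
  -- all transvections
  have hA : ∀ (f : Dual K W) (u : W) (y : Y), f u = 0 → Ind φ f u y → y ∈ Mx := by
    intro f u y hu hy
    by_cases hfp : f p₀ = 0
    · exact hP f u y hu hy hfp
    by_cases hgu : g₀ u = 0
    · exact hH f u y hu hy hgu
    -- `k ∈ ker g₀`, not in `⟨u, p₀⟩`
    obtain ⟨k, hk1, hk2⟩ : ∃ k ∈ hk g₀, k ∉ Submodule.span K {u, p₀} := by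
      by_contra hcon
      push Not at hcon
      have h1 : hk g₀ ≤ Submodule.span K {u, p₀} := hcon
      have h2 : finrank K (Submodule.span K ({u, p₀} : Set W)) ≤ 2 := by
        have h3 := finrank_span_finset_le_card (R := K) ({u, p₀} : Finset W)
        rw [Finset.coe_pair] at h3
        exact h3.trans Finset.card_le_two
      have h3 : hk g₀ = Submodule.span K {u, p₀} := Submodule.eq_of_le_of_finrank_le h1 (by omega)
      apply hgu
      have h4 : u ∈ hk g₀ := by
        rw [h3]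
        exact Submodule.subset_span (Set.mem_insert _ _)
      exact h4
    -- the functional
    have hn : u ∉ Submodule.span K {p₀, k - u} := by
      intro h1
      rw [Submodule.mem_span_pair] at h1
      obtain ⟨a, b, hab⟩ := h1
      by_cases hb : b = 0
      · rw [hb, zero_smul, add_zero] at hab
        have h2 := congrArg f hab
        rw [map_smul, hu, smul_eq_mul, mul_eq_zero] at h2
        have h3 := h2.resolve_right hfp
        rw [h3, zero_smul] at hab
        rw [← hab, map_zero] at hgu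
        exact hgu rfl
      · apply hk2
        rw [Submodule.mem_span_pair]
        refine ⟨b⁻¹ * (1 + b), - (b⁻¹ * a), ?_⟩
        have h2 : b • k = (1 + b) • u - a • p₀ := by
          have h3 : a • p₀ + (b • k - b • u) = u := by rw [← smul_sub]; exact hab
          have h4 : b • k = u - a • p₀ + b • u := by
            rw [← sub_eq_iff_eq_add, eq_sub_iff_add_eq']
            exact h3
          rw [h4, add_smul, one_smul]
          abel
        have h5 : k = b⁻¹ • (b • k) := by rw [smul_smul, inv_mul_cancel₀ hb, one_smul]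
        rw [h5, h2, smul_sub, smul_smul, smul_smul, neg_smul, sub_eq_add_neg]
    obtain ⟨g₁, hg₁, hg₁'⟩ := Submodule.exists_dual_map_eq_bot_of_notMem hn inferInstance
    have hz1 : ∀ v ∈ Submodule.span K {p₀, k - u}, g₁ v = 0 := by
      intro v hv
      have h2 : g₁ v ∈ (Submodule.span K {p₀, k - u}).map g₁ := ⟨v, hv, rfl⟩
      rwa [hg₁', Submodule.mem_bot] at h2
    let f' : Dual K W := (g₁ u)⁻¹ • g₁
    have hf'u : f' u = 1 := by
      show (g₁ u)⁻¹ • g₁ u = 1
      rw [smul_eq_mul, inv_mul_cancel₀ hg₁]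
    have hf'p : f' p₀ = 0 := by
      show (g₁ u)⁻¹ • g₁ p₀ = 0
      rw [hz1 _ (Submodule.subset_span (Set.mem_insert _ _)), smul_zero]
    have hf'k : f' (k - u) = 0 := by
      show (g₁ u)⁻¹ • g₁ (k - u) = 0
      rw [hz1 _ (Submodule.subset_span (Set.mem_insert_of_mem _ rfl)), smul_zero]
    obtain ⟨g, hg⟩ := hall f' (k - u) hf'k
    have hgM : g ∈ Mx := hP f' _ g hf'k hg hf'p
    have hpg := hg.pur hf'k
    have h1 := hy.conj hpg
    have h2 : tv f' (k - u) hf'k u = k := by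
      rw [tv_apply, hf'u, one_smul]
      abel
    rw [h2] at h1
    have h3 : g * y * g⁻¹ ∈ Mx := by
      refine hH _ k _ ?_ h1 hk1
      have h5 : (tv f' (k - u) hf'k).symm k = u := by
        rw [AddEquiv.symm_apply_eq]
        exact h2.symm
      rw [tw_apply, h5, hu, map_zero]
    have h4 := Mx.mul_mem (Mx.mul_mem (Mx.inv_mem hgM) h3) hgM
    have e : g⁻¹ * (g * y * g⁻¹) * g = y := by group
    rwa [e] at h4
  -- the normal closure
  let 𝒯 : Set Y := {y | ∃ (f : Dual K W) (u : W), f u = 0 ∧ Ind φ f u y}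
  have h𝒯 : ∀ y ∈ 𝒯, y ∈ Mx := by
    rintro y ⟨f, u, hu, hy⟩
    exact hA f u y hu hy
  have h𝒯c : ∀ y ∈ 𝒯, ∀ g : Y, IsPure φ g → g * y * g⁻¹ ∈ 𝒯 := by
    rintro y ⟨f, u, hu, hy⟩ g ⟨σ, α, β, hg⟩
    refine ⟨_, _, ?_, hy.conj hg⟩
    rw [tw_apply, AddEquiv.symm_apply_apply, hu, map_zero]
  have hsM : s ∈ Mx := h.TM hsT
  let X : Subgroup Y := Subgroup.normalClosure 𝒯
  have hX : X ≤ Mx := by
    show Subgroup.closure (Group.conjugatesOfSet 𝒯) ≤ Mx
    rw [Subgroup.closure_le]
    intro x hx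
    rw [Group.mem_conjugatesOfSet_iff] at hx
    obtain ⟨y, hy, hc⟩ := hx
    rw [isConj_iff] at hc
    obtain ⟨c, rfl⟩ := hc
    rcases hps c with hp | hp
    · exact h𝒯 _ (h𝒯c y hy c hp)
    · have h1 := h𝒯 _ (h𝒯c y hy _ (hs.inv.mul hp))
      have h2 := Mx.mul_mem (Mx.mul_mem hsM h1) (Mx.inv_mem hsM)
      have e : s * (s⁻¹ * c * y * (s⁻¹ * c)⁻¹) * s⁻¹ = c * y * c⁻¹ := by group
      rwa [e] at h2
  -- even order
  obtain ⟨f, v, hfv⟩ : ∃ (f : Dual K W) (v : W), f v = 1 := by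
    obtain ⟨v, hv⟩ := exists_ne (0 : W)
    obtain ⟨f, hf⟩ := Pure.exists_dual (K := K) hv
    exact ⟨f, v, hf⟩
  have hf0 : f ≠ 0 := by
    rintro rfl
    exact zero_ne_one hfv
  obtain ⟨u, hu, hu0⟩ : ∃ u, f u = 0 ∧ u ≠ 0 := by
    have h1 : finrank K (LinearMap.ker f) + 1 = finrank K W := Module.Dual.finrank_ker_add_one_of_ne_zero hf0
    have h2 : Nontrivial (LinearMap.ker f) := Module.nontrivial_of_finrank_pos (R := K) (by omega)
    obtain ⟨u, hu⟩ := exists_ne (0 : LinearMap.ker f)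
    exact ⟨u, u.2, fun h0 => hu (Subtype.ext h0)⟩
  obtain ⟨y, hy⟩ := hall f u hu
  have hext : ∀ y : Y, (∀ w w', y • φ (w ⊗ₜ w') = φ (w ⊗ₜ w')) → y = 1 := by
    intro y hy
    apply faith
    intro m
    obtain ⟨m, rfl⟩ := φ.surjective m
    induction m with
    | zero => rw [map_zero, smul_zero]
    | tmul a b => exact hy a b
    | add a b ha hb => rw [map_add, smul_add, ha, hb]
  have hy2 : y * y = 1 := by
    apply hext
    intro w w'
    rw [mul_smul, hy, hy, map_add, map_smul, hu, smul_zero, add_zero, add_assoc, add_self_eq (K := K), add_zero]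
  have hy1 : y ≠ 1 := by
    rintro rfl
    obtain ⟨w', hw'⟩ := exists_ne (0 : W')
    have h1 := hy v w'
    rw [one_smul, hfv, one_smul] at h1
    have h2 := φ.injective h1
    rw [TensorProduct.add_tmul, left_eq_add] at h2
    exact Pure.tmul_ne_zero hu0 hw' h2
  have hyX : y ∈ X := Subgroup.subset_normalClosure ⟨f, u, hu, hy⟩
  have h2 : 2 ∣ Nat.card X := by
    have h3 : orderOf y = 2 := by
      have : Fact (Nat.Prime 2) := ⟨Nat.prime_two⟩
      exact orderOf_eq_prime (by rw [pow_two, hy2]) hy1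
    rw [← h3]
    exact Subgroup.orderOf_dvd_natCard X hyX
  have h3 := h.fr (X := X) Subgroup.normalClosure_normal h2
  apply h.Mne
  rw [eq_top_iff, ← h3]
  exact sup_le hX h.TM

omit [CharP K 2] in
theorem finrank_swap [Finite W] [Finite W'] {s : Y} (hs : IsSwap φ s) : finrank K W' = finrank K W := by
  have : Module.Finite K W := Module.Finite.of_finite
  have : Module.Finite K W' := Module.Finite.of_finite
  obtain ⟨σ, α, β, hs⟩ := hs
  have h1 : Nat.card W = Nat.card W' := Nat.card_congr α.toEquiv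
  rw [Module.natCard_eq_pow_finrank (K := K), Module.natCard_eq_pow_finrank (K := K) (V := W')] at h1
  exact (Nat.pow_right_injective (Finite.one_lt_card (α := K)) h1).symm

end two

end Cfsg.Agent.Omega.NO1.Comp.Six
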