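import Cfsg.Agent.Omega.NO1.Comp.Glue

/-!
# Semilinear maps between two tensor decompositions (project OMEGA, N1, THEOREM COMP #17539; helper168)

* `Dec.exists_pure2` : `g L g⁻¹ = L₂` : `g = α ⊗ β : W ⊗ W' → X ⊗ X'`.
* `Dec.exists_swap` : `g L g⁻¹ = C` : `g (w ⊗ w') = β w' ⊗ α w`.
-/

set_option autoImplicit false
set_option linter.unusedSectionVars false

namespace Cfsg.Agent.Omega.NO1.Comp

open Module TensorProduct

universe u

variable {K V : Type u} [Field K] [AddCommGroup V] [Module K V] {L C L₂ C₂ : Set (Module.End K V)}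
  {W W' X X' : Type u} [AddCommGroup W] [Module K W] [AddCommGroup W'] [Module K W']
  [AddCommGroup X] [Module K X] [AddCommGroup X'] [Module K X']

/-- a semilinear bijection with `g L g⁻¹ = L₂` -/
theorem Dec.exists_pure2 (D : Dec L C W W') (h : Two L C) (D₂ : Dec L₂ C₂ X X') (h₂ : Two L₂ C₂)
    (σ : K ≃+* K) (g : V ≃+ V) (hg : ∀ (k : K) (v), g (k • v) = σ k • g v)
    (hn : ∀ l ∈ L, ∃ l' ∈ L₂, ∀ v, g (l v) = l' (g v))
    (hn' : ∀ l' ∈ L₂, ∃ l ∈ L, ∀ v, g (l v) = l' (g v)) :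
    ∃ (α : W ≃+ X) (β : W' ≃+ X'), (∀ (k : K) (a), α (k • a) = σ k • α a) ∧
      (∀ (k : K) (b), β (k • b) = σ k • β b) ∧
      (∀ w w', g (D.φ (w ⊗ₜ w')) = D₂.φ (α w ⊗ₜ β w')) ∧
      ∀ l ∈ L, ∀ l' ∈ L₂, (∀ v, g (l v) = l' (g v)) → ∀ w, α (D.ρ l w) = D₂.ρ l' (α w) := by
  have := D.finL
  have := D.finR
  have := D.neL
  have := D.neR
  have := D₂.finL
  have := D₂.finR
  have : Module.Finite K W' := Module.Finite.of_finite
  have : Module.Finite K X' := Module.Finite.of_finite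
  let I := {p : Module.End K V × Module.End K V // p.1 ∈ L ∧ p.2 ∈ L₂ ∧ ∀ v, g (p.1 v) = p.2 (g v)}
  let s : W ⊗[K] W' ≃+ X ⊗[K] X' := (D.φ.toAddEquiv.trans g).trans D₂.φ.symm.toAddEquiv
  have hs : ∀ x, D₂.φ (s x) = g (D.φ x) := fun x => D₂.φ.apply_symm_apply _
  obtain ⟨α, β, h1, h2, h3, h4⟩ := Pure.pure (I := I) σ s
    (fun k x => by
      apply D₂.φ.injective
      rw [hs, LinearEquiv.map_smul, hg, LinearEquiv.map_smul, hs])
    (fun i => D.ρ i.1.1) (fun i => D₂.ρ i.1.2)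
    (fun i x => by
      apply D₂.φ.injective
      rw [hs, ← D.hl' i.2.1, i.2.2.2, ← D₂.hl' i.2.2.1, hs])
    (fun N hN => D.irr h N fun l hl w hw => by
      obtain ⟨l', hl', h5⟩ := hn l hl
      exact hN ⟨(l, l'), hl, hl', h5⟩ w hw)
    (fun N hN => D₂.irr h₂ N fun l' hl' w hw => by
      obtain ⟨l, hl, h5⟩ := hn' l' hl'
      exact hN ⟨(l, l'), hl, hl', h5⟩ w hw)
    (fun f hf => D₂.sch h₂ f fun l' hl' => by
      obtain ⟨l, hl, h5⟩ := hn' l' hl'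
      exact LinearMap.ext fun w => hf ⟨(l, l'), hl, hl', h5⟩ w)
  refine ⟨α, β, h1, h2, fun w w' => ?_, fun l hl l' hl' h5 w => h4 ⟨(l, l'), hl, hl', h5⟩ w⟩
  rw [← hs, h3]

/-- a semilinear bijection with `g L g⁻¹ = C` -/
theorem Dec.exists_swap (D : Dec L C W W') (h : Two L C) (σ : K ≃+* K) (g : V ≃+ V)
    (hg : ∀ (k : K) (v), g (k • v) = σ k • g v)
    (hn : ∀ l ∈ L, ∃ l' ∈ C, ∀ v, g (l v) = l' (g v))
    (hn' : ∀ l' ∈ C, ∃ l ∈ L, ∀ v, g (l v) = l' (g v)) :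
    ∃ (α : W ≃+ W') (β : W' ≃+ W), (∀ (k : K) (a), α (k • a) = σ k • α a) ∧
      (∀ (k : K) (b), β (k • b) = σ k • β b) ∧ ∀ w w', g (D.φ (w ⊗ₜ w')) = D.φ (β w' ⊗ₜ α w) := by
  obtain ⟨α, β, h1, h2, h3, -⟩ := D.exists_pure2 h D.symm h.symm σ g hg hn hn'
  exact ⟨α, β, h1, h2, fun w w' => by rw [h3, D.symm_φ]⟩

end Cfsg.Agent.Omega.NO1.Comp
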