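import Cfsg.Agent.Omega.NO1.Comp.TwoC
import Cfsg.Agent.Omega.NO1.Comp.Six
import Cfsg.Agent.Omega.NO1.Comp.Twin

/-!
# THEOREM COMP (#17539): assembly, two components (helper789)

`Inp.pair` : two components: `M = W ⊗ W'`, every `y` is a pure tensor or a swap, the full transvection group with one
axis is induced on `W`, `|K| = |M : E|`.
-/

set_option autoImplicit false
set_option linter.unusedSectionVars false
set_option maxHeartbeats 400000

namespace Cfsg.Agent.Omega.NO1.Comp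

open Module TensorProduct Cfsg.Agent.Lib.ComponentSolvable Subgroup
open Cfsg.Agent.Omega.EH3.Clif.Comp (ne_bot perf_sSup comm_sSup commutator_self)
open Cfsg.Agent.Omega.NO1.Comp.Six (Pur Swp IsPure IsSwap Ind finrank_swap)
open Cfsg.Agent.S1270 (component_conj)

universe u

variable {Y M : Type u} [Group Y] [AddCommGroup M] [DistribMulAction Y M]
variable {U : Subgroup Y} {E F : AddSubgroup M} {K : Type u} [Field K] [Module K M]
variable [Finite Y] [Finite M] [FaithfulSMul Y M] [Finite K] [CharP K 2]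

/-- the output of (3) - (5) for two components -/
structure POut (T : Sylow 2 Y) (E : AddSubgroup M) {W W' : Type u} [AddCommGroup W] [Module K W] [AddCommGroup W']
    [Module K W'] (φ : W ⊗[K] W' ≃ₗ[K] M) : Prop where
  fin : Finite W
  fin' : Finite W'
  d : 2 ≤ finrank K W
  ps : ∀ y : Y, IsPure φ y ∨ IsSwap φ y
  sw : ∃ s ∈ T, IsSwap φ s
  tv : ∃ f₀ : Dual K W, f₀ ≠ 0 ∧ ∀ h, f₀ h = 0 → ∃ y : Y, Ind φ f₀ h y
  irr : ∀ N : Submodule K W, (∀ (y : Y) σ α β, Pur φ y σ α β → ∀ w ∈ N, α w ∈ N) → N = ⊥ ∨ N = ⊤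
  card : Nat.card M = Nat.card K * Nat.card E

/-- **two components** -/
theorem Inp.pair (h : Inp U E F) (hf : Fld U K M) {T : Sylow 2 Y} {Mx K₁ K₂ : Subgroup Y} (S : Grp.Sit T Mx K₁)
    (h2 : IsComponent K₂) (h12 : K₁ ≠ K₂) :
    ∃ (W W' : Type u) (_ : AddCommGroup W) (_ : Module K W) (_ : AddCommGroup W') (_ : Module K W')
      (φ : W ⊗[K] W' ≃ₗ[K] M), POut (Y := Y) T E φ := by
  have h1 : IsComponent K₁ := S.comp
  have := h.nontrivial
  have c₁₂ : ∀ x ∈ K₁, ∀ y ∈ K₂, x * y = y * x := by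
    have h3 := comm_sSup (s := {K₁}) (t := {K₂}) (by
      intro M hM
      rw [Set.mem_singleton_iff.mp hM]
      exact h1) (by
      intro M hM
      rw [Set.mem_singleton_iff.mp hM]
      exact h2) (by
      intro M hM hM'
      exact h12 ((Set.mem_singleton_iff.mp hM).symm.trans (Set.mem_singleton_iff.mp hM')))
    rwa [sSup_singleton, sSup_singleton] at h3
  have l₁ : K₁ ≤ layer Y := le_sSup h1
  have l₂ : K₂ ≤ layer Y := le_sSup h2
  have hsup : K₁ ⊔ K₂ = layer Y := by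
    apply le_antisymm (sup_le l₁ l₂)
    refine sSup_le fun J hJ => ?_
    rcases h.two hf h1 h2 hJ h12 with h3 | h3
    · rw [h3]; exact le_sup_left
    · rw [h3]; exact le_sup_right
  have hT : Two (linSet K M (K₁ : Set Y)) (linSet K M (K₂ : Set Y)) := two_of c₁₂ (by rw [hsup]; exact hf.lin)
    (by rw [hsup]; exact h.irr) (by rw [hsup]; exact hf.sch)
  obtain ⟨W, W', _, _, _, _, ⟨D⟩⟩ := exists_dec hT
  have := D.finL
  have := D.finR
  have := D.neL
  have := D.neR
  have hfW : Module.Finite K W := Module.Finite.of_finite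
  have hfW' : Module.Finite K W' := Module.Finite.of_finite
  have hsq : ∀ u : U, u * u = 1 := fun u => Subtype.ext (h.sq u u.2)
  obtain ⟨rA, rB, hr⟩ := D.exists_homs hT (actK hf.hl) hsq (fun u l hl =>
    linSet_conj (fun y hy => hf.lin y (l₁ hy)) (fun n hn => (mem_normalizer_iff.1 (h.norm hf h1 u.2) n).1 hn) hl)
  have dW := (dim_of (K := K) (V := M) (commutator_self h1) (ne_bot h1) (fun y hy => hf.lin y (l₁ hy)) D.φ D.ρ
    (fun l hl w m => D.hl l hl w m)).1
  have dW' := (dim_of (K := K) (V := M) (commutator_self h2) (ne_bot h2) (fun y hy => hf.lin y (l₂ hy)) D.symm.φ D.ρ'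
    (fun l hl w m => D.symm.hl l hl w m)).1
  have hφ : ∀ (u : U) w m, (u : Y) • D.φ (w ⊗ₜ m) = D.φ (rA u w ⊗ₜ rB u m) := fun u w m => hr u (w ⊗ₜ m)
  have P : PFlat rA rB (trAct hf.hl D.φ) _ _ :=
    { flat := h.kflat hf D.φ
      act_eq := fun u => by
        apply TensorProduct.ext'
        intro a m
        rw [trAct_apply, LinearEquiv.symm_apply_eq]
        exact hφ u a m
      n := ks_tensor h.flat D.φ (fun u => rA u) (fun u => rB u) hφ dW
      n' := ks_tensor h.flat ((TensorProduct.comm K W' W).trans D.φ) (fun u => rB u) (fun u => rA u)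
        (fun u m a => hφ u a m) dW'
      d := dW
      d' := dW' }
  -- conjugation
  have hconj : ∀ {N N' : Subgroup Y} {u : Y}, N.map (MulAut.conj u).toMonoidHom = N' → ∀ n ∈ N, u * n * u⁻¹ ∈ N' := by
    intro N N' u h3 n hn
    rw [← h3]
    exact ⟨n, hn, rfl⟩
  have hconj' : ∀ {N N' : Subgroup Y} {u : Y}, N.map (MulAut.conj u).toMonoidHom = N' →
      ∀ n ∈ N', u⁻¹ * n * u ∈ N := by
    intro N N' u h3 n hn
    rw [← h3] at hn
    obtain ⟨m, hm, rfl⟩ := hn
    have h4 : u⁻¹ * (MulAut.conj u).toMonoidHom m * u = m := by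
      show u⁻¹ * (u * m * u⁻¹) * u = m
      group
    rw [h4]
    exact hm
  have hback : ∀ {N N' : Subgroup Y} (hN : N ≤ layer Y) {u : Y}, N.map (MulAut.conj u).toMonoidHom = N' →
      ∀ l' ∈ linSet K M (N' : Set Y), ∃ l ∈ linSet K M (N : Set Y), ∀ v, u • l v = l' (u • v) := by
    rintro N N' hN u h3 l' ⟨n, hn, hl'⟩
    refine ⟨linOf _ (hf.lin _ (hN (hconj' h3 n hn))), linOf_mem (hconj' h3 n hn) _, fun v => ?_⟩
    rw [hl', linOf_apply, smul_smul, smul_smul]
    congr 1
    group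
  have hpure : ∀ y : Y, K₁.map (MulAut.conj y).toMonoidHom = K₁ → IsPure D.φ y := by
    intro y hy
    obtain ⟨σ, hσ⟩ := hf.semi y
    obtain ⟨α, β, h3, h4, h5, -⟩ := D.exists_pure hT σ (DistribMulAction.toAddEquiv M y) hσ
      (fun l hl => linSet_conj (fun y hy => hf.lin y (l₁ hy)) (hconj hy) hl) (hback l₁ hy)
    exact ⟨σ, α, β, h3, h4, h5⟩
  have hswap : ∀ y : Y, K₁.map (MulAut.conj y).toMonoidHom = K₂ → IsSwap D.φ y := by
    intro y hy
    obtain ⟨σ, hσ⟩ := hf.semi y
    obtain ⟨α, β, h3, h4, h5⟩ := D.exists_swap hT σ (DistribMulAction.toAddEquiv M y) hσ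
      (fun l hl => linSet_conj (fun y hy => hf.lin y (l₂ hy)) (hconj hy) hl) (hback l₁ hy)
    exact ⟨σ, α, β, h3, h4, h5⟩
  obtain ⟨s, hsT, hs⟩ := S.trans h2
  have hswp := hswap s hs
  have hdim : finrank K W' = finrank K W := finrank_swap hswp
  obtain ⟨r, hr1, hr2⟩ := P.exists_cuW (fun h3 => by omega)
  obtain ⟨r', hr1', hr2'⟩ := P.symm.exists_cuW (fun h3 => by omega)
  have hCW := P.CW_eq hr1 hr2
  obtain ⟨x, hx⟩ : ∃ x : W, x ∉ CW rA := by
    by_contra hcon
    push Not at hcon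
    exact P.CW_ne_top ((Submodule.eq_top_iff').2 hcon)
  obtain ⟨f₀, hf1, hf2⟩ := exists_dual_one hx
  have hker : LinearMap.ker f₀ = CW rA := by
    symm
    apply Submodule.eq_of_le_of_finrank_le
    · intro y hy
      exact hf2 y hy
    · have h3 := f₀.finrank_range_add_finrank_ker
      have h4 : 0 < finrank K (LinearMap.range f₀) := by
        have h5 : Nontrivial (LinearMap.range f₀) := ⟨⟨⟨f₀ x, x, rfl⟩, 0, fun h6 => by
          have h7 : f₀ x = 0 := congrArg Subtype.val h6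
          rw [hf1] at h7
          exact one_ne_zero h7⟩⟩
        exact Module.finrank_pos
      have h5 := P.balance.1
      rw [← hCW] at h5
      omega
  refine ⟨W, W', inferInstance, inferInstance, inferInstance, inferInstance, D.φ, ?_⟩
  refine { fin := D.finL, fin' := D.finR, d := dW, ps := ?_, sw := ⟨s, hsT, hswp⟩, tv := ⟨f₀, ?_, ?_⟩, irr := ?_, card := ?_ }
  · intro y
    rcases h.two hf h1 h2 (component_conj h1 y) h12 with h3 | h3
    · exact Or.inl (hpure y h3)
    · exact Or.inr (hswap y h3)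
  · rintro rfl
    exact zero_ne_one hf1
  · intro a ha
    have ha' : a ∈ CW rA := by rw [← hker]; exact ha
    obtain ⟨u, hu1, hu2⟩ := P.full hr1 hr2 hr1' hr2' hx ha'
    refine ⟨u, fun w w' => ?_⟩
    rw [hφ, hu1]
    congr 2
    have h3 : w - f₀ w • x ∈ CW rA := by
      rw [← hker, LinearMap.mem_ker, map_sub, map_smul, hf1, smul_eq_mul, mul_one, sub_self]
    have h4 : w = f₀ w • x + (w - f₀ w • x) := by abel
    conv_lhs => rw [h4]
    rw [map_add, map_smul, hu2, h3 u, smul_add]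
    abel
  · intro N hN
    refine D.irr hT N ?_
    rintro l ⟨y, hy, hl⟩ w hw
    have e1 : l = linOf y (hf.lin y (l₁ hy)) := by
      ext v
      exact hl v
    obtain ⟨m₀, hm₀⟩ := exists_ne (0 : W')
    have hy' : y⁻¹ ∈ K₁ := K₁.inv_mem hy
    have a1 : ∀ w m, y • D.φ (w ⊗ₜ m) = D.φ (D.ρ (linOf y (hf.lin y (l₁ hy))) w ⊗ₜ m) := fun w m =>
      D.hl _ (linOf_mem hy _) w m
    have a2 : ∀ w m, y⁻¹ • D.φ (w ⊗ₜ m) = D.φ (D.ρ (linOf y⁻¹ (hf.lin _ (l₁ hy'))) w ⊗ₜ m) := fun w m =>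
      D.hl _ (linOf_mem hy' _) w m
    rw [e1]
    refine hN y (RingEquiv.refl K)
      { toFun := D.ρ (linOf y (hf.lin y (l₁ hy)))
        invFun := D.ρ (linOf y⁻¹ (hf.lin _ (l₁ hy')))
        left_inv := fun w => D.inj_left hm₀ (by rw [← a2, ← a1, inv_smul_smul])
        right_inv := fun w => D.inj_left hm₀ (by rw [← a1, ← a2, smul_inv_smul])
        map_add' := map_add _ } (AddEquiv.refl W') ⟨fun k w => map_smul (D.ρ (linOf y (hf.lin y (l₁ hy)))) k w,
        fun k w => rfl, fun w m => a1 w m⟩ w hw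
  · have h3 := P.card_V hr1 hr2
    rw [Nat.card_congr D.φ.toEquiv] at h3
    rw [h3]
    congr 1
    have h4 : Nat.card ((h.flat.EK hf.hl).map D.φ.symm.toLinearMap) = Nat.card (h.flat.EK hf.hl) :=
      (Nat.card_congr (D.φ.symm.submoduleMap (h.flat.EK hf.hl)).toEquiv).symm
    exact h4

end Cfsg.Agent.Omega.NO1.Comp
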