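import Cfsg.Agent.Omega.NO1.Comp.KFlat

/-!
# THEOREM COMP (bb OMEGA #17539): rank lemmas for `A ⊗ A' - 1`, `A, A'` involutions in char 2
-/

set_option linter.unusedSectionVars false

namespace Cfsg.Agent.Omega.NO1.Comp

open Module TensorProduct

section Tools

variable {K : Type*} [Field K]

theorem add_self2 [CharP K 2] {V : Type*} [AddCommGroup V] [Module K V] (v : V) : v + v = 0 := by
  have h : (2 : K) = 0 := by exact_mod_cast CharP.cast_eq_zero K 2
  rw [← two_smul K v, h, zero_smul]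

theorem sub_eq_add2 (K : Type*) [Field K] [CharP K 2] {V : Type*} [AddCommGroup V] [Module K V]
    (v w : V) : v - w = v + w := by
  rw [sub_eq_iff_eq_add, add_assoc, add_self2 (K := K) w, add_zero]

theorem neg_eq2 (K : Type*) [Field K] [CharP K 2] {V : Type*} [AddCommGroup V] [Module K V]
    (v : V) : -v = v := by
  rw [neg_eq_iff_add_eq_zero]; exact add_self2 (K := K) v

theorem exists_dual_one {V : Type*} [AddCommGroup V] [Module K V] {p : Submodule K V} {x : V}
    (hx : x ∉ p) : ∃ f : Dual K V, f x = 1 ∧ ∀ y ∈ p, f y = 0 := by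
  obtain ⟨f, hf, hp⟩ := Submodule.exists_dual_map_eq_bot_of_notMem hx inferInstance
  refine ⟨(f x)⁻¹ • f, by simp [hf], fun y hy => ?_⟩
  have : f y ∈ p.map f := ⟨y, hy, rfl⟩
  rw [hp, Submodule.mem_bot] at this
  simp [this]

variable {W W' : Type*} [AddCommGroup W] [Module K W] [AddCommGroup W'] [Module K W']

/-- contraction with a functional on the right factor -/
noncomputable def cR (W : Type*) [AddCommGroup W] [Module K W] (g : Dual K W') :
    W ⊗[K] W' →ₗ[K] W :=
  (TensorProduct.rid K W).toLinearMap ∘ₗ LinearMap.lTensor W g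

/-- contraction with a functional on the left factor -/
noncomputable def cL (W' : Type*) [AddCommGroup W'] [Module K W'] (f : Dual K W) :
    W ⊗[K] W' →ₗ[K] W' :=
  (TensorProduct.lid K W').toLinearMap ∘ₗ LinearMap.rTensor W' f

@[simp] theorem cR_tmul (g : Dual K W') (x : W) (η : W') : cR W g (x ⊗ₜ η) = g η • x := by
  simp [cR]

@[simp] theorem cL_tmul (f : Dual K W) (x : W) (η : W') : cL W' f (x ⊗ₜ η) = f x • η := by
  simp [cL]

theorem tmul_ne_zero {x : W} {η : W'} (hx : x ≠ 0) (hη : η ≠ 0) : x ⊗ₜ[K] η ≠ 0 := by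
  intro h0
  obtain ⟨g, hg, -⟩ := exists_dual_one (K := K) (p := ⊥) (x := η) (by simpa using hη)
  have := congrArg (cR W g) h0
  rw [cR_tmul, hg, one_smul, map_zero] at this
  exact hx this

end Tools

variable {K : Type*} [Field K] [CharP K 2]
  {W W' : Type*} [AddCommGroup W] [Module K W] [AddCommGroup W'] [Module K W']
  {A : Module.End K W} {A' : Module.End K W'}

theorem inv_fix (K : Type*) [Field K] [CharP K 2] {W : Type*} [AddCommGroup W] [Module K W]
    {A : Module.End K W} (hA : ∀ x, A (A x) = x) (x : W) : A (A x + x) = A x + x := by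
  rw [map_add, hA, add_comm]

/-- `Φ (η, y) = T (x ⊗ η + y ⊗ ξ)` -/
noncomputable def Phi (A : Module.End K W) (A' : Module.End K W') (x : W) (ξ : W') :
    W' × W →ₗ[K] W ⊗[K] W' :=
  (TensorProduct.map A A' - 1) ∘ₗ
    ((TensorProduct.mk K W W' x).coprod ((TensorProduct.mk K W W').flip ξ))

theorem Phi_apply (x : W) (ξ : W') (η : W') (y : W) :
    Phi A A' x ξ (η, y) = A x ⊗ₜ A' η + A y ⊗ₜ A' ξ + (x ⊗ₜ η + y ⊗ₜ ξ) := by
  simp [Phi, ← sub_eq_add2 K]

theorem Phi_ker (hA : ∀ x, A (A x) = x) (hA' : ∀ x, A' (A' x) = x) {x : W} {ξ : W'}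
    (hx : A x ≠ x) (hξ : A' ξ ≠ ξ) {η : W'} {y : W} (h0 : Phi A A' x ξ (η, y) = 0) :
    (η, y) ∈ Submodule.span K (Set.range ![((ξ : W'), (x : W)), (A' ξ + ξ, A x + x)]) := by
  classical
  set x₁ := A x + x with hx₁
  set ξ₁ := A' ξ + ξ with hξ₁
  have hAx : A x = x + x₁ := by
    rw [hx₁, add_comm (A x), ← add_assoc, add_self2 (K := K) x, zero_add]
  have hAξ : A' ξ = ξ + ξ₁ := by
    rw [hξ₁, add_comm (A' ξ), ← add_assoc, add_self2 (K := K) ξ, zero_add]
  have hAx₁ : A x₁ = x₁ := inv_fix K hA x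
  have hAξ₁ : A' ξ₁ = ξ₁ := inv_fix K hA' ξ
  have hx₁0 : x₁ ≠ 0 := by
    intro h; rw [hAx, h, add_zero] at hx; exact hx rfl
  have hξ₁0 : ξ₁ ≠ 0 := by
    intro h; rw [hAξ, h, add_zero] at hξ; exact hξ rfl
  -- independence
  have hind : x ∉ Submodule.span K {x₁} := by
    rw [Submodule.mem_span_singleton]
    rintro ⟨c, hc⟩
    apply hx
    rw [← hc, map_smul, hAx₁]
  have hind1 : x₁ ∉ Submodule.span K {x} := by
    rw [Submodule.mem_span_singleton]
    rintro ⟨c, hc⟩
    have hc0 : c ≠ 0 := by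
      rintro rfl; rw [zero_smul] at hc; exact hx₁0 hc.symm
    apply hind
    rw [Submodule.mem_span_singleton]
    exact ⟨c⁻¹, by rw [← hc, smul_smul, inv_mul_cancel₀ hc0, one_smul]⟩
  have hind' : ξ ∉ Submodule.span K {ξ₁} := by
    rw [Submodule.mem_span_singleton]
    rintro ⟨c, hc⟩
    apply hξ
    rw [← hc, map_smul, hAξ₁]
  have hind1' : ξ₁ ∉ Submodule.span K {ξ} := by
    rw [Submodule.mem_span_singleton]
    rintro ⟨c, hc⟩
    have hc0 : c ≠ 0 := by
      rintro rfl; rw [zero_smul] at hc; exact hξ₁0 hc.symm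
    apply hind'
    rw [Submodule.mem_span_singleton]
    exact ⟨c⁻¹, by rw [← hc, smul_smul, inv_mul_cancel₀ hc0, one_smul]⟩
  clear_value x₁ ξ₁
  -- functional ψ with ψ ξ = ψ ξ₁ = 1
  obtain ⟨ψ₁, h1, h1'⟩ := exists_dual_one (K := K) hind'
  obtain ⟨ψ₂, h2, h2'⟩ := exists_dual_one (K := K) hind1'
  set ψ := ψ₁ + ψ₂ with hψ
  have hψξ : ψ ξ = 1 := by
    rw [hψ, LinearMap.add_apply, h1, h2' ξ (Submodule.mem_span_singleton_self ξ), add_zero]
  have hψξ₁ : ψ ξ₁ = 1 := by
    rw [hψ, LinearMap.add_apply, h2, h1' ξ₁ (Submodule.mem_span_singleton_self ξ₁), zero_add]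
  obtain ⟨φ, h3, h3'⟩ := exists_dual_one (K := K) hind1
  have hφx : φ x = 0 := h3' x (Submodule.mem_span_singleton_self x)
  set α := ψ (A' η) + ψ η with hα
  set β := ψ (A' η) with hβ
  have hy : y = α • x + β • x₁ := by
    have := congrArg (cR W ψ) h0
    rw [Phi_apply, hAx, hAξ] at this
    simp only [map_add, cR_tmul, hψξ, hψξ₁, map_zero] at this
    have h11 : (1 : K) + 1 = 0 := CharTwo.add_self_eq_zero 1
    rw [h11, zero_smul, add_zero, one_smul] at this
    -- β • (x + x₁) + (ψ η • x + y) = 0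
    have h4 : y = β • (x + x₁) + ψ η • x := by
      have h5 : β • (x + x₁) + (ψ η • x + y) = 0 := this
      rw [← add_assoc] at h5
      rw [← neg_eq2 K y, eq_comm, ← add_eq_zero_iff_eq_neg]
      exact h5
    rw [h4, hα]
    module
  have hη : η = α • ξ + β • ξ₁ := by
    set η' := η + (α • ξ + β • ξ₁) with hη'
    have h6 : Phi A A' x ξ (ξ, x) = 0 := by
      rw [Phi_apply, add_self2 (K := K), add_self2 (K := K), add_zero]
    have h7 : Phi A A' x ξ (ξ₁, x₁) = 0 := by
      rw [Phi_apply, hAξ₁, hAx₁, hAξ, hAx, add_tmul, tmul_add,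
        ← add_self2 (K := K) (x ⊗ₜ[K] ξ₁ + x₁ ⊗ₜ[K] ξ + x₁ ⊗ₜ[K] ξ₁)]
      abel
    have h8 : Phi A A' x ξ (η', 0) = 0 := by
      have e : ((η', 0) : W' × W) = (η, y) + (α • (ξ, x) + β • (ξ₁, x₁)) := by
        ext
        · simp [hη']
        · simp only [Prod.snd_add, Prod.smul_mk]
          rw [hy, add_self2 (K := K)]
      rw [e, map_add, map_add, map_smul, map_smul, h0, h6, h7]; simp
    rw [Phi_apply] at h8
    have h9 := congrArg (cL W' φ) h8
    rw [hAx] at h9
    simp only [map_add, cL_tmul, hφx, h3, map_zero, zero_smul, zero_add, one_smul, add_zero] at h9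
    -- A' η' = 0
    have h10 : η' = 0 := by rw [← hA' η', h9, map_zero]
    rw [hη', ← sub_eq_add2 K, sub_eq_zero] at h10
    exact h10
  have : ((η, y) : W' × W) = α • (ξ, x) + β • (ξ₁, x₁) := by
    ext
    · simpa using hη
    · simpa using hy
  rw [this]
  refine Submodule.add_mem _ (Submodule.smul_mem _ _ (Submodule.subset_span ⟨0, rfl⟩))
    (Submodule.smul_mem _ _ (Submodule.subset_span ⟨1, rfl⟩))

variable [Module.Finite K W] [Module.Finite K W']

theorem Phi_rank (hA : ∀ x, A (A x) = x) (hA' : ∀ x, A' (A' x) = x) {x : W} {ξ : W'}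
    (hx : A x ≠ x) (hξ : A' ξ ≠ ξ) :
    finrank K W + finrank K W' ≤ finrank K (LinearMap.range (Phi A A' x ξ)) + 2 := by
  have h1 := LinearMap.finrank_range_add_finrank_ker (Phi A A' x ξ)
  rw [Module.finrank_prod] at h1
  have h2 : LinearMap.ker (Phi A A' x ξ) ≤
      Submodule.span K (Set.range ![((ξ : W'), (x : W)), (A' ξ + ξ, A x + x)]) := by
    rintro ⟨η, y⟩ h0
    exact Phi_ker hA hA' hx hξ h0
  have h3 := Submodule.finrank_mono h2
  have h4 := finrank_range_le_card (R := K) ![((ξ : W'), (x : W)), (A' ξ + ξ, A x + x)]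
  rw [Fintype.card_fin] at h4
  have h5 : finrank K (Submodule.span K (Set.range ![((ξ : W'), (x : W)), (A' ξ + ξ, A x + x)]))
      ≤ 2 := h4
  omega

theorem Phi_range_le (x : W) (ξ : W') :
    LinearMap.range (Phi A A' x ξ) ≤ LinearMap.range (TensorProduct.map A A' - 1) := by
  rw [Phi]
  exact LinearMap.range_comp_le_range _ _

/-- **(RL)** -/
theorem rank_ge (hA : ∀ x, A (A x) = x) (hA' : ∀ x, A' (A' x) = x) (h1 : A ≠ 1) (h1' : A' ≠ 1) :
    finrank K W + finrank K W' ≤
      finrank K (LinearMap.range (TensorProduct.map A A' - 1)) + 2 := by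
  obtain ⟨x, hx⟩ : ∃ x, A x ≠ x := by
    by_contra hc; push Not at hc; exact h1 (LinearMap.ext hc)
  obtain ⟨ξ, hξ⟩ : ∃ x, A' x ≠ x := by
    by_contra hc; push Not at hc; exact h1' (LinearMap.ext hc)
  have h2 := Phi_rank hA hA' hx hξ
  have h3 := Submodule.finrank_mono (Phi_range_le (A := A) (A' := A') x ξ)
  omega

/-- **(RL2)** -/
theorem rank_ge' (hA : ∀ x, A (A x) = x) (hA' : ∀ x, A' (A' x) = x)
    (h2 : 2 ≤ finrank K (LinearMap.range (A - 1))) (h1' : A' ≠ 1) (hd : 3 ≤ finrank K W') :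
    finrank K W + finrank K W' ≤
      finrank K (LinearMap.range (TensorProduct.map A A' - 1)) + 1 := by
  obtain ⟨ξ, hξ⟩ : ∃ x, A' x ≠ x := by
    by_contra hc; push Not at hc; exact h1' (LinearMap.ext hc)
  obtain ⟨x, hx⟩ : ∃ x, A x ≠ x := by
    by_contra hc; push Not at hc
    have : A - 1 = 0 := by
      ext v; exact sub_eq_zero.2 (hc v)
    rw [this, LinearMap.range_zero, finrank_bot] at h2
    omega
  set x₁ := A x + x with hx₁
  set ξ₁ := A' ξ + ξ with hξ₁
  have hAx : A x = x + x₁ := by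
    rw [hx₁, add_comm (A x), ← add_assoc, add_self2 (K := K) x, zero_add]
  have hAξ : A' ξ = ξ + ξ₁ := by
    rw [hξ₁, add_comm (A' ξ), ← add_assoc, add_self2 (K := K) ξ, zero_add]
  have hAx₁ : A x₁ = x₁ := inv_fix K hA x
  have hAξ₁ : A' ξ₁ = ξ₁ := inv_fix K hA' ξ
  have hx₁0 : x₁ ≠ 0 := by
    intro h; rw [hAx, h, add_zero] at hx; exact hx rfl
  -- x₂ with N x₂ ∉ K x₁
  obtain ⟨x₂, hx₂⟩ : ∃ x₂, A x₂ + x₂ ∉ Submodule.span K {x₁} := by
    by_contra hc; push Not at hc
    have : LinearMap.range (A - 1) ≤ Submodule.span K {x₁} := by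
      rintro _ ⟨v, rfl⟩
      have := hc v
      rw [← sub_eq_add2 K] at this
      exact this
    have h3 := Submodule.finrank_mono this
    have h4 : finrank K (Submodule.span K {x₁}) ≤ 1 := by
      have := finrank_span_le_card (R := K) ({x₁} : Set W)
      simpa using this
    omega
  obtain ⟨η₀, hη₀⟩ : ∃ η₀ : W', η₀ ∉ Submodule.span K (Set.range ![ξ, ξ₁]) := by
    by_contra hc; push Not at hc
    have h3 : Submodule.span K (Set.range ![ξ, ξ₁]) = ⊤ := by
      rw [eq_top_iff]; intro v _; exact hc v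
    have h4 := finrank_range_le_card (R := K) ![ξ, ξ₁]
    rw [Fintype.card_fin] at h4
    have h5 : finrank K (Submodule.span K (Set.range ![ξ, ξ₁])) ≤ 2 := h4
    rw [h3, finrank_top] at h5
    omega
  obtain ⟨ψ, hψ1, hψ0⟩ := exists_dual_one (K := K) hη₀
  have hψξ : ψ ξ = 0 := hψ0 _ (Submodule.subset_span ⟨0, rfl⟩)
  have hψξ₁ : ψ ξ₁ = 0 := hψ0 _ (Submodule.subset_span ⟨1, rfl⟩)
  -- the additional vector
  have hnot : (TensorProduct.map A A' - 1) (x₂ ⊗ₜ η₀) ∉ LinearMap.range (Phi A A' x ξ) := by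
    rintro ⟨⟨η, y⟩, h0⟩
    rw [Phi_apply] at h0
    have h3 : (TensorProduct.map A A' - 1) (x₂ ⊗ₜ η₀) = A x₂ ⊗ₜ[K] A' η₀ + x₂ ⊗ₜ η₀ := by
      rw [← sub_eq_add2 K]; simp
    rw [h3] at h0
    have h4 := congrArg (cR W ψ) h0
    rw [hAξ] at h4
    simp only [map_add, cR_tmul, hψξ, hψξ₁, hψ1, add_zero, zero_smul, one_smul] at h4
    set c := ψ (A' η₀) with hc
    -- ψ (A' η) • A x + ψ η • x = c • A x₂ + x₂
    -- apply N : N (A x) = x₁, N x = x₁
    have hN : ∀ v, A v + v = 0 → True := fun _ _ => trivial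
    have h5 : (ψ (A' η) + ψ η) • x₁ = (c + 1) • (A x₂ + x₂) := by
      have h6 := congrArg A h4
      simp only [map_add, map_smul, hA] at h6
      have h7 : A (ψ (A' η) • A x + ψ η • x) + (ψ (A' η) • A x + ψ η • x) =
          A (c • A x₂ + x₂) + (c • A x₂ + x₂) := by rw [h4]
      simp only [map_add, map_smul, hA] at h7
      calc (ψ (A' η) + ψ η) • x₁ = ψ (A' η) • x + ψ η • A x + (ψ (A' η) • A x + ψ η • x) := by
            rw [hx₁]; module
        _ = _ := by rw [h7]; module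
    have hc1 : c + 1 = 0 := by
      by_contra hc1
      apply hx₂
      rw [Submodule.mem_span_singleton]
      refine ⟨(c + 1)⁻¹ * (ψ (A' η) + ψ η), ?_⟩
      rw [← smul_smul, h5, smul_smul, inv_mul_cancel₀ hc1, one_smul]
    rw [hc1, zero_smul, smul_eq_zero] at h5
    have h6 : ψ (A' η) + ψ η = 0 := h5.resolve_right hx₁0
    have hc' : c = 1 := by
      rw [add_eq_zero_iff_eq_neg] at hc1; rw [hc1, CharTwo.neg_eq]
    have h7 : ψ η = ψ (A' η) := by
      rw [add_eq_zero_iff_eq_neg, CharTwo.neg_eq] at h6; exact h6.symm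
    rw [hc', h7, one_smul, ← smul_add] at h4
    apply hx₂
    rw [← h4]
    exact Submodule.smul_mem _ _ (Submodule.mem_span_singleton_self _)
  have hlt : LinearMap.range (Phi A A' x ξ) < LinearMap.range (TensorProduct.map A A' - 1) :=
    lt_of_le_of_ne (Phi_range_le x ξ) (fun he => hnot (he ▸ ⟨_, rfl⟩))
  have h3 := Submodule.finrank_lt_finrank_of_lt hlt
  have h4 := Phi_rank hA hA' hx hξ
  omega

/-- the symmetric versions -/
theorem rank_comm : finrank K (LinearMap.range (TensorProduct.map A A' - 1)) =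
    finrank K (LinearMap.range (TensorProduct.map A' A - 1)) := by
  let c := TensorProduct.comm K W W'
  have h1 : (LinearMap.range (TensorProduct.map A A' - 1)).map c.toLinearMap =
      LinearMap.range (TensorProduct.map A' A - 1) := by
    have key : ∀ v, c ((TensorProduct.map A A' - 1) v) = (TensorProduct.map A' A - 1) (c v) := by
      intro v
      induction v using TensorProduct.induction_on with
      | zero => simp
      | tmul x y => simp [c]
      | add x y hx hy => rw [map_add, map_add, hx, hy, map_add, map_add]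
    ext y
    constructor
    · rintro ⟨_, ⟨v, rfl⟩, rfl⟩
      exact ⟨c v, (key v).symm⟩
    · rintro ⟨v, rfl⟩
      refine ⟨_, ⟨c.symm v, rfl⟩, ?_⟩
      change c _ = _
      rw [key, LinearEquiv.apply_symm_apply]
  rw [← h1]
  exact (c.submoduleMap _).finrank_eq

theorem rank_ge'' (hA : ∀ x, A (A x) = x) (hA' : ∀ x, A' (A' x) = x)
    (h2 : 2 ≤ finrank K (LinearMap.range (A' - 1))) (h1 : A ≠ 1) (hd : 3 ≤ finrank K W) :
    finrank K W + finrank K W' ≤
      finrank K (LinearMap.range (TensorProduct.map A A' - 1)) + 1 := by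
  have := rank_ge' hA' hA h2 h1 hd
  rw [rank_comm] at this
  omega

/-- rank of `1 ⊗ A' - 1` -/
theorem rank_one_left (h1' : A' ≠ 1) :
    finrank K W ≤ finrank K (LinearMap.range (TensorProduct.map (1 : Module.End K W) A' - 1)) := by
  obtain ⟨ξ, hξ⟩ : ∃ x, A' x ≠ x := by
    by_contra hc; push Not at hc; exact h1' (LinearMap.ext hc)
  set Ψ : W →ₗ[K] W ⊗[K] W' := (TensorProduct.map (1 : Module.End K W) A' - 1) ∘ₗ
    (TensorProduct.mk K W W').flip ξ with hΨ
  have hap : ∀ x, Ψ x = x ⊗ₜ (A' ξ - ξ) := by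
    intro x; simp [hΨ, tmul_sub]
  have hinj : Function.Injective Ψ := by
    rw [← LinearMap.ker_eq_bot, LinearMap.ker_eq_bot']
    intro x hx
    by_contra hx0
    rw [hap] at hx
    exact tmul_ne_zero hx0 (sub_ne_zero.2 hξ) hx
  rw [← LinearMap.finrank_range_of_inj hinj]
  exact Submodule.finrank_mono (LinearMap.range_comp_le_range _ _)

/-- **'n = 2'**: a nontrivial `r₂ ⊗ r''` is never a transvection -/
theorem two_le_rank (hA : ∀ x, A (A x) = x) (hA' : ∀ x, A' (A' x) = x)
    (hd : 2 ≤ finrank K W) (hd' : 2 ≤ finrank K W') (hne : TensorProduct.map A A' ≠ 1) :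
    2 ≤ finrank K (LinearMap.range (TensorProduct.map A A' - 1)) := by
  by_cases h1 : A = 1
  · have h1' : A' ≠ 1 := by
      rintro rfl
      apply hne
      rw [h1]
      exact TensorProduct.map_one
    rw [h1]
    exact hd.trans (rank_one_left h1')
  by_cases h1' : A' = 1
  · rw [h1', rank_comm]
    exact hd'.trans (rank_one_left h1)
  have := rank_ge hA hA' h1 h1'
  omega

end Cfsg.Agent.Omega.NO1.Comp
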