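import Cfsg.Agent.Omega.NO1.Comp.SixC
import Cfsg.Agent.Omega.NO1.Comp.PlusQ

/-!
# N1, THEOREM COMP, (6) in the form of the input `PIn` of (7) (project OMEGA; typed by helper570)
-/

set_option autoImplicit false
set_option linter.unusedSectionVars false

namespace Cfsg.Agent.Omega.NO1.Comp.Six

open TensorProduct Module
open Cfsg.Agent.Omega.NO1.Comp.Irr (Irred)

variable {K W W' M Y : Type*} [Field K] [AddCommGroup W] [Module K W] [AddCommGroup W'] [Module K W']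
  [AddCommGroup M] [Module K M] [Group Y] [DistribMulAction Y M] {φ : W ⊗[K] W' ≃ₗ[K] M} {T : Sylow 2 Y}
  {Mx : Subgroup Y} [CharP K 2] [Finite K]

/-- **(6)** -/
theorem pIn_of [Finite Y] [Finite W] [Finite W'] (h : Grp.MinP T Mx)
    (faith : ∀ y : Y, (∀ m : M, y • m = m) → y = 1) (hirr : Irred Y M)
    (hps : ∀ y : Y, IsPure φ y ∨ IsSwap φ y) {s : Y} (hsT : s ∈ T) (hs : IsSwap φ s)
    {f₀ : Dual K W} (h0 : f₀ ≠ 0) (hf : ∀ h, f₀ h = 0 → ∃ y : Y, Ind φ f₀ h y)
    (irr : ∀ N : Submodule K W, (∀ (y : Y) σ α β, Pur φ y σ α β → ∀ w ∈ N, α w ∈ N) → N = ⊥ ∨ N = ⊤)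
    (hd : 2 ≤ finrank K W) : PIn Y φ where
  hW := finrank_eq_two h faith hirr hps hsT hs (all_transv h0 hf irr) hd
  hW' := (finrank_swap hs).trans (finrank_eq_two h faith hirr hps hsT hs (all_transv h0 hf irr) hd)
  r₁ := sl_two (all_transv h0 hf irr) (finrank_eq_two h faith hirr hps hsT hs (all_transv h0 hf irr) hd)
  r₂ := sl_two' (all_transv' hs (all_transv h0 hf irr))
    ((finrank_swap hs).trans (finrank_eq_two h faith hirr hps hsT hs (all_transv h0 hf irr) hd))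
  ps := hps
  sw := ⟨s, hs⟩

end Cfsg.Agent.Omega.NO1.Comp.Six
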