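import Mathlib.RingTheory.SimpleModule.Isotypic
import Mathlib.RingTheory.SimpleModule.Basic
import Mathlib.RingTheory.LittleWedderburn
import Mathlib.LinearAlgebra.TensorProduct.Basis
import Mathlib.LinearAlgebra.Dimension.Finite
import Mathlib.LinearAlgebra.FreeModule.Finite.Basic
import Mathlib.Tactic

/-!
# THEOREM COMP (#17539), part (II)(a): the tensor decomposition (helper789)

`K` a field, `V` a finite `K`-module, `L`, `C` commuting sets of `K`-linear maps which together are irreducible
on `V`, every `K`-linear map that commutes with `L` and `C` being a scalar.  Then `V = W ⊗[K] W'`, `L` acting on `W`,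
`C` on `W'`, both absolutely irreducible (`exists_tensor`).
-/

set_option autoImplicit false

namespace Cfsg.Agent.Omega.NO1.Comp

open Module TensorProduct

universe u

section Alg

variable {K V : Type u} [Field K] [AddCommGroup V] [Module K V]

/-- `L` and `C` commute, are irreducible together and have only scalars as centralizer -/
structure Two (L C : Set (Module.End K V)) : Prop where
  comm : ∀ l ∈ L, ∀ c ∈ C, l * c = c * l
  irr : ∀ U : Submodule K V, (∀ l ∈ L, ∀ v ∈ U, l v ∈ U) → (∀ c ∈ C, ∀ v ∈ U, c v ∈ U) → U = ⊥ ∨ U = ⊤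
  sch : ∀ f : Module.End K V, (∀ l ∈ L, f * l = l * f) → (∀ c ∈ C, f * c = c * f) → ∃ k : K, ∀ v, f v = k • v

theorem Two.symm {L C : Set (Module.End K V)} (h : Two L C) : Two C L where
  comm c hc l hl := (h.comm l hl c hc).symm
  irr U h1 h2 := h.irr U h2 h1
  sch f h1 h2 := h.sch f h2 h1

variable {L C : Set (Module.End K V)}

/-- an element that commutes with the generators commutes with the algebra -/
theorem comm_adjoin {f : Module.End K V} {L : Set (Module.End K V)} (h : ∀ l ∈ L, f * l = l * f) :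
    ∀ a ∈ Algebra.adjoin K L, f * a = a * f := by
  intro a ha
  induction ha using Algebra.adjoin_induction with
  | mem x hx => exact h x hx
  | algebraMap r => exact ((Algebra.commutes r f)).symm
  | add x y _ _ hx hy => rw [mul_add, add_mul, hx, hy]
  | mul x y _ _ hx hy => rw [← mul_assoc, hx, mul_assoc, hy, mul_assoc]

theorem Two.comm_adjoin (h : Two L C) : ∀ a ∈ Algebra.adjoin K L, ∀ c ∈ Algebra.adjoin K C, a * c = c * a := by
  intro a ha c hc
  have h1 : ∀ c ∈ C, ∀ a ∈ Algebra.adjoin K L, c * a = a * c := fun c hc =>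
    Comp.comm_adjoin (fun l hl => (h.comm l hl c hc).symm)
  exact Comp.comm_adjoin (fun c hc => (h1 c hc a ha).symm) c hc

/-- a submodule invariant under the generators is invariant under the algebra -/
theorem adjoin_inv {L : Set (Module.End K V)} {U : Submodule K V} (h : ∀ l ∈ L, ∀ v ∈ U, l v ∈ U) :
    ∀ a ∈ Algebra.adjoin K L, ∀ v ∈ U, a v ∈ U := by
  intro a ha
  induction ha using Algebra.adjoin_induction with
  | mem x hx => exact h x hx
  | algebraMap r => intro v hv; exact U.smul_mem r hv
  | add x y _ _ hx hy => intro v hv; exact U.add_mem (hx v hv) (hy v hv)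
  | mul x y _ _ hx hy => intro v hv; exact hx _ (hy v hv)

/-- a generic functional -/
theorem exists_dual {W : Type u} [AddCommGroup W] [Module K W] {w : W} (hw : w ≠ 0) :
    ∃ f : W →ₗ[K] K, f w = 1 := by
  have h1 : w ∉ (⊥ : Submodule K W) := by rwa [Submodule.mem_bot]
  obtain ⟨f, hf, -⟩ := Submodule.exists_dual_map_eq_bot_of_notMem h1 inferInstance
  refine ⟨(f w)⁻¹ • f, ?_⟩
  rw [LinearMap.smul_apply, smul_eq_mul, inv_mul_cancel₀ hf]

end Alg

section Simple

/-- the endomorphisms of a finite simple module commute -/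
theorem simple_comm {R M : Type u} [Ring R] [AddCommGroup M] [Module R M] [IsSimpleModule R M] [Finite M]
    (f g : Module.End R M) : f * g = g * f := by
  classical
  have : Finite (Module.End R M) := Finite.of_injective (fun f : Module.End R M => (f : M → M))
    DFunLike.coe_injective
  let _ := littleWedderburn (Module.End R M)
  exact mul_comm f g

/-- **density for a finite simple module** -/
theorem simple_density {R M : Type u} [Ring R] [AddCommGroup M] [Module R M] [IsSimpleModule R M] [Finite M]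
    (f : M →+ M) (hf : ∀ (d : Module.End R M) (m : M), f (d m) = d (f m)) : ∃ r : R, ∀ m, f m = r • m := by
  have := Fintype.ofFinite M
  let F : Module.End (Module.End R M) M :=
    { toFun := f
      map_add' := map_add f
      map_smul' := hf }
  obtain ⟨r, hr⟩ := jacobson_density (R := R) F Finset.univ
  exact ⟨r, fun m => hr m (Finset.mem_univ m)⟩

end Simple

section Main

variable {K A V W : Type u} [Field K] [Ring A] [Algebra K A] [AddCommGroup V] [Module K V] [Module A V]
  [IsScalarTower K A V] [AddCommGroup W] [Module K W] [Module A W] [IsScalarTower K A W]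

variable (K A V W) in
/-- the evaluation map -/
noncomputable def ev : W ⊗[K] (W →ₗ[A] V) →ₗ[K] V :=
  TensorProduct.lift
    { toFun := fun w =>
        { toFun := fun f => f w
          map_add' := fun f g => rfl
          map_smul' := fun k f => rfl }
      map_add' := fun w w' => by ext f; exact map_add f w w'
      map_smul' := fun k w => by
        ext f
        exact map_smul (f.restrictScalars K) k w }

@[simp] theorem ev_tmul (w : W) (f : W →ₗ[A] V) : ev K A V W (w ⊗ₜ[K] f) = f w := rfl

/-- the evaluation map is injective if `A` induces all of `End_K(W)` -/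
theorem ev_inj [Finite W] (hd : ∀ g : W →ₗ[K] W, ∃ a : A, ∀ w : W, g w = a • w) :
    Function.Injective (ev K A V W) := by
  classical
  rw [injective_iff_map_eq_zero]
  intro x hx
  have : Module.Finite K W := Module.Finite.of_finite
  let b := Module.finBasis K W
  obtain ⟨c, rfl⟩ := TensorProduct.eq_repr_basis_left b x
  have hc : ∀ i, c i = 0 := by
    intro i
    ext w
    obtain ⟨a, ha⟩ := hd (b.constr K fun j => if j = i then w else 0)
    have h1 : ev K A V W (c.sum fun i n => b i ⊗ₜ n) = c.sum fun i n => n (b i) := by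
      rw [Finsupp.sum, map_sum]
      rfl
    rw [h1] at hx
    have h2 : a • (c.sum fun i n => n (b i)) = c.sum fun j n => if j = i then n w else 0 := by
      rw [Finsupp.sum, Finset.smul_sum]
      apply Finset.sum_congr rfl
      intro j _
      rw [← map_smul, ← ha, Basis.constr_basis]
      by_cases hj : j = i
      · simp only [if_pos hj]
      · simp only [if_neg hj, map_zero]
    rw [hx, smul_zero] at h2
    rw [Finsupp.sum, Finset.sum_ite_eq' c.support i] at h2
    by_cases hi : i ∈ c.support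
    · rw [if_pos hi] at h2
      exact h2.symm
    · rw [Finsupp.notMem_support_iff.1 hi]
  have : c = 0 := Finsupp.ext hc
  rw [this, Finsupp.sum_zero_index]

/-- `A` induces `End_K(W)`, if the centre of `A` consists of scalars -/
theorem full_of [IsSimpleModule A W] [Finite W] (hE : Function.Surjective (ev K A V W)) (hV : Nontrivial V)
    (hr : ∀ r : A, (∀ a : A, ∀ v : V, r • a • v = a • r • v) → ∃ k : K, ∀ v : V, r • v = k • v)
    (g : W →ₗ[K] W) : ∃ a : A, ∀ w : W, g w = a • w := by
  have hext : ∀ f g : V →+ V, (∀ (w : W) (θ : W →ₗ[A] V), f (θ w) = g (θ w)) → f = g := by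
    intro f g hfg
    ext v
    obtain ⟨x, rfl⟩ := hE v
    induction x using TensorProduct.induction_on with
    | zero => rw [map_zero, map_zero, map_zero]
    | tmul w f => exact hfg w f
    | add x y hx hy => rw [map_add, map_add, map_add, hx, hy]
  have hinj : ∃ θ : W →ₗ[A] V, Function.Injective θ := by
    by_contra hno
    have h0 : ∀ θ : W →ₗ[A] V, θ = 0 := by
      intro θ
      by_contra h1
      exact hno ⟨θ, LinearMap.injective_of_ne_zero h1⟩
    obtain ⟨v, hv⟩ := exists_ne (0 : V)
    apply hv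
    have h1 := hext (AddMonoidHom.id V) 0 (fun w θ => by rw [h0 θ]; simp)
    exact DFunLike.congr_fun h1 v
  obtain ⟨θ₀, hθ₀⟩ := hinj
  have hend : ∀ d : Module.End A W, ∃ k : K, ∀ w, d w = k • w := by
    intro d
    obtain ⟨r, hr'⟩ := simple_density (R := A) (M := W) d.toAddMonoidHom (fun e m =>
      LinearMap.congr_fun (simple_comm d e) m)
    have hr' : ∀ w, d w = r • w := hr'
    obtain ⟨k, hk⟩ := hr r (fun a v => by
      have h1 := hext
        { toFun := fun v => r • a • v, map_zero' := by simp, map_add' := fun x y => by simp [smul_add] }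
        { toFun := fun v => a • r • v, map_zero' := by simp, map_add' := fun x y => by simp [smul_add] }
        (fun w θ => by
          show r • a • θ w = a • r • θ w
          rw [← map_smul, ← map_smul, ← map_smul, ← map_smul, ← hr', ← hr', map_smul])
      exact DFunLike.congr_fun h1 v)
    refine ⟨k, fun w => ?_⟩
    apply hθ₀
    rw [hr', map_smul, hk]
    exact (map_smul (θ₀.restrictScalars K) k w).symm
  exact simple_density (R := A) (M := W) g.toAddMonoidHom (by
      intro d m
      obtain ⟨k, hk⟩ := hend d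
      rw [hk, hk]
      exact map_smul g k m)

end Main

section Dec

variable {K V : Type u} [Field K] [AddCommGroup V] [Module K V] {L C : Set (Module.End K V)}

/-- **the tensor decomposition** -/
structure Dec (L C : Set (Module.End K V)) (W W' : Type u) [AddCommGroup W] [Module K W] [AddCommGroup W']
    [Module K W'] where
  /-- the isomorphism -/
  φ : W ⊗[K] W' ≃ₗ[K] V
  /-- the action of `L` on `W` -/
  ρ : Module.End K V → Module.End K W
  /-- the action of `C` on `W'` -/
  ρ' : Module.End K V → Module.End K W'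
  hl : ∀ l ∈ L, ∀ w w', l (φ (w ⊗ₜ w')) = φ (ρ l w ⊗ₜ w')
  hc : ∀ c ∈ C, ∀ w w', c (φ (w ⊗ₜ w')) = φ (w ⊗ₜ ρ' c w')
  finL : Finite W
  finR : Finite W'
  neL : Nontrivial W
  neR : Nontrivial W'

variable {W W' : Type u} [AddCommGroup W] [Module K W] [AddCommGroup W'] [Module K W']

/-- the symmetric decomposition -/
noncomputable def Dec.symm (D : Dec L C W W') : Dec C L W' W where
  φ := (TensorProduct.comm K W' W).trans D.φ
  ρ := D.ρ'
  ρ' := D.ρ
  hl c hc w' w := by
    simp only [LinearEquiv.trans_apply, TensorProduct.comm_tmul]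
    exact D.hc c hc w w'
  hc l hl w' w := by
    simp only [LinearEquiv.trans_apply, TensorProduct.comm_tmul]
    exact D.hl l hl w w'
  finL := D.finR
  finR := D.finL
  neL := D.neR
  neR := D.neL

theorem Dec.symm_φ (D : Dec L C W W') (w : W) (w' : W') : D.symm.φ (w' ⊗ₜ w) = D.φ (w ⊗ₜ w') := by
  show D.φ ((TensorProduct.comm K W' W) (w' ⊗ₜ w)) = _
  rw [TensorProduct.comm_tmul]

/-- extensionality -/
theorem Dec.ext (D : Dec L C W W') {M : Type*} [AddCommGroup M] [Module K M] {f g : V →ₗ[K] M}
    (h : ∀ w w', f (D.φ (w ⊗ₜ w')) = g (D.φ (w ⊗ₜ w'))) : f = g := by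
  have h1 : f ∘ₗ (D.φ : W ⊗[K] W' →ₗ[K] V) = g ∘ₗ (D.φ : W ⊗[K] W' →ₗ[K] V) := by
    ext w w'
    exact h w w'
  ext v
  obtain ⟨x, rfl⟩ := D.φ.surjective v
  exact LinearMap.congr_fun h1 x

/-- pure tensors with the same second factor -/
theorem Dec.inj_left (D : Dec L C W W') {w₁ w₂ : W} {w' : W'} (hw' : w' ≠ 0)
    (h : D.φ (w₁ ⊗ₜ w') = D.φ (w₂ ⊗ₜ w')) : w₁ = w₂ := by
  obtain ⟨p, hp⟩ := exists_dual (K := K) hw'
  have h2 := D.φ.injective h
  have h3 := congrArg (TensorProduct.lift ((LinearMap.lsmul K W).flip.compl₂ p) : W ⊗[K] W' →ₗ[K] W) h2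
  simpa [hp] using h3

/-- pure tensors with the same first factor -/
theorem Dec.inj_right (D : Dec L C W W') {w : W} {w'₁ w'₂ : W'} (hw : w ≠ 0)
    (h : D.φ (w ⊗ₜ w'₁) = D.φ (w ⊗ₜ w'₂)) : w'₁ = w'₂ := by
  apply D.symm.inj_left hw
  rw [D.symm_φ, D.symm_φ, h]

/-- a pure tensor vanishes only if a factor does -/
theorem Dec.ne_zero (D : Dec L C W W') {w : W} {w' : W'} (hw : w ≠ 0) (hw' : w' ≠ 0) :
    D.φ (w ⊗ₜ w') ≠ 0 := by
  intro h
  apply hw
  apply D.inj_left hw'
  rw [h, TensorProduct.zero_tmul, map_zero]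

/-- `L` is irreducible on `W` -/
theorem Dec.irr (D : Dec L C W W') (h : Two L C) (U : Submodule K W)
    (hU : ∀ l ∈ L, ∀ w ∈ U, D.ρ l w ∈ U) : U = ⊥ ∨ U = ⊤ := by
  obtain ⟨w'₀, hw'₀⟩ := @exists_ne W' D.neR 0
  obtain ⟨f, hf⟩ := exists_dual (K := K) hw'₀
  let T : Submodule K V := Submodule.span K {v | ∃ w ∈ U, ∃ w' : W', v = D.φ (w ⊗ₜ w')}
  have hT : ∀ (x : Module.End K V), (∀ w ∈ U, ∀ w', x (D.φ (w ⊗ₜ w')) ∈ T) → ∀ v ∈ T, x v ∈ T := by
    intro x hx v hv
    refine Submodule.span_induction ?_ ?_ ?_ ?_ hv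
    · rintro v ⟨w, hw, w', rfl⟩
      exact hx w hw w'
    · rw [map_zero]; exact T.zero_mem
    · intro a b _ _ ha hb
      rw [map_add]; exact T.add_mem ha hb
    · intro k a _ ha
      rw [map_smul]; exact T.smul_mem k ha
  rcases h.irr T (fun l hl => hT l fun w hw w' => by
      rw [D.hl l hl]
      exact Submodule.subset_span ⟨_, hU l hl w hw, w', rfl⟩)
    (fun c hc => hT c fun w hw w' => by
      rw [D.hc c hc]
      exact Submodule.subset_span ⟨w, hw, _, rfl⟩) with h1 | h1
  · left
    rw [eq_bot_iff]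
    intro w hw
    have h2 : D.φ (w ⊗ₜ w'₀) ∈ T := Submodule.subset_span ⟨w, hw, w'₀, rfl⟩
    rw [h1, Submodule.mem_bot, LinearEquiv.map_eq_zero_iff] at h2
    have h3 : (TensorProduct.lift ((LinearMap.lsmul K W).flip.compl₂ f) : W ⊗[K] W' →ₗ[K] W) (w ⊗ₜ w'₀) = w := by
      simp [hf]
    rw [h2, map_zero] at h3
    rw [Submodule.mem_bot, h3]
  · right
    rw [eq_top_iff]
    intro w _
    let g : V →ₗ[K] W := (TensorProduct.lift ((LinearMap.lsmul K W).flip.compl₂ f) : W ⊗[K] W' →ₗ[K] W) ∘ₗ
      (D.φ.symm : V →ₗ[K] W ⊗[K] W')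
    have hg : ∀ w w', g (D.φ (w ⊗ₜ w')) = f w' • w := by
      intro w w'
      simp [g]
    have h2 : ∀ v ∈ T, g v ∈ U := by
      intro v hv
      refine Submodule.span_induction ?_ ?_ ?_ ?_ hv
      · rintro v ⟨w, hw, w', rfl⟩
        rw [hg]
        exact U.smul_mem _ hw
      · rw [map_zero]; exact U.zero_mem
      · intro a b _ _ ha hb
        rw [map_add]; exact U.add_mem ha hb
      · intro k a _ ha
        rw [map_smul]; exact U.smul_mem k ha
    have h3 := h2 (D.φ (w ⊗ₜ w'₀)) (by rw [h1]; trivial)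
    rwa [hg, hf, one_smul] at h3

/-- only scalars of `W` commute with `L` -/
theorem Dec.sch (D : Dec L C W W') (h : Two L C) (f : Module.End K W)
    (hf : ∀ l ∈ L, f * D.ρ l = D.ρ l * f) : ∃ k : K, ∀ w, f w = k • w := by
  obtain ⟨w'₀, hw'₀⟩ := @exists_ne W' D.neR 0
  obtain ⟨p, hp⟩ := exists_dual (K := K) hw'₀
  let F : Module.End K V := (D.φ : W ⊗[K] W' →ₗ[K] V) ∘ₗ (TensorProduct.map f LinearMap.id) ∘ₗ
    (D.φ.symm : V →ₗ[K] W ⊗[K] W')
  have hF : ∀ w w', F (D.φ (w ⊗ₜ w')) = D.φ (f w ⊗ₜ w') := by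
    intro w w'
    simp [F]
  obtain ⟨k, hk⟩ := h.sch F
    (fun l hl => D.ext fun w w' => by
      show F (l _) = l (F _)
      rw [D.hl l hl, hF, hF, D.hl l hl]
      congr 2
      exact LinearMap.congr_fun (hf l hl) w)
    (fun c hc => D.ext fun w w' => by
      show F (c _) = c (F _)
      rw [D.hc c hc, hF, hF, D.hc c hc])
  refine ⟨k, fun w => ?_⟩
  have h1 := hk (D.φ (w ⊗ₜ w'₀))
  rw [hF, ← map_smul] at h1
  have h2 := D.φ.injective h1
  have h3 := congrArg (TensorProduct.lift ((LinearMap.lsmul K W).flip.compl₂ p) : W ⊗[K] W' →ₗ[K] W) h2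
  simpa [hp] using h3

/-- density: the `K`-span of `L` induces `End_K(W)` -/
theorem Dec.den (D : Dec L C W W') (h : Two L C) (g : Module.End K W) :
    ∃ x ∈ Algebra.adjoin K L, ∀ w w', x (D.φ (w ⊗ₜ w')) = D.φ (g w ⊗ₜ w') := by
  have := D.finL
  have := D.neL
  have key : ∀ y ∈ Algebra.adjoin K (D.ρ '' L), ∃ x ∈ Algebra.adjoin K L, ∀ w w',
      x (D.φ (w ⊗ₜ w')) = D.φ (y w ⊗ₜ w') := by
    intro y hy
    induction hy using Algebra.adjoin_induction with
    | mem y hy =>
      obtain ⟨l, hl, rfl⟩ := hy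
      exact ⟨l, Algebra.subset_adjoin hl, D.hl l hl⟩
    | algebraMap k =>
      refine ⟨algebraMap K _ k, Subalgebra.algebraMap_mem _ k, fun w w' => ?_⟩
      rw [Module.algebraMap_end_apply, Module.algebraMap_end_apply, ← map_smul, TensorProduct.smul_tmul']
    | add y z _ _ hy hz =>
      obtain ⟨a, ha, ha'⟩ := hy
      obtain ⟨b, hb, hb'⟩ := hz
      refine ⟨a + b, Subalgebra.add_mem _ ha hb, fun w w' => ?_⟩
      rw [LinearMap.add_apply, ha', hb', LinearMap.add_apply, TensorProduct.add_tmul, map_add]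
    | mul y z _ _ hy hz =>
      obtain ⟨a, ha, ha'⟩ := hy
      obtain ⟨b, hb, hb'⟩ := hz
      refine ⟨a * b, Subalgebra.mul_mem _ ha hb, fun w w' => ?_⟩
      rw [Module.End.mul_apply, hb', ha']; rfl
  let R := Algebra.adjoin K (D.ρ '' L)
  have hsim : IsSimpleModule R W := by
    rw [isSimpleModule_iff]
    refine { exists_pair_ne := ⟨⊥, ⊤, bot_ne_top⟩, eq_bot_or_eq_top := fun U => ?_ }
    rcases D.irr h (U.restrictScalars K) (fun l hl w hw =>
      U.smul_mem (⟨D.ρ l, Algebra.subset_adjoin ⟨l, hl, rfl⟩⟩ : R) hw) with h1 | h1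
    · left
      ext w
      rw [← Submodule.restrictScalars_mem K U w, h1]; rfl
    · right
      ext w
      rw [← Submodule.restrictScalars_mem K U w, h1]
      exact ⟨fun _ => trivial, fun _ => trivial⟩
  obtain ⟨r, hr⟩ := simple_density (R := R) g.toAddMonoidHom (by
    intro d m
    obtain ⟨k, hk⟩ := D.sch h (d.restrictScalars K) (fun l hl => by
      ext w
      exact map_smul d (⟨D.ρ l, Algebra.subset_adjoin ⟨l, hl, rfl⟩⟩ : R) w)
    have hk' : ∀ w, d w = k • w := hk
    rw [hk', hk']
    exact map_smul g k m)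
  obtain ⟨x, hx, hx'⟩ := key r r.2
  refine ⟨x, hx, fun w w' => ?_⟩
  rw [hx']
  congr 2
  exact (hr w).symm

end Dec

section Exist

variable {K V : Type u} [Field K] [AddCommGroup V] [Module K V] {L C : Set (Module.End K V)}

/-- **existence of the tensor decomposition** -/
theorem exists_dec [Finite V] [Nontrivial V] (h : Two L C) :
    ∃ (W W' : Type u) (_ : AddCommGroup W) (_ : Module K W) (_ : AddCommGroup W') (_ : Module K W'),
      Nonempty (Dec L C W W') := by
  classical
  let A := Algebra.adjoin K L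
  have hAC : ∀ a ∈ A, ∀ c ∈ Algebra.adjoin K C, a * c = c * a := h.comm_adjoin
  obtain ⟨W, hW⟩ : ∃ W : Submodule A V, IsSimpleModule A W := by
    obtain ⟨W, hW⟩ := IsAtomic.exists_atom (Submodule A V)
    exact ⟨W, isSimpleModule_iff_isAtom.2 hW⟩
  have hfin : Finite W := inferInstance
  let E : W ⊗[K] (W →ₗ[A] V) →ₗ[K] V := ev K A V W
  let lt : A → (Module.End K W) := fun a =>
    { toFun := fun w => a • w
      map_add' := fun w w' => smul_add _ _ _
      map_smul' := fun k w => smul_comm _ _ _ }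
  let cc : Module.End K V → (Module.End K (W →ₗ[A] V)) := fun c =>
    if hc : c ∈ Algebra.adjoin K C then
    { toFun := fun f =>
        { toFun := fun w => c (f w)
          map_add' := fun w w' => by rw [map_add, map_add]
          map_smul' := fun a w => by
            rw [map_smul, RingHom.id_apply]
            exact (LinearMap.congr_fun (hAC a a.2 c hc) (f w)).symm }
      map_add' := fun f g => by ext w; exact map_add c (f w) (g w)
      map_smul' := fun k f => by ext w; exact map_smul c k (f w) }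
    else 0
  have hcc : ∀ c ∈ Algebra.adjoin K C, ∀ f w, cc c f w = c (f w) := by
    intro c hc f w
    simp only [cc, dif_pos hc]
    rfl
  have hEl : ∀ (a : A) (w : W) (f : W →ₗ[A] V), (a : Module.End K V) (E (w ⊗ₜ f)) = E (lt a w ⊗ₜ f) :=
    fun a w f => (map_smul f a w).symm
  have hEc : ∀ c ∈ Algebra.adjoin K C, ∀ (w : W) (f : W →ₗ[A] V), c (E (w ⊗ₜ f)) = E (w ⊗ₜ cc c f) :=
    fun c hc w f => (hcc c hc f w).symm
  -- surjectivity
  have i1 : ∀ l ∈ L, ∀ v ∈ LinearMap.range E, l v ∈ LinearMap.range E := by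
    rintro l hl v ⟨x, rfl⟩
    induction x using TensorProduct.induction_on with
    | zero => rw [map_zero, map_zero]; exact zero_mem _
    | tmul w f => exact ⟨_, (hEl ⟨l, Algebra.subset_adjoin hl⟩ w f).symm⟩
    | add x y hx hy => rw [map_add, map_add]; exact add_mem hx hy
  have i2 : ∀ c ∈ C, ∀ v ∈ LinearMap.range E, c v ∈ LinearMap.range E := by
    rintro c hc v ⟨x, rfl⟩
    induction x using TensorProduct.induction_on with
    | zero => rw [map_zero, map_zero]; exact zero_mem _
    | tmul w f => exact ⟨_, (hEc c (Algebra.subset_adjoin hc) w f).symm⟩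
    | add x y hx hy => rw [map_add, map_add]; exact add_mem hx hy
  have hsurj : LinearMap.range E = ⊤ := by
    refine (h.irr (LinearMap.range E) i1 i2).resolve_left fun h1 => ?_
    obtain ⟨w, hw⟩ := @exists_ne W (IsSimpleModule.nontrivial A W) 0
    have h2 : E (w ⊗ₜ W.subtype) ∈ LinearMap.range E := ⟨_, rfl⟩
    rw [h1, Submodule.mem_bot] at h2
    exact hw (Subtype.ext h2)
  have hE : Function.Surjective E := LinearMap.range_eq_top.1 hsurj
  have hd : ∀ g : W →ₗ[K] W, ∃ a : A, ∀ w : W, g w = a • w := by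
    refine full_of (V := V) hE inferInstance ?_
    intro r hr
    exact h.sch (r : Module.End K V)
      (fun l hl => by
        ext v
        exact hr ⟨l, Algebra.subset_adjoin hl⟩ v)
      (fun c hc => hAC r r.2 c (Algebra.subset_adjoin hc))
  have hinj : Function.Injective E := ev_inj hd
  have hfin' : Finite (W →ₗ[A] V) := Finite.of_injective (fun f : W →ₗ[A] V => (f : W → V)) DFunLike.coe_injective
  have hne' : Nontrivial (W →ₗ[A] V) := by
    obtain ⟨w, hw⟩ := @exists_ne W (IsSimpleModule.nontrivial A W) 0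
    refine ⟨⟨W.subtype, 0, fun h1 => hw (Subtype.ext ?_)⟩⟩
    exact LinearMap.congr_fun h1 w
  exact ⟨W, W →ₗ[A] V, inferInstance, inferInstance, inferInstance, inferInstance, ⟨{
    φ := LinearEquiv.ofBijective E ⟨hinj, hE⟩
    ρ := fun l => if hl : l ∈ A then lt ⟨l, hl⟩ else 0
    ρ' := cc
    hl := fun l hl w w' => by
      have hl' : l ∈ A := Algebra.subset_adjoin hl
      rw [dif_pos hl']
      exact hEl ⟨l, hl'⟩ w w'
    hc := fun c hc w w' => hEc c (Algebra.subset_adjoin hc) w w'
    finL := hfin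
    finR := hfin'
    neL := IsSimpleModule.nontrivial A W
    neR := hne' }⟩⟩

end Exist

end Cfsg.Agent.Omega.NO1.Comp
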