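import Cfsg.Agent.Omega.NO1.Comp.Move

/-!
# THEOREM COMP (#17539): assembly, at most two components (helper789)

* `ks_tensor` : (KS) for a tensor decomposition;
* `Inp.two` : 'n = 2'.
-/

set_option autoImplicit false
set_option linter.unusedSectionVars false
set_option maxHeartbeats 400000

namespace Cfsg.Agent.Omega.NO1.Comp

open Module TensorProduct Cfsg.Agent.Lib.ComponentSolvable Subgroup
open Cfsg.Agent.Omega.EH3.Clif.Comp (ne_bot perf_sSup comm_sSup commutator_self)

universe u

variable {Y M : Type u} [Group Y] [AddCommGroup M] [DistribMulAction Y M]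
variable {U : Subgroup Y} {E F : AddSubgroup M} {K : Type u} [Field K] [Module K M]

/-- **(KS)** for a tensor decomposition: `U` acts non-trivially on the first factor -/
theorem ks_tensor (h : FlatA U E F) {W W' : Type u} [AddCommGroup W] [Module K W]
    [AddCommGroup W'] [Module K W'] (φ : W ⊗[K] W' ≃ₗ[K] M) (ρ : U → Module.End K W) (ρ' : U → Module.End K W')
    (hφ : ∀ (u : U) w w', (u : Y) • φ (w ⊗ₜ w') = φ (ρ u w ⊗ₜ ρ' u w')) (hd : 2 ≤ finrank K W) :
    ∃ u, ρ u ≠ 1 := by
  by_contra hcon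
  push Not at hcon
  have : FiniteDimensional K W := FiniteDimensional.of_finrank_pos (by omega)
  have hW : Nontrivial W := Module.nontrivial_of_finrank_pos (R := K) (by omega)
  obtain ⟨a, ha⟩ := exists_ne (0 : W)
  obtain ⟨f, hf⟩ := exists_dual (K := K) ha
  obtain ⟨b, hb, hb0⟩ : ∃ b : W, f b = 0 ∧ b ≠ 0 := by
    have h1 := f.finrank_range_add_finrank_ker
    have h2 : finrank K (LinearMap.range f) ≤ 1 := by
      have h3 := Submodule.finrank_le (LinearMap.range f)
      rwa [Module.finrank_self] at h3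
    have h3 : 0 < finrank K (LinearMap.ker f) := by omega
    obtain ⟨⟨b, hb⟩, hb0⟩ := @exists_ne _ (Module.nontrivial_of_finrank_pos (R := K) h3) 0
    exact ⟨b, hb, fun h4 => hb0 (Subtype.ext h4)⟩
  let π : Module.End K W := (LinearMap.toSpanSingleton K W a) ∘ₗ f
  have hπ : ∀ w, π w = f w • a := fun w => rfl
  let P : Module.End K M := (φ : W ⊗[K] W' →ₗ[K] M) ∘ₗ (TensorProduct.map π LinearMap.id) ∘ₗ
    (φ.symm : M →ₗ[K] W ⊗[K] W')
  have hP : ∀ w w', P (φ (w ⊗ₜ w')) = φ ((f w • a) ⊗ₜ w') := by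
    intro w w'
    simp [P, hπ]
  have hPP : ∀ m, P (P m) = P m := by
    intro m
    obtain ⟨x, rfl⟩ := φ.surjective m
    induction x using TensorProduct.induction_on with
    | zero => simp
    | tmul w w' => rw [hP, hP, map_smul, hf, smul_eq_mul, mul_one]
    | add x y hx hy => rw [map_add, map_add, map_add, hx, hy]
  have hPu : ∀ (u : U) m, P ((u : Y) • m) = (u : Y) • P m := by
    intro u m
    obtain ⟨x, rfl⟩ := φ.surjective m
    induction x using TensorProduct.induction_on with
    | zero => simp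
    | tmul w w' => rw [hφ, hP, hP, hφ, hcon u]; rfl
    | add x y hx hy => rw [map_add, smul_add, map_add, map_add, smul_add, hx, hy]
  have hks := h.ks (A := (LinearMap.range P).toAddSubgroup) (B := (LinearMap.ker P).toAddSubgroup) (by
      rintro u hu _ ⟨m, rfl⟩
      exact ⟨u • m, hPu ⟨u, hu⟩ m⟩) (by
      intro u hu m hm
      have hm' : P m = 0 := hm
      show P (u • m) = 0
      rw [hPu ⟨u, hu⟩ m, hm']
      exact smul_zero u) (by
      rw [eq_bot_iff]
      rintro _ ⟨⟨m, rfl⟩, hm⟩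
      have hm' : P (P m) = 0 := hm
      rw [hPP] at hm'
      exact hm') (by
      rw [eq_top_iff]
      intro m _
      have h1 : m = P m + (m - P m) := by abel
      rw [h1]
      refine AddSubgroup.add_mem_sup ⟨m, rfl⟩ ?_
      show P (m - P m) = 0
      rw [map_sub, hPP, sub_self])
  have key : ∀ c : W, c ≠ 0 → (∀ w' : W', φ (c ⊗ₜ w') ∈ F) → False := by
    intro c hc hcF
    apply h.ne
    intro e he
    rw [h.F_iff]
    intro u hu
    have h1 : ∀ w', ρ' ⟨u, hu⟩ w' = w' := by
      intro w'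
      obtain ⟨g, hg⟩ := exists_dual (K := K) hc
      have h2 := h.fix (hcF w') hu
      rw [show u • φ (c ⊗ₜ w') = φ (ρ ⟨u, hu⟩ c ⊗ₜ ρ' ⟨u, hu⟩ w') from hφ ⟨u, hu⟩ c w', hcon] at h2
      have h3 := congrArg (TensorProduct.lift ((LinearMap.lsmul K W') ∘ₗ g) : W ⊗[K] W' →ₗ[K] W') (φ.injective h2)
      simpa [hg] using h3
    obtain ⟨x, rfl⟩ := φ.surjective e
    clear he
    induction x using TensorProduct.induction_on with
    | zero => rw [map_zero]; exact smul_zero u
    | tmul w w' =>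
      rw [show u • φ (w ⊗ₜ w') = φ (ρ ⟨u, hu⟩ w ⊗ₜ ρ' ⟨u, hu⟩ w') from hφ ⟨u, hu⟩ w w', hcon, h1]
      rfl
    | add x y hx hy => rw [map_add, smul_add, hx, hy]
  rcases hks with h1 | h1
  · refine key a ha fun w' => h1 ⟨φ (a ⊗ₜ w'), ?_⟩
    rw [hP, hf, one_smul]
  · refine key b hb0 fun w' => h1 ?_
    show P (φ (b ⊗ₜ w')) = 0
    rw [hP, hb, zero_smul, TensorProduct.zero_tmul, map_zero]

variable [Finite Y] [Finite M] [FaithfulSMul Y M] [Finite K] [CharP K 2]

/-- the transported action -/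
noncomputable def trAct {N : Type u} [AddCommGroup N] [Module K N] (hl : ∀ u ∈ U, ∀ (k : K) (v : M), u • k • v = k • u • v)
    (φ : N ≃ₗ[K] M) : U →* Module.End K N where
  toFun u := (φ.symm : M →ₗ[K] N) ∘ₗ (actK hl u) ∘ₗ (φ : N →ₗ[K] M)
  map_one' := by
    ext y
    simp
  map_mul' a b := by
    apply LinearMap.ext
    intro y
    show φ.symm (actK hl (a * b) (φ y)) = φ.symm (actK hl a (φ (φ.symm (actK hl b (φ y)))))
    rw [LinearEquiv.apply_symm_apply, map_mul]
    rfl

theorem trAct_apply {N : Type u} [AddCommGroup N] [Module K N]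
    (hl : ∀ u ∈ U, ∀ (k : K) (v : M), u • k • v = k • u • v) (φ : N ≃ₗ[K] M) (u : U) (y : N) :
    trAct hl φ u y = φ.symm ((u : Y) • φ y) := rfl

/-- the flat structure on `N` -/
theorem Inp.kflat (h : Inp U E F) (hf : Fld U K M) {N : Type u} [AddCommGroup N] [Module K N] (φ : N ≃ₗ[K] M) :
    KFlat (trAct hf.hl φ) ((h.flat.EK hf.hl).map φ.symm.toLinearMap) ((h.flat.FK hf.hl).map φ.symm.toLinearMap) :=
  (h.flat.kflat hf.hl h.four h.pf h.rk).congr φ.symm (fun u v => by
    rw [trAct_apply, LinearEquiv.apply_symm_apply]; rfl)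

/-- **'n = 2'** -/
theorem Inp.two (h : Inp U E F) (hf : Fld U K M) {K₁ K₂ L : Subgroup Y} (h1 : IsComponent K₁) (h2 : IsComponent K₂)
    (hL : IsComponent L) (h12 : K₁ ≠ K₂) : L = K₁ ∨ L = K₂ := by
  by_contra hcon
  push Not at hcon
  have := h.nontrivial
  obtain ⟨R, hR⟩ : ∃ R, R = sSup {J : Subgroup Y | IsComponent J ∧ J ≠ K₁ ∧ J ≠ K₂} := ⟨_, rfl⟩
  have hLR : L ≤ R := by rw [hR]; exact le_sSup ⟨hL, hcon.1, hcon.2⟩
  have hR1 : R ≠ ⊥ := fun h3 => ne_bot hL (le_bot_iff.1 (h3 ▸ hLR))
  have hRp : ⁅R, R⁆ = R := by rw [hR]; exact perf_sSup fun J hJ => hJ.1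
  have cR : ∀ J, IsComponent J → (J = K₁ ∨ J = K₂) → ∀ x ∈ J, ∀ y ∈ R, x * y = y * x := by
    intro J hJ hJ2
    have h3 := comm_sSup (s := {J}) (t := {J : Subgroup Y | IsComponent J ∧ J ≠ K₁ ∧ J ≠ K₂}) (by
      intro M hM
      rw [Set.mem_singleton_iff.mp hM]
      exact hJ) (fun L hL => hL.1) (by
      intro M hM hM'
      rw [Set.mem_singleton_iff.mp hM] at hM'
      rcases hJ2 with h4 | h4
      · exact hM'.2.1 h4
      · exact hM'.2.2 h4)
    rw [sSup_singleton] at h3
    rw [hR]
    exact h3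
  have c₁₂ : ∀ x ∈ K₁, ∀ y ∈ K₂, x * y = y * x := by
    have h3 := comm_sSup (s := {K₁}) (t := {K₂}) (by
      intro M hM
      rw [Set.mem_singleton_iff.mp hM]
      exact h1) (by
      intro M hM
      rw [Set.mem_singleton_iff.mp hM]
      exact h2) (by
      intro M hM hM'
      exact h12 ((Set.mem_singleton_iff.mp hM).symm.trans (Set.mem_singleton_iff.mp hM')))
    rwa [sSup_singleton, sSup_singleton] at h3
  have hsup : K₁ ⊔ K₂ ⊔ R = layer Y := by
    apply le_antisymm
    · refine sup_le (sup_le (le_sSup h1) (le_sSup h2)) ?_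
      rw [hR]
      exact sSup_le fun J hJ => le_sSup hJ.1
    · refine sSup_le fun J hJ => ?_
      by_cases h3 : J = K₁
      · rw [h3]; exact le_sup_left.trans le_sup_left
      by_cases h4 : J = K₂
      · rw [h4]; exact le_sup_right.trans le_sup_left
      · refine le_trans ?_ le_sup_right
        rw [hR]
        exact le_sSup ⟨hJ, h3, h4⟩
  have l₁ : K₁ ≤ layer Y := le_sSup h1
  have l₂ : K₂ ≤ layer Y := le_sSup h2
  have lR : R ≤ layer Y := by rw [← hsup]; exact le_sup_right
  have hT := two_of3 (K := K) (V := M) c₁₂ (cR K₁ h1 (Or.inl rfl)) (by rw [hsup]; exact hf.lin)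
    (by rw [hsup]; exact h.irr) (by rw [hsup]; exact hf.sch)
  obtain ⟨A, B, X, _, _, _, _, _, _, ⟨D⟩⟩ := exists_dec3 hT (linSet_comm (cR K₂ h2 (Or.inr rfl)))
  have := D.finA
  have := D.finB
  have := D.finX
  have := D.neA
  have := D.neB
  have := D.neX
  have hsq : ∀ u : U, u * u = 1 := fun u => Subtype.ext (h.sq u u.2)
  have hrr : ∀ (u : U) v, actK (V := M) hf.hl u (actK hf.hl u v) = v := fun u v => by
    rw [← Module.End.mul_apply, ← map_mul, hsq, map_one, Module.End.one_apply]
  have hn : ∀ {J : Subgroup Y}, IsComponent J → J ≤ layer Y → ∀ u : U, ∀ l ∈ linSet K M (J : Set Y),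
      ∃ l' ∈ linSet K M (J : Set Y), ∀ v, actK hf.hl u (l v) = l' (actK hf.hl u v) := by
    intro J hJ hJl u l hl
    exact linSet_conj (fun y hy => hf.lin y (hJl hy))
      (fun n hn => (mem_normalizer_iff.1 (h.norm hf hJ u.2) n).1 hn) hl
  obtain ⟨rA, rB, rX, hr⟩ := Swap.exists_hom3 D.φ (actK hf.hl) hsq (fun u => by
    obtain ⟨α', β', γ', h3', h4', h5', h6'⟩ := D.exists_pure (RingEquiv.refl K) (inv2 (actK hf.hl u) (hrr u))
      (fun k v => map_smul (actK hf.hl u) k v) (hn h1 l₁ u) (flip_of hrr (hn h1 l₁ u)) (hn h2 l₂ u)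
      (flip_of hrr (hn h2 l₂ u))
    exact ⟨(lin α' h3').toLinearMap, (lin β' h4').toLinearMap, (lin γ' h5').toLinearMap, h6'⟩)
  -- dimensions
  have dA := dim_of (K := K) (V := M) (commutator_self h1) (ne_bot h1) (fun y hy => hf.lin y (l₁ hy)) D.φ D.ρ₁
    (fun l hl w m => D.h₁ l hl (w ⊗ₜ m))
  have dB := dim_of (K := K) (V := M) (commutator_self h2) (ne_bot h2) (fun y hy => hf.lin y (l₂ hy))
    ((TensorProduct.leftComm K B A X).trans D.φ) D.ρ₂
    (fun l hl b m => by
      induction m using TensorProduct.induction_on with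
      | zero => rw [TensorProduct.tmul_zero, TensorProduct.tmul_zero, map_zero, map_zero]
      | tmul a x =>
        show l (D.φ (a ⊗ₜ (b ⊗ₜ x))) = D.φ (a ⊗ₜ (D.ρ₂ l b ⊗ₜ x))
        rw [D.h₂ l hl]
        rfl
      | add a b ha hb => rw [TensorProduct.tmul_add, TensorProduct.tmul_add, map_add, map_add, map_add, ha, hb])
  have dX := dim_of (K := K) (V := M) hRp hR1 (fun y hy => hf.lin y (lR hy))
    ((TensorProduct.comm K X (A ⊗[K] B)).trans ((TensorProduct.assoc K A B X).trans D.φ)) D.ρ₃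
    (fun l hl x m => by
      induction m using TensorProduct.induction_on with
      | zero => rw [TensorProduct.tmul_zero, TensorProduct.tmul_zero, map_zero, map_zero]
      | tmul a b =>
        show l (D.φ (a ⊗ₜ (b ⊗ₜ x))) = D.φ (a ⊗ₜ (b ⊗ₜ D.ρ₃ l x))
        rw [D.h₃ l hl]
        rfl
      | add a b ha hb => rw [TensorProduct.tmul_add, TensorProduct.tmul_add, map_add, map_add, map_add, ha, hb])
  have dBX : 4 ≤ finrank K (B ⊗[K] X) := by
    rw [Module.finrank_tensorProduct]
    nlinarith [dB.1, dX.1]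
  let ρ' : U →* Module.End K (B ⊗[K] X) :=
    { toFun := fun u => TensorProduct.map (rB u) (rX u)
      map_one' := by rw [map_one, map_one]; exact TensorProduct.map_one
      map_mul' := fun a b => by rw [map_mul, map_mul]; exact TensorProduct.map_mul _ _ _ _ }
  have hφ : ∀ (u : U) a m, (u : Y) • D.φ (a ⊗ₜ m) = D.φ (rA u a ⊗ₜ ρ' u m) := by
    intro u a m
    induction m using TensorProduct.induction_on with
    | zero => simp
    | tmul b x => exact hr u a b x
    | add x y hx hy => rw [TensorProduct.tmul_add, map_add, smul_add, hx, hy, map_add, TensorProduct.tmul_add, map_add]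
  have P : PFlat rA ρ' (trAct hf.hl D.φ) _ _ :=
    { flat := h.kflat hf D.φ
      act_eq := fun u => by
        apply TensorProduct.ext'
        intro a m
        rw [trAct_apply, LinearEquiv.symm_apply_eq]
        exact hφ u a m
      n := ks_tensor h.flat D.φ (fun u => rA u) (fun u => ρ' u) hφ dA.1
      n' := ks_tensor h.flat ((TensorProduct.comm K (B ⊗[K] X) A).trans D.φ) (fun u => ρ' u) (fun u => rA u)
        (fun u m a => hφ u a m) (by omega)
      d := dA.1
      d' := by omega }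
  have hfA : Module.Finite K A := Module.Finite.of_finite
  have hfB : Module.Finite K B := Module.Finite.of_finite
  have hfX : Module.Finite K X := Module.Finite.of_finite
  obtain ⟨r, hr1, hr2⟩ := P.exists_cuW (fun _ => by omega)
  have h3 := P.trans hr1 hr2
  have h4 : 2 ≤ finrank K (LinearMap.range (TensorProduct.map (rB r) (rX r) - 1)) := by
    apply two_le_rank
    · intro b
      rw [← Module.End.mul_apply, ← map_mul, hsq, map_one, Module.End.one_apply]
    · intro b
      rw [← Module.End.mul_apply, ← map_mul, hsq, map_one, Module.End.one_apply]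
    · exact dB.1
    · exact dX.1
    · exact fun h5 => hr1 (P.eq_one hr2 h5)
  have h5 : finrank K (LinearMap.range (ρ' r - 1)) = 1 := h3
  have h6 : (ρ' r - 1 : Module.End K (B ⊗[K] X)) = TensorProduct.map (rB r) (rX r) - 1 := rfl
  rw [h6] at h5
  omega

end Cfsg.Agent.Omega.NO1.Comp
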